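import Mathlib
import Cfsg.Agent.J4T.HypA
import Cfsg.Agent.Loc.MssSyl

/-!
Groups with an element of order 3 whose centraliser is a 3- or 6-fold cover of `M22`: definitions.
-/

set_option autoImplicit false

namespace Cfsg.Agent.J3L

open Cfsg Cfsg.Agent.Spor.MB Cfsg.Agent.Loc.Mss Subgroup

/-- centraliser of an element -/
scoped notation:max "𝐜[" x "]" => Subgroup.centralizer (Singleton.singleton x : Set _)

variable {G : Type*} [Group G]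

theorem mem_c {x g : G} : g ∈ 𝐜[x] ↔ Commute x g :=
  mem_centralizer_singleton_iff.trans ⟨fun h => h.symm, fun h => h.symm⟩

theorem cj_c (g x : G) : cj(g, 𝐜[x]) = 𝐜[g * x * g⁻¹] := by
  ext y
  rw [mem_cj, mem_c, mem_c]
  exact ⟨fun h => by
    have := h.eq
    calc g * x * g⁻¹ * y = g * (x * (g⁻¹ * y * g)) * g⁻¹ := by group
      _ = y * (g * x * g⁻¹) := by rw [this]; group, fun h => by
    have := h.eq
    calc x * (g⁻¹ * y * g) = g⁻¹ * (g * x * g⁻¹ * y) * g := by group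
      _ = g⁻¹ * y * g * x := by rw [this]; group⟩

theorem cj_zpowers (g x : G) : cj(g, zpowers x) = zpowers (g * x * g⁻¹) := MonoidHom.map_zpowers _ _

theorem comm_conj {a b : G} (h : Commute a b) (g : G) : Commute (g * a * g⁻¹) (g * b * g⁻¹) :=
  h.map (MulAut.conj g)

theorem ord_conj (g a : G) : orderOf (g * a * g⁻¹) = orderOf a := (MulAut.conj g).orderOf_eq a

/-- `x` is in the four-group generated by `a` and `b`. -/
def In4 (a b x : G) : Prop := x = 1 ∨ x = a ∨ x = b ∨ x = a * b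

/-- The product of the three conjugates of `t` under `b`. -/
def tr3 (b t : G) : G := t * (b * t * b⁻¹) * (b⁻¹ * t * b)

theorem tr3_conj (g b t : G) : tr3 (g * b * g⁻¹) (g * t * g⁻¹) = g * tr3 b t * g⁻¹ := by
  unfold tr3; group

theorem map_tr3 {K : Type*} [Group K] (f : G →* K) (b t : G) : f (tr3 b t) = tr3 (f b) (f t) := by
  simp [tr3]

/-- The elements of the four-groups in `C(a) ⊓ C(r)` on which `b` acts without fixed points. -/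
def Es (a b r : G) : Set G :=
  {t | Commute a t ∧ Commute r t ∧ t * t = 1 ∧ Commute t (b * t * b⁻¹) ∧ tr3 b t = 1}

theorem Es_conj {a b r t : G} (h : t ∈ Es a b r) (g : G) :
    g * t * g⁻¹ ∈ Es (g * a * g⁻¹) (g * b * g⁻¹) (g * r * g⁻¹) := by
  obtain ⟨h1, h2, h3, h4, h5⟩ := h
  refine ⟨comm_conj h1 g, comm_conj h2 g, by rw [conj_mul, h3]; group, ?_, by rw [tr3_conj, h5]; group⟩
  have := comm_conj h4 g
  rwa [show g * (b * t * b⁻¹) * g⁻¹ = g * b * g⁻¹ * (g * t * g⁻¹) * (g * b * g⁻¹)⁻¹ by group] at this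

/-- The facts on `M22` that are used. -/
structure MD where
  (a1 a2 r1 r2 v1 p1 d1 τ μ ν α β : PG)
  (U B : Subgroup PG)
  B_le : B ≤ Spor.M22
  U_le : U ≤ B
  nU : B ≤ 𝐍[U]
  memB : a1 ∈ B ∧ a2 ∈ B ∧ p1 ∈ B ∧ τ ∈ B ∧ μ ∈ B ∧ ν ∈ B ∧ α ∈ B ∧ β ∈ B
  d1_mem : d1 ∈ Spor.M22
  a1_ord : orderOf a1 = 3
  a2_ord : orderOf a2 = 3
  a12 : Commute a1 a2
  mem_U : ∀ u, u ∈ U ↔ ∃ ρ v, In4 r1 r2 ρ ∧ In4 v1 (a1 * v1 * a1⁻¹) v ∧ u = ρ * v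
  U_sq : ∀ u ∈ U, u * u = 1
  card_U : Nat.card U = 16
  indep : ∀ ρ v, In4 r1 r2 ρ → In4 v1 (a1 * v1 * a1⁻¹) v → ρ = v → ρ = 1
  r_ne : r1 ≠ 1 ∧ r2 ≠ 1 ∧ r1 ≠ r2
  v_ne : v1 ≠ 1
  a1_r : Commute a1 r1 ∧ Commute a1 r2
  a2_r : a2 * r1 * a2⁻¹ = r2 ∧ a2 * r2 * a2⁻¹ = r1 * r2
  a1_v : tr3 a1 v1 = 1
  a2_v : Commute a2 v1
  cent_a1 : ∀ c ∈ Spor.M22, Commute a1 c → ∃ (i j : ℕ) (ρ : PG), In4 r1 r2 ρ ∧ c = a1 ^ i * a2 ^ j * ρ
  conj3 : ∀ c ∈ Spor.M22, ∀ k : ℕ, c ^ 3 ^ k = 1 → c ≠ 1 → ∃ m ∈ Spor.M22, m * a1 * m⁻¹ = c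
  conj2 : ∀ c ∈ Spor.M22, c * c = 1 → c ≠ 1 → ∃ m ∈ Spor.M22, m * r1 * m⁻¹ = c
  cent_R : ∀ c ∈ Spor.M22, Commute r1 c → Commute r2 c → ∃ u ∈ U, ∃ i : ℕ, c = u * a1 ^ i
  cent_r_B : ∀ c ∈ Spor.M22, Commute r1 c → c ∈ B
  cent_r_exp : ∀ c ∈ Spor.M22, Commute r1 c → c ^ 24 = 1
  cent_r_fac : ∀ c ∈ Spor.M22, Commute r1 c → ∃ p v n, In4 p1 (a1 * p1 * a1⁻¹) p ∧ In4 v1 (a1 * v1 * a1⁻¹) v ∧
    c = p * v * n ∧ (n * a1 * n⁻¹ = a1 ∨ n * a1 * n⁻¹ = a1⁻¹)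
  cent_r_tr : ∀ c ∈ Spor.M22, Commute r1 c → c ^ 4 = 1 → tr3 a1 c = 1 ∨ tr3 a1 c = r1 →
    ∃ p v, In4 p1 (a1 * p1 * a1⁻¹) p ∧ In4 v1 (a1 * v1 * a1⁻¹) v ∧ (c = p * v ∨ c = p * v * r1)
  mem_E : ∀ t ∈ Spor.M22, t ∈ Es 1 a1 r1 ↔ In4 v1 (a1 * v1 * a1⁻¹) t ∨ In4 p1 (a1 * p1 * a1⁻¹) t ∨
    In4 p1 (a1 * p1 * a1⁻¹) (r2 * t * r2⁻¹)
  E_comm : ∀ t ∈ Spor.M22, ∀ t' ∈ Spor.M22, t ∈ Es 1 a1 r1 → t' ∈ Es 1 a1 r1 → Commute t t' ∨ t * t' = r1 * (t' * t)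
  p_notU : ∀ p, In4 p1 (a1 * p1 * a1⁻¹) p → p ∈ U → p = 1
  p_ne : p1 ≠ 1
  pw : r2 * p1 * r2⁻¹ = p1 * (r1 * v1)
  pv : Commute p1 v1 ∧ ¬ Commute p1 (a1 * v1 * a1⁻¹) ∧ ¬ Commute (a1 * p1 * a1⁻¹) v1
  E_cent : ∀ p v, In4 p1 (a1 * p1 * a1⁻¹) p → In4 v1 (a1 * v1 * a1⁻¹) v → Commute v1 (p * v) →
    Commute (a1 * v1 * a1⁻¹) (p * v) → Commute p1 (p * v) → Commute (a1 * p1 * a1⁻¹) (p * v) → p = 1 ∧ v = 1
  m6 : orderOf (p1 * (ν * p1 * ν⁻¹)) = 3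
  dc : ∀ c ∈ Spor.M22, ∃ m ∈ B, ∃ n ∈ B, c = m * n ∨ c = m * d1 * n ∨ c = m * (d1⁻¹ * r1 * d1) * n
  d1_a : d1⁻¹ * a1 * d1 ∈ B ∧ d1⁻¹ * a2 * d1 ∈ B
  m8 : ∃ u ∈ U, ∃ u' ∈ U, 3 ∣ orderOf (u * (d1 * u' * d1⁻¹))
  m10 : μ * a2 * μ⁻¹ = a1 ∧ μ * r1 * μ⁻¹ = v1 ∧ μ * a1 * μ⁻¹ = a2⁻¹
  m11 : τ * a1 * τ⁻¹ = a1⁻¹ ∧ Commute τ r1 ∧ τ * r2 * τ⁻¹ = r1 * r2
  d8 : α * α = 1 ∧ β * β = 1 ∧ (α * β) ^ 2 * (α * β) ^ 2 = 1 ∧ α ≠ 1 ∧ β ≠ 1 ∧ (α * β) ^ 2 ≠ 1 ∧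
    Nat.card ↥(U ⊔ closure {α, β}) = 128
  rank : ∀ F : Subgroup PG, F ≤ Spor.M22 → (∀ t ∈ F, t * t = 1) → Nat.card F ≤ 16

/-- Two generators of an elementary abelian group of order 9. -/
structure Pr (a b : G) : Prop where
  a3 : orderOf a = 3
  b3 : orderOf b = 3
  comm : Commute a b
  nm : b ∉ zpowers a

/-- The group generated by `a` and `b`. -/
def AA (a b : G) : Subgroup G := zpowers a ⊔ zpowers b

/-- The 2-part of the centraliser of `A`. -/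
def RR (A : Subgroup G) : Subgroup G := omegaOne 2 𝐂[A]

/-- The preimage of the hexad group. -/
def UU (A : Subgroup G) (a : G) : Subgroup G := omegaOne 2 (𝐜[a] ⊓ 𝐂[RR A])

/-- A four-group. -/
def VV (A : Subgroup G) (a : G) : Subgroup G := ⁅UU A a, A⁆

/-- The large elementary abelian group. -/
def VA (A : Subgroup G) : Subgroup G := ⨆ a : {a : G // a ∈ A ∧ a ≠ 1}, UU A a

/-- Its commutator with `a`. -/
def WW (A : Subgroup G) (a : G) : Subgroup G := ⁅VA A, zpowers a⁆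

/-- The generators of the extraspecial group. -/
def EE (x z : G) : Set G := {t | ∃ y, Pr x y ∧ t ∈ Es y x z}

/-- The extraspecial group. -/
def QQ (x z : G) : Subgroup G := closure (EE x z)

theorem cj_AA (g a b : G) : cj(g, AA a b) = AA (g * a * g⁻¹) (g * b * g⁻¹) := by
  rw [AA, cj_sup, cj_zpowers, cj_zpowers, AA]

theorem cj_RR (g : G) (A : Subgroup G) : cj(g, RR A) = RR cj(g, A) := by rw [RR, cj_omega, cj_cent, RR]

theorem cj_UU (g : G) (A : Subgroup G) (a : G) : cj(g, UU A a) = UU cj(g, A) (g * a * g⁻¹) := by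
  rw [UU, cj_omega, cj_inf, cj_c, cj_cent, cj_RR, UU]

theorem cj_VV (g : G) (A : Subgroup G) (a : G) : cj(g, VV A a) = VV cj(g, A) (g * a * g⁻¹) := by
  rw [VV, cj_comm, cj_UU, VV]

theorem UU_le_VA {A : Subgroup G} {a : G} (ha : a ∈ A) (h1 : a ≠ 1) : UU A a ≤ VA A :=
  le_iSup (fun a : {a : G // a ∈ A ∧ a ≠ 1} => UU A a) ⟨a, ha, h1⟩

theorem VA_le {A K : Subgroup G} (h : ∀ a ∈ A, a ≠ 1 → UU A a ≤ K) : VA A ≤ K := iSup_le fun a => h a a.2.1 a.2.2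

theorem cj_VA_le (g : G) (A : Subgroup G) : cj(g, VA A) ≤ VA cj(g, A) := by
  rw [cj_le_iff_le_inv]
  refine VA_le fun a ha h1 => ?_
  rw [← cj_le_iff_le_inv, cj_UU]
  exact UU_le_VA (conj_mem_cj ha) (by simpa using h1)

theorem cj_VA (g : G) (A : Subgroup G) : cj(g, VA A) = VA cj(g, A) := by
  refine le_antisymm (cj_VA_le g A) ?_
  have := cj_VA_le g⁻¹ cj(g, A)
  rwa [cj_inv_cj, ← le_cj_iff_inv_le] at this

theorem cj_WW (g : G) (A : Subgroup G) (a : G) : cj(g, WW A a) = WW cj(g, A) (g * a * g⁻¹) := by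
  rw [WW, cj_comm, cj_VA, cj_zpowers, WW]

theorem c_inv (a : G) : 𝐜[a⁻¹] = 𝐜[a] := by
  ext g; rw [mem_c, mem_c, Commute.inv_left_iff]

theorem UU_inv (A : Subgroup G) (a : G) : UU A a⁻¹ = UU A a := by rw [UU, c_inv, UU]

theorem VV_inv (A : Subgroup G) (a : G) : VV A a⁻¹ = VV A a := by rw [VV, UU_inv, VV]

theorem WW_inv (A : Subgroup G) (a : G) : WW A a⁻¹ = WW A a := by rw [WW, zpowers_inv, WW]

theorem norm_RR {A : Subgroup G} {g : G} (h : g ∈ 𝐍[A]) : g ∈ 𝐍[RR A] :=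
  cj_eq_iff.1 (by rw [cj_RR, cj_of_norm h])

theorem norm_VA {A : Subgroup G} {g : G} (h : g ∈ 𝐍[A]) : g ∈ 𝐍[VA A] :=
  cj_eq_iff.1 (by rw [cj_VA, cj_of_norm h])

theorem norm_UU {A : Subgroup G} {a g : G} (h : g ∈ 𝐍[A]) (ha : Commute a g) : g ∈ 𝐍[UU A a] :=
  cj_eq_iff.1 (by rw [cj_UU, cj_of_norm h, ← ha.eq, mul_inv_cancel_right])

theorem norm_VV {A : Subgroup G} {a g : G} (h : g ∈ 𝐍[A]) (ha : Commute a g) : g ∈ 𝐍[VV A a] :=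
  cj_eq_iff.1 (by rw [cj_VV, cj_of_norm h, ← ha.eq, mul_inv_cancel_right])

theorem left_mem_AA (a b : G) : a ∈ AA a b := mem_sup_left (mem_zpowers a)

theorem right_mem_AA (a b : G) : b ∈ AA a b := mem_sup_right (mem_zpowers b)

theorem AA_le {a b : G} {K : Subgroup G} (ha : a ∈ K) (hb : b ∈ K) : AA a b ≤ K :=
  sup_le (zpowers_le.2 ha) (zpowers_le.2 hb)

theorem AA_comm (a b : G) : AA a b = AA b a := sup_comm _ _

theorem mem_cent_AA {a b g : G} : g ∈ 𝐂[AA a b] ↔ Commute a g ∧ Commute b g :=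
  ⟨fun h => ⟨mem_cent.1 h a (left_mem_AA a b), mem_cent.1 h b (right_mem_AA a b)⟩, fun h =>
    cent_comm (A := AA a b) (B := zpowers g) (AA_le (by
      rw [← zpowers_le]; exact cent_comm (zpowers_le.2 (by rw [mem_cent]; rintro _ ⟨k, rfl⟩; exact (h.1.zpow_left k).eq)))
      (by rw [← zpowers_le]; exact cent_comm (zpowers_le.2 (by
        rw [mem_cent]; rintro _ ⟨k, rfl⟩; exact (h.2.zpow_left k).eq)))) (mem_zpowers g)⟩

theorem mem_zpowers_three {a g : G} (h : orderOf a = 3) : g ∈ zpowers a ↔ g = 1 ∨ g = a ∨ g = a⁻¹ := by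
  have h3 : a ^ 3 = 1 := h ▸ pow_orderOf_eq_one a
  refine ⟨fun ⟨k, hk⟩ => ?_, by rintro (rfl | rfl | rfl); exacts [one_mem _, mem_zpowers _, inv_mem (mem_zpowers _)]⟩
  have h1 : a ^ k = a ^ (k % 3) := by rw [← zpow_mod_orderOf, h]; rfl
  have h2 : k % 3 = 0 ∨ k % 3 = 1 ∨ k % 3 = 2 := by omega
  dsimp only at hk
  rcases h2 with e | e | e <;> rw [← hk, h1, e]
  · simp
  · simp
  · exact .inr (.inr (eq_inv_of_mul_eq_one_left (by rw [← h3]; group)))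

namespace Pr

variable {a b : G} (p : Pr a b)
include p

theorem a_cube : a ^ 3 = 1 := p.a3 ▸ pow_orderOf_eq_one a

theorem b_cube : b ^ 3 = 1 := p.b3 ▸ pow_orderOf_eq_one b

theorem a_ne : a ≠ 1 := fun e => by simpa [e] using p.a3

theorem b_ne : b ≠ 1 := fun e => by simpa [e] using p.b3

theorem symm : Pr b a := ⟨p.b3, p.a3, p.comm.symm, fun h => by
  rcases (mem_zpowers_three p.b3).1 h with e | e | e
  · exact p.a_ne e
  · exact p.nm (e ▸ mem_zpowers a)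
  · exact p.nm (by rw [e, zpowers_inv]; exact mem_zpowers b)⟩

theorem conj (g : G) : Pr (g * a * g⁻¹) (g * b * g⁻¹) :=
  ⟨(ord_conj g a).trans p.a3, (ord_conj g b).trans p.b3, comm_conj p.comm g, fun h => p.nm (by
    rw [← cj_zpowers, mem_cj] at h; simpa [mul_assoc] using h)⟩

theorem inv_left : Pr a⁻¹ b := ⟨(orderOf_inv a).trans p.a3, p.b3, p.comm.inv_left, by rw [zpowers_inv]; exact p.nm⟩

theorem inv_right : Pr a b⁻¹ := p.symm.inv_left.symm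

theorem le_cent : AA a b ≤ 𝐂[AA a b] :=
  AA_le (mem_cent_AA.2 ⟨Commute.refl a, p.comm.symm⟩) (mem_cent_AA.2 ⟨p.comm, Commute.refl b⟩)

theorem comm_of_mem {c d : G} (hc : c ∈ AA a b) (hd : d ∈ AA a b) : Commute c d := mem_cent.1 (p.le_cent hd) c hc

theorem mem_AA {c : G} : c ∈ AA a b ↔ ∃ s ∈ zpowers a, ∃ t ∈ zpowers b, s * t = c :=
  mem_sup_norm (norm_of_cent ((le_sup_right.trans p.le_cent).trans (cent_anti le_sup_left)))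

theorem cube {c : G} (hc : c ∈ AA a b) : c ^ 3 = 1 := by
  obtain ⟨_, ⟨i, rfl⟩, _, ⟨j, rfl⟩, rfl⟩ := p.mem_AA.1 hc
  dsimp only
  rw [((p.comm.zpow_left i).zpow_right j).mul_pow, ← zpow_natCast, ← zpow_natCast, ← zpow_mul, ← zpow_mul, mul_comm i,
    mul_comm j, zpow_mul, zpow_mul, zpow_natCast, zpow_natCast, p.a_cube, p.b_cube]
  simp

theorem ord {c : G} (hc : c ∈ AA a b) (h1 : c ≠ 1) : orderOf c = 3 :=
  haveI := Fact.mk Nat.prime_three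
  orderOf_eq_prime (p.cube hc) h1

/-- Any element of `A` outside `⟨a⟩` is a partner of `a`. -/
theorem of_mem {c : G} (hc : c ∈ AA a b) (hn : c ∉ zpowers a) : Pr a c ∧ AA a c = AA a b := by
  refine ⟨⟨p.a3, p.ord hc fun e => hn (e ▸ one_mem _), p.comm_of_mem (left_mem_AA a b) hc, hn⟩,
    le_antisymm (AA_le (left_mem_AA a b) hc) (AA_le (left_mem_AA a c) ?_)⟩
  obtain ⟨s, hs, t, ht, rfl⟩ := p.mem_AA.1 hc
  have h1 : t ∈ AA a (s * t) := by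
    have := mul_mem (inv_mem (mem_sup_left hs : s ∈ AA a (s * t))) (right_mem_AA a (s * t))
    rwa [inv_mul_cancel_left] at this
  rcases (mem_zpowers_three p.b3).1 ht with rfl | rfl | rfl
  · exact absurd (by simpa using hs) hn
  · exact h1
  · exact inv_mem_iff.1 h1

/-- Any nontrivial element of `A` has a partner in `A`. -/
theorem exists_partner {c : G} (hc : c ∈ AA a b) (h1 : c ≠ 1) : ∃ d, Pr c d ∧ AA c d = AA a b := by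
  by_cases h : c ∈ zpowers a
  · rcases (mem_zpowers_three p.a3).1 h with e | rfl | rfl
    · exact absurd e h1
    · exact ⟨b, p, rfl⟩
    · exact ⟨b, p.inv_left, by rw [AA, zpowers_inv, AA]⟩
  · exact ⟨a, (p.of_mem hc h).1.symm, (AA_comm _ _).trans (p.of_mem hc h).2⟩

theorem mul_left : Pr a (a * b) ∧ AA a (a * b) = AA a b :=
  p.of_mem (mul_mem (left_mem_AA a b) (right_mem_AA a b)) fun h => p.nm ((mul_mem_cancel_left (mem_zpowers a)).1 h)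

theorem inv_mul_left : Pr a (a⁻¹ * b) ∧ AA a (a⁻¹ * b) = AA a b :=
  p.of_mem (mul_mem (inv_mem (left_mem_AA a b)) (right_mem_AA a b)) fun h =>
    p.nm ((mul_mem_cancel_left (inv_mem (mem_zpowers a))).1 h)

/-- The four subgroups of order 3. -/
theorem cases {c : G} (hc : c ∈ AA a b) (h1 : c ≠ 1) : (c = a ∨ c = a⁻¹) ∨ (c = b ∨ c = b⁻¹) ∨
    (c = a * b ∨ c = (a * b)⁻¹) ∨ (c = a⁻¹ * b ∨ c = (a⁻¹ * b)⁻¹) := by
  obtain ⟨s, hs, t, ht, rfl⟩ := p.mem_AA.1 hc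
  have e1 : (a * b)⁻¹ = a⁻¹ * b⁻¹ := by rw [p.comm.eq, mul_inv_rev]
  have e2 : (a⁻¹ * b)⁻¹ = a * b⁻¹ := by rw [p.comm.inv_left.eq, mul_inv_rev, inv_inv]
  rcases (mem_zpowers_three p.a3).1 hs with rfl | rfl | rfl <;>
    rcases (mem_zpowers_three p.b3).1 ht with rfl | rfl | rfl <;> simp_all

theorem card : Nat.card (AA a b) = 9 := by
  have h1 : zpowers a ⊓ zpowers b = ⊥ := by
    refine eq_bot_iff.2 fun c hc => ?_
    rcases (mem_zpowers_three p.b3).1 hc.2 with e | e | e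
    · exact e
    · exact absurd (e ▸ hc.1) p.nm
    · exact absurd (inv_mem_iff.1 (e ▸ hc.1)) p.nm
  have h2 : Function.Bijective fun x : zpowers a × zpowers b =>
      (⟨x.1 * x.2, mul_mem (mem_sup_left x.1.2) (mem_sup_right x.2.2)⟩ : AA a b) := by
    refine ⟨fun x y e => ?_, fun ⟨c, hc⟩ => ?_⟩
    · exact Subgroup.mul_injective_of_disjoint (disjoint_iff.2 h1) (congrArg Subtype.val e)
    · obtain ⟨s, hs, t, ht, rfl⟩ := p.mem_AA.1 hc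
      exact ⟨(⟨s, hs⟩, ⟨t, ht⟩), rfl⟩
  rw [← Nat.card_eq_of_bijective _ h2, Nat.card_prod, Nat.card_zpowers, Nat.card_zpowers, p.a3, p.b3]

theorem not_cyclic : ¬ IsCyclic (AA a b) := fun h => by
  obtain ⟨g, hg⟩ := h.exists_generator
  have h1 := orderOf_eq_card_of_forall_mem_zpowers hg
  have h2 : orderOf g ∣ 3 := orderOf_dvd_of_pow_eq_one (Subtype.ext (p.cube g.2))
  rw [h1, p.card] at h2
  omega

end Pr

theorem EE_conj {x z t : G} (h : t ∈ EE x z) (g : G) : g * t * g⁻¹ ∈ EE (g * x * g⁻¹) (g * z * g⁻¹) := by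
  obtain ⟨y, p, h⟩ := h
  exact ⟨_, p.conj g, Es_conj h g⟩

/-- The centraliser of `a` is a perfect central extension of `M22` by `⟨a, z⟩`. -/
structure Cov (a z : G) (φ : 𝐜[a] →* PG) : Prop where
  ord : orderOf a = 3
  zz : z * z = 1
  za : Commute a z
  zc : ∀ c, Commute a c → Commute z c
  range : φ.range = Spor.M22
  ker : ∀ c, φ c = 1 ↔ (c : G) ∈ zpowers a ⊔ zpowers z
  perf : commutator 𝐜[a] = ⊤

/-- `g` centralises `a` and has the image `p`. -/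
def Im {a : G} (φ : 𝐜[a] →* PG) (g : G) (p : PG) : Prop := ∃ h : g ∈ 𝐜[a], φ ⟨g, h⟩ = p

namespace Im

variable {a : G} {φ : 𝐜[a] →* PG} {g h : G} {p q : PG}

theorem comm (k : Im φ g p) : Commute a g := mem_c.1 k.1

theorem one : Im φ 1 1 := ⟨one_mem _, map_one φ⟩

theorem mul (k : Im φ g p) (l : Im φ h q) : Im φ (g * h) (p * q) :=
  ⟨mul_mem k.1 l.1, by rw [← k.2, ← l.2, ← map_mul]; rfl⟩

theorem inv (k : Im φ g p) : Im φ g⁻¹ p⁻¹ := ⟨inv_mem k.1, by rw [← k.2, ← map_inv]; rfl⟩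

theorem pow (k : Im φ g p) (n : ℕ) : Im φ (g ^ n) (p ^ n) := ⟨pow_mem k.1 n, by rw [← k.2, ← map_pow]; rfl⟩

theorem conj (k : Im φ g p) (l : Im φ h q) : Im φ (g * h * g⁻¹) (p * q * p⁻¹) := (k.mul l).mul k.inv

theorem tr (k : Im φ g p) (l : Im φ h q) : Im φ (tr3 g h) (tr3 p q) := (l.mul (k.conj l)).mul ((k.inv.mul l).mul k)

theorem unique (k : Im φ g p) (l : Im φ g q) : p = q := k.2.symm.trans l.2

theorem commute (k : Im φ g p) (l : Im φ h q) (e : Commute g h) : Commute p q :=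
  (k.mul l).unique (e.eq ▸ l.mul k)

theorem of_comm (e : Commute a g) : ∃ p, Im φ g p := ⟨_, mem_c.2 e, rfl⟩

end Im

namespace Cov

variable {a z : G} {φ : 𝐜[a] →* PG} (c : Cov a z φ) {g h : G} {p q : PG}
include c

theorem mem (k : Im φ g p) : p ∈ Spor.M22 := c.range ▸ ⟨_, k.2⟩

theorem lift (hp : p ∈ Spor.M22) : ∃ g, Im φ g p := by
  obtain ⟨x, rfl⟩ : p ∈ φ.range := c.range ▸ hp
  exact ⟨x, x.2, rfl⟩

theorem ker_le : zpowers a ⊔ zpowers z ≤ 𝐜[a] :=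
  sup_le (zpowers_le.2 (mem_c.2 (Commute.refl a))) (zpowers_le.2 (mem_c.2 c.za))

theorem im_one : Im φ g 1 ↔ g ∈ zpowers a ⊔ zpowers z :=
  ⟨fun k => (c.ker _).1 k.2, fun k => ⟨c.ker_le k, (c.ker _).2 k⟩⟩

theorem im_a : Im φ a 1 := c.im_one.2 (mem_sup_left (mem_zpowers a))

theorem im_z : Im φ z 1 := c.im_one.2 (mem_sup_right (mem_zpowers z))

theorem mem_ker : g ∈ zpowers a ⊔ zpowers z ↔ ∃ s ∈ zpowers a, g = s ∨ g = s * z := by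
  rw [mem_sup_norm (norm_of_cent (zpowers_le.2 (by
    rw [mem_cent]; rintro _ ⟨k, rfl⟩; exact (c.za.zpow_left k).eq)))]
  refine ⟨?_, ?_⟩
  · rintro ⟨s, hs, t, ht, rfl⟩
    rcases (Spor.mem_zpowers_iff_of_sq c.zz).1 ht with rfl | rfl
    · exact ⟨s, hs, .inl (mul_one s)⟩
    · exact ⟨s, hs, .inr rfl⟩
  · rintro ⟨s, hs, rfl | rfl⟩
    · exact ⟨g, hs, 1, one_mem _, mul_one g⟩
    · exact ⟨s, hs, z, mem_zpowers z, rfl⟩

/-- The kernel is central. -/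
theorem ker_comm (hg : g ∈ zpowers a ⊔ zpowers z) (hh : Commute a h) : Commute g h := by
  obtain ⟨_, ⟨k, rfl⟩, rfl | rfl⟩ := c.mem_ker.1 hg
  · exact hh.zpow_left k
  · exact (hh.zpow_left k).mul_left (c.zc h hh)

theorem eq_mul (k : Im φ g p) (l : Im φ h p) : ∃ s ∈ zpowers a ⊔ zpowers z, h = g * s :=
  ⟨g⁻¹ * h, c.im_one.1 (by simpa using k.inv.mul l), by group⟩

theorem ker_pow (hg : g ∈ zpowers a ⊔ zpowers z) : g ^ 6 = 1 := by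
  have h3 : a ^ 3 = 1 := c.ord ▸ pow_orderOf_eq_one a
  have h1 : ∀ k : ℤ, (a ^ k) ^ 6 = 1 := fun k => by
    rw [← zpow_natCast, ← zpow_mul, mul_comm, zpow_mul, zpow_natCast, show 6 = 3 * 2 from rfl, pow_mul, h3]; simp
  obtain ⟨_, ⟨k, rfl⟩, rfl | rfl⟩ := c.mem_ker.1 hg
  · exact h1 k
  · rw [(c.za.zpow_left k).mul_pow, h1 k, show 6 = 2 * 3 from rfl, pow_mul, sq, c.zz]; simp

/-- A 3-element of the kernel is a power of `a`. -/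
theorem ker_three (hg : g ∈ zpowers a ⊔ zpowers z) {k : ℕ} (h3 : g ^ 3 ^ k = 1) : g ∈ zpowers a := by
  obtain ⟨s, hs, rfl | rfl⟩ := c.mem_ker.1 hg
  · exact hs
  · rw [(c.ker_comm (mem_sup_left hs) c.za).mul_pow] at h3
    obtain ⟨m, hm⟩ : Odd (3 ^ k) := Odd.pow (by decide)
    have h4 : z ^ 3 ^ k = z := by rw [hm, pow_succ, pow_mul, sq, c.zz]; simp
    rw [h4] at h3
    exact mul_mem hs (eq_inv_of_mul_eq_one_right h3 ▸ inv_mem (pow_mem hs _))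

/-- A 2-element of the kernel is a power of `z`. -/
theorem ker_two (hg : g ∈ zpowers a ⊔ zpowers z) {k : ℕ} (h2 : g ^ 2 ^ k = 1) : g = 1 ∨ g = z := by
  have h0 : ∀ s ∈ zpowers a, ∀ k, s ^ 2 ^ k = 1 → s = 1 := fun s hs k h => by
    have h1 : orderOf s ∣ 3 := c.ord ▸ orderOf_dvd_of_mem_zpowers hs
    exact orderOf_eq_one_iff.1 (Nat.eq_one_of_dvd_coprimes (Nat.Coprime.pow_right k (by decide)) h1
      (orderOf_dvd_of_pow_eq_one h))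
  obtain ⟨s, hs, rfl | rfl⟩ := c.mem_ker.1 hg
  · exact .inl (h0 _ hs k h2)
  · have h3 : (s * z) ^ 2 ^ (k + 1) = 1 := by rw [pow_succ, pow_mul, h2, one_pow]
    rw [(c.ker_comm (mem_sup_left hs) c.za).mul_pow, pow_succ' 2, pow_mul z, sq z, c.zz, one_pow, mul_one, ← pow_succ'] at h3
    rw [h0 s hs _ h3, one_mul]
    exact .inr rfl

/-- An element of order dividing 3 has a lift of order dividing 3. -/
theorem lift_three (hp : p ∈ Spor.M22) (h3 : p ^ 3 = 1) : ∃ g, Im φ g p ∧ g ^ 9 = 1 := by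
  obtain ⟨g, k⟩ := c.lift hp
  have h1 := c.ker_pow (c.im_one.1 (h3 ▸ k.pow 3))
  refine ⟨g ^ 4, by simpa [pow_succ p 3, h3] using k.pow 4, ?_⟩
  rw [← pow_mul, show 4 * 9 = 3 * 6 * 2 from rfl, pow_mul, pow_mul, h1, one_pow]

/-- An involution has a lift whose square is `1` or `z`. -/
theorem lift_two (hp : p ∈ Spor.M22) (h2 : p * p = 1) : ∃ g, Im φ g p ∧ (g * g = 1 ∨ g * g = z) := by
  obtain ⟨g, k⟩ := c.lift hp
  have h1 := c.im_one.1 (h2 ▸ k.mul k)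
  refine ⟨g ^ 3, by simpa [pow_succ p 2, sq, h2] using k.pow 3, c.ker_two (k := 1) ?_ ?_⟩
  · rw [← sq, ← pow_mul, mul_comm, pow_mul, sq]; exact pow_mem h1 3
  · rw [← c.ker_pow h1, ← sq g, ← sq, ← pow_mul, ← pow_mul, ← pow_mul]; rfl

/-- Change of the frame by an element of `M22`. -/
theorem change {m : PG} (hm : m ∈ Spor.M22) : ∃ φ' : 𝐜[a] →* PG, Cov a z φ' ∧
    ∀ g p, Im φ g p → Im φ' g (m * p * m⁻¹) := by
  refine ⟨(MulAut.conj m).toMonoidHom.comp φ, ⟨c.ord, c.zz, c.za, c.zc, ?_, fun x => ?_, c.perf⟩,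
    fun g p k => ⟨k.1, by rw [← k.2]; rfl⟩⟩
  · rw [MonoidHom.range_comp, c.range]; exact cj_of_mem hm
  · rw [← c.ker]; simp

end Cov

/-- All elements of order 3 have such a centraliser, with the central involution (or identity) `ζ a`. -/
structure Hyp0 (ζ : G → G) : Prop where
  cov : ∀ a, orderOf a = 3 → ∃ φ, Cov a (ζ a) φ
  conj : ∀ a g, orderOf a = 3 → ζ (g * a * g⁻¹) = g * ζ a * g⁻¹
  inv : ∀ a, orderOf a = 3 → ζ a⁻¹ = ζ a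
  pair : ∀ a : G, orderOf a = 3 → ∃ b, Pr a b
  trans : ∀ a b a' b' : G, Pr a b → Pr a' b' → ∃ g, g * a * g⁻¹ = a' ∧ g * b * g⁻¹ = b'

/-- The centre has order 3. -/
def C3 (ζ : G → G) : Prop := ∀ a, orderOf a = 3 → ζ a = 1

/-- The centre has order 6 and the central involutions are different. -/
def C6 (ζ : G → G) : Prop := ∀ a b, Pr a b → ζ a ≠ ζ b

/-- The standing hypothesis. -/
structure Hyp (ζ : G → G) : Prop extends Hyp0 ζ where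
  sep : C3 ζ ∨ C6 ζ

/-- The involution `r` is good for the pair `a`, `b`. -/
structure Gd (ζ : G → G) (a b r : G) : Prop where
  mem : r ∈ RR (AA a b)
  nm : r ∉ zpowers (ζ a)
  ty : ζ a = 1 ∨ IsConj (ζ a) r

/-- The groups `UU A a` generate an elementary abelian group. -/
def CaseI (G : Type*) [Group G] : Prop := ∀ a b : G, Pr a b →
  (∀ c ∈ AA a b, c ≠ 1 → UU (AA a b) a ≤ 𝐂[UU (AA a b) c]) ∧ 𝐍[UU (AA a b) a] ≤ 𝐍[VA (AA a b)]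

/-- The four-groups `UU A a / RR A` are nearly self-centralising. -/
def CaseII (G : Type*) [Group G] : Prop := ∀ a b : G, Pr a b → ∀ g ∈ 𝐂[RR (AA a b)],
  (∀ u ∈ UU (AA a b) a, g * u * g⁻¹ * u⁻¹ ∈ RR (AA a b)) → g ∈ UU (AA a b) a ⊔ zpowers a

/-- The hypothesis of the final step, in the group `C(z) / ⟨z⟩`. -/
structure JH (X0 X1 D T F : Subgroup G) (x y : G) : Prop where
  se : ∀ g, ∀ a ∈ X0, orderOf a = 3 → g * a * g⁻¹ ∈ X0 → g ∈ X0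
  le1 : X1 ≤ X0
  idx : X1.relIndex X0 = 2
  DF : D ≤ F
  FT : F ≤ T
  F1 : F ≤ X1
  Dsq : ∀ d ∈ D, d * d = 1
  nD : X0 ≤ 𝐍[D]
  cardD : 4 < Nat.card D
  pr : Pr x y
  x1 : x ∈ X1
  y1 : y ∈ X1
  fpf : ∀ d ∈ D, Commute x d → d = 1
  cx : ∀ g ∈ X1, g * x * g⁻¹ * x⁻¹ ∈ D
  ix : ∀ g ∈ X0, g ∉ X1 → g * x * g⁻¹ * x ∈ D
  t1 : ∀ s ∈ X1, s * s = 1 → ∃ a ∈ X0, orderOf a = 3 ∧ Commute a s
  t2 : ∃ t ∈ X0, t ∉ X1 ∧ t * t = 1 ∧ ∃ a ∈ X0, orderOf a = 3 ∧ Commute a t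
  syl : Syl 2 T X0
  nF : 𝐍[T] ⊓ 𝐍[D] ≤ 𝐍[F]
  yF : y ∈ 𝐍[F]
  xF : ∀ f ∈ F, x * f * x⁻¹ * f⁻¹ ∈ D
  FF : ⁅F, F⁆ ≤ D
  cF : ∀ g ∈ X0, (∀ f ∈ F, g * f * g⁻¹ * f⁻¹ ∈ D) → g ∈ F ⊔ zpowers x
  nrm : ∀ K, D ⊔ zpowers x ≤ K → K ≤ X1 → X1 ≤ 𝐍[K] → K = D ⊔ zpowers x ∨ K = X1
  irr : ∀ N ≤ D, X1 ≤ 𝐍[N] → N = ⊥ ∨ N = D
  perf : X1 ≤ ⁅X1, X1⁆ ⊔ D
  cD : ∀ g ∈ X0, g ∈ 𝐂[D] → g ∈ D
  inv : ∃ s ∈ F, s ∉ D ∧ s * s = 1

end Cfsg.Agent.J3L
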