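import Mathlib
import Cfsg.Agent.J3L.Defs
import Cfsg.Agent.GT.CoprimeGen
import Cfsg.Agent.GT.TransferFrobenius

/-!
General lemmas on elements of order 3.
-/

set_option autoImplicit false
set_option linter.unusedSectionVars false

namespace Cfsg.Agent.J3L

open Cfsg Cfsg.Agent.GT Cfsg.Agent.Loc.Mss Subgroup

variable {G : Type*} [Group G]

instance fact3 : Fact (Nat.Prime 3) := ⟨Nat.prime_three⟩

theorem comm_of_sq {K : Subgroup G} (h : ∀ t ∈ K, t * t = 1) {s t : G} (hs : s ∈ K) (ht : t ∈ K) : Commute s t := by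
  have h1 := h _ (mul_mem hs ht)
  calc s * t = s * t * (s * t * (s * t))⁻¹ * (s * s) * (t * t) * (s * s) := by rw [h1, h s hs, h t ht]; group
    _ = t⁻¹ * s⁻¹ * (s * s) * (t * t) * (s * s) := by group
    _ = t * s := by rw [h s hs, h t ht, inv_eq_of_mul_eq_one_right (h s hs), inv_eq_of_mul_eq_one_right (h t ht)]; group

theorem pg_of_sq {K : Subgroup G} (h : ∀ t ∈ K, t * t = 1) : IsPGroup 2 K :=
  pg_iff.2 fun t ht => ⟨1, by rw [pow_one, sq, h t ht]⟩

/-- An element of order 3 that fixes `s` up to a central involution fixes it. -/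
theorem comm_of_three {a s z : G} (h3 : a ^ 3 = 1) (hz : z * z = 1) (h1 : Commute a z) (h2 : a * s * a⁻¹ = s * z) :
    z = 1 := by
  have e : ∀ n : ℕ, a ^ n * s * (a ^ n)⁻¹ = s * z ^ n := fun n => by
    induction n with
    | zero => simp
    | succ n ih =>
      rw [pow_succ', show a * a ^ n * s * (a * a ^ n)⁻¹ = a * (a ^ n * s * (a ^ n)⁻¹) * a⁻¹ by group, ih,
        show a * (s * z ^ n) * a⁻¹ = a * s * a⁻¹ * (a * z ^ n) * a⁻¹ by group, h2, (h1.pow_right n).eq, pow_succ']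
      group
  have := e 3
  rw [h3, pow_succ, sq, hz] at this
  simpa using this

theorem tr3_of_comm {b t : G} (h : Commute b t) : tr3 b t = t ^ 3 := by
  rw [tr3, h.eq, h.inv_left.eq, pow_three']; group

theorem tr3_mul {K : Subgroup G} (h : ∀ s ∈ K, ∀ t ∈ K, Commute s t) {b s t : G} (hb : b ∈ 𝐍[K]) (hs : s ∈ K)
    (ht : t ∈ K) : tr3 b (s * t) = tr3 b s * tr3 b t := by
  have h1 := conj_mem_of_norm hb hs
  have h2 := conj_mem_of_norm' hb hs
  have h3 := conj_mem_of_norm hb ht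
  calc tr3 b (s * t) = s * (t * (b * s * b⁻¹)) * ((b * t * b⁻¹) * (b⁻¹ * s * b)) * (b⁻¹ * t * b) := by unfold tr3; group
    _ = s * (b * s * b⁻¹) * (t * (b⁻¹ * s * b)) * (b * t * b⁻¹) * (b⁻¹ * t * b) := by
      rw [(h _ ht _ h1).eq, (h _ h3 _ h2).eq]; group
    _ = _ := by rw [(h _ ht _ h2).eq]; unfold tr3; group

theorem tr3_mem {K : Subgroup G} {b t : G} (hb : b ∈ 𝐍[K]) (ht : t ∈ K) : tr3 b t ∈ K :=
  mul_mem (mul_mem ht (conj_mem_of_norm hb ht)) (conj_mem_of_norm' hb ht)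

theorem comm_tr3 {K : Subgroup G} (h : ∀ s ∈ K, ∀ t ∈ K, Commute s t) {b t : G} (h3 : b ^ 3 = 1) (hb : b ∈ 𝐍[K])
    (ht : t ∈ K) : Commute b (tr3 b t) := by
  have h1 := conj_mem_of_norm hb ht
  have h2 := conj_mem_of_norm' hb ht
  have e : b * b = b⁻¹ := eq_inv_of_mul_eq_one_left (by rw [← h3, pow_three'])
  have e2 : b * tr3 b t * b⁻¹ = (b * t * b⁻¹) * (b * b * t * (b * b)⁻¹) * t := by unfold tr3; group
  rw [e, inv_inv, ← (h _ ht _ (mul_mem h1 h2)).eq, ← mul_assoc t] at e2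
  exact mul_inv_eq_iff_eq_mul.1 e2

theorem tr3_inv {K : Subgroup G} (h : ∀ s ∈ K, ∀ t ∈ K, Commute s t) {b t : G} (hb : b ∈ 𝐍[K]) (ht : t ∈ K) :
    tr3 b⁻¹ t = tr3 b t := by
  rw [tr3, tr3, inv_inv, mul_assoc, (h _ (conj_mem_of_norm' hb ht) _ (conj_mem_of_norm hb ht)).eq, mul_assoc t]

theorem Es_inv {a b r t : G} (h : t ∈ Es a b r) : t ∈ Es a b⁻¹ r := by
  obtain ⟨h1, h2, h3, h4, h5⟩ := h
  have e : b⁻¹ * t * b = (t * (b * t * b⁻¹))⁻¹ := eq_inv_of_mul_eq_one_right h5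
  refine ⟨h1, h2, h3, ?_, ?_⟩
  · rw [inv_inv, e]; exact ((Commute.refl t).mul_right h4).inv_right
  · rw [tr3, inv_inv, e, h4.eq]; group

variable [Finite G]

theorem exists_three {c : G} (h : 3 ∣ orderOf c) : ∃ k : ℕ, orderOf (c ^ k) = 3 :=
  ⟨orderOf c / 3, orderOf_pow_orderOf_div (orderOf_pos c).ne' h⟩

theorem Pr.pg {a b : G} (p : Pr a b) : IsPGroup 3 (AA a b) := pg_iff.2 fun c hc => ⟨1, by rw [pow_one, p.cube hc]⟩

/-- Generation by centralisers. -/
theorem Pr.gen {a b : G} (p : Pr a b) {K L : Subgroup G} (hn : AA a b ≤ 𝐍[K]) (h3 : ¬ 3 ∣ Nat.card K)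
    (h : ∀ c ∈ AA a b, c ≠ 1 → K ⊓ 𝐜[c] ≤ L) : K ≤ L :=
  CopAct.le_of_centralizer_elt_le (le_centralizer_iff_isMulCommutative.1 p.le_cent) p.not_cyclic hn
    (CopAct.coprime_of_isPGroup_left p.pg h3) h

theorem pg_zpowers {x : G} (h3 : orderOf x = 3) : IsPGroup 3 (zpowers x) :=
  IsPGroup.of_card (n := 1) (by rw [Nat.card_zpowers, h3, pow_one])

/-- In a 3-group the normaliser of a subgroup of order 3 centralises it. -/
theorem comm_of_norm {x g : G} {k : ℕ} (h3 : orderOf x = 3) (hg : g ^ 3 ^ k = 1) (h : g * x * g⁻¹ ∈ zpowers x) :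
    Commute x g := by
  have hx : x ≠ 1 := fun e => by simp [e] at h3
  rcases (mem_zpowers_three h3).1 h with e | e | e
  · exact absurd (by simpa using e) hx
  · exact (mul_inv_eq_iff_eq_mul.1 e).symm
  · have e1 : Commute x (g * g) := by
      have : g * g * x * (g * g)⁻¹ = x := by
        rw [show g * g * x * (g * g)⁻¹ = g * (g * x * g⁻¹) * g⁻¹ by group, e,
          show g * x⁻¹ * g⁻¹ = (g * x * g⁻¹)⁻¹ by group, e, inv_inv]
      exact (mul_inv_eq_iff_eq_mul.1 this).symm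
    obtain ⟨m, hm⟩ : Odd (3 ^ k) := Odd.pow (by decide)
    have e2 : g = ((g * g) ^ (m + 1)) := by
      rw [← sq, ← pow_mul, show 2 * (m + 1) = 3 ^ k + 1 by omega, pow_succ, hg, one_mul]
    exact e2 ▸ e1.pow_right _

theorem syl3_of {K : Subgroup G} {x : G} (h3 : orderOf x = 3) (hx : x ∈ K)
    (h : ∀ g ∈ K, Commute x g → ∀ k : ℕ, g ^ 3 ^ k = 1 → g ∈ zpowers x) : Syl 3 (zpowers x) K :=
  Syl.of_norm (pg_zpowers h3) (zpowers_le.2 hx) fun P hP _ hK hN g hg => by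
    obtain ⟨k, hk⟩ := pg_iff.1 hP g hg
    exact h g (hK hg) (comm_of_norm h3 hk (conj_mem_of_norm (hN hg) (mem_zpowers x))) k hk

/-- Burnside's theorem for a Sylow subgroup of order 3. -/
theorem burnside3 {K : Subgroup G} {x : G} (h3 : orderOf x = 3) (hS : Syl 3 (zpowers x) K)
    (hN : ∀ g ∈ K, g * x * g⁻¹ ≠ x⁻¹) : ¬ 3 ∣ Nat.card (pResidualOf 3 K) ∧ pResidualOf 3 K ⊔ zpowers x = K := by
  refine ⟨?_, hS.res_sup⟩
  obtain ⟨P, hP, -⟩ := hS.exists_sylow
  have h1 := Tr.hasNormalPComplement_of_normalizer_le_centralizer P (by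
    intro g hg
    rw [hP] at hg ⊢
    have h2 : (g : G) * x * (g : G)⁻¹ ∈ zpowers x :=
      conj_mem_of_norm hg (a := ⟨x, hS.le (mem_zpowers x)⟩) (mem_zpowers x)
    have h4 : Commute x g := by
      rcases (mem_zpowers_three h3).1 h2 with e | e | e
      · exact absurd h3 (by rw [← ord_conj (g : G) x, e]; simp)
      · exact (mul_inv_eq_iff_eq_mul.1 e).symm
      · exact absurd e (hN g g.2)
    refine mem_centralizer_iff.2 fun y hy => Subtype.ext ?_
    obtain ⟨k, hk⟩ : (y : G) ∈ zpowers x := hy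
    change (y : G) * g = g * y
    rw [← hk]
    exact (h4.zpow_left k).eq)
  rw [Tr.hasNormalPComplement_iff_not_dvd_card_pResidual] at h1
  rwa [pResidualOf, card_map_of_injective (subtype_injective K)]

end Cfsg.Agent.J3L
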