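import Mathlib
import Cfsg.Agent.J3L.Base
import Cfsg.Agent.GT.TransferEval

/-!
The 3-elements of a cover of `M22`; four-groups.
-/

set_option autoImplicit false
set_option linter.unusedSectionVars false

namespace Cfsg.Agent.J3L

open Cfsg Cfsg.Agent.Spor Cfsg.Agent.Spor.MB Cfsg.Agent.J4T Cfsg.Agent.Loc.Mss Subgroup

namespace FA

variable {G : Type*} [Group G] {a b x y : G}

theorem one_of_23 (h2 : x * x = 1) (h3 : x ^ 3 = 1) : x = 1 := by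
  rwa [pow_succ, sq, h2, one_mul] at h3

theorem zp_cube (h : a ^ 3 = 1) (hx : x ∈ zpowers a) : x ^ 3 = 1 := by
  obtain ⟨k, rfl⟩ := hx
  dsimp only
  rw [← zpow_natCast, ← zpow_mul, mul_comm, zpow_mul, zpow_natCast, h, one_zpow]

theorem zp_comm (h : Commute a b) (hx : x ∈ zpowers a) : Commute x b := by
  obtain ⟨k, rfl⟩ := hx
  exact h.zpow_left k

theorem conj_of_comm (h : Commute a b) : a * b * a⁻¹ = b := by rw [h.eq, mul_inv_cancel_right]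

theorem comm_of_conj (h : a * b * a⁻¹ = b) : Commute a b := mul_inv_eq_iff_eq_mul.1 h

/-- An involution modulo a normalised elementary abelian group kills the part of order 3. -/
theorem eq_one_of_sq {U : Subgroup G} (hU : ∀ u ∈ U, u * u = 1) {s u : G} (hs : s ∈ 𝐍[U]) (h3 : s ^ 3 = 1) (hu : u ∈ U)
    (h : s * u * (s * u) = 1) : s = 1 := by
  have h1 : s * s = (s * u * s⁻¹)⁻¹ * u⁻¹ := by
    calc s * s = (s * u * s⁻¹)⁻¹ * (s * u * (s * u)) * u⁻¹ * (s⁻¹ * s) := by group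
      _ = _ := by rw [h]; group
  have h2 := hU _ (h1 ▸ mul_mem (inv_mem (conj_mem_of_norm hs hu)) (inv_mem hu))
  calc s = s ^ 3 * s := by rw [h3, one_mul]
    _ = 1 := by rw [← h2]; simp [pow_succ, mul_assoc]

theorem mem_four (ha : a * a = 1) (hb : b * b = 1) (h : Commute a b) : x ∈ zpowers a ⊔ zpowers b ↔ In4 a b x := by
  rw [mem_sup_norm (norm_of_cent (zpowers_le.2 (mem_cent.2 fun s hs => (zp_comm h hs).eq)))]
  simp only [mem_zpowers_iff_of_sq ha, mem_zpowers_iff_of_sq hb, In4]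
  refine ⟨?_, ?_⟩
  · rintro ⟨_, rfl | rfl, _, rfl | rfl, rfl⟩ <;> simp
  · rintro (rfl | rfl | rfl | rfl)
    exacts [⟨1, .inl rfl, 1, .inl rfl, mul_one _⟩, ⟨_, .inr rfl, 1, .inl rfl, mul_one _⟩,
      ⟨1, .inl rfl, _, .inr rfl, one_mul _⟩, ⟨_, .inr rfl, _, .inr rfl, rfl⟩]

theorem in4_mem {K : Subgroup G} (ha : a ∈ K) (hb : b ∈ K) (h : In4 a b x) : x ∈ K := by
  rcases h with rfl | rfl | rfl | rfl
  exacts [one_mem _, ha, hb, mul_mem ha hb]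

theorem card_four (ha : a * a = 1) (hb : b * b = 1) (h : Commute a b) (h1 : a ≠ 1) (h2 : b ≠ 1) (h3 : a ≠ b) :
    Nat.card ↥(zpowers a ⊔ zpowers b) = 4 := by
  have e : ((zpowers a ⊔ zpowers b : Subgroup G) : Set G) = {1, a, b, a * b} := by
    ext x; rw [SetLike.mem_coe, mem_four ha hb h]; rfl
  have h4 : 1 ≠ a * b := fun e => h3 (mul_right_cancel (e.symm.trans hb.symm))
  change Nat.card ((zpowers a ⊔ zpowers b : Subgroup G) : Set G) = 4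
  rw [e, Nat.card_coe_set_eq, Set.ncard_insert_of_notMem (by simp [h1.symm, h2.symm, h4]),
    Set.ncard_insert_of_notMem (by simp [h2, h3]), Set.ncard_pair (by simpa using h1)]

/-- A group of order four is generated by any two different nontrivial elements. -/
theorem mem_iff_in4 [Finite G] {K : Subgroup G} (hK : ∀ t ∈ K, t * t = 1) (hc : Nat.card K = 4) (ha : a ∈ K) (hb : b ∈ K)
    (h1 : a ≠ 1) (h2 : b ≠ 1) (h3 : a ≠ b) : x ∈ K ↔ In4 a b x := by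
  have h := comm_of_sq hK ha hb
  rw [← mem_four (hK a ha) (hK b hb) h, eq_of_le_of_card_ge (sup_le (zpowers_le.2 ha) (zpowers_le.2 hb))
    (by rw [hc, card_four (hK a ha) (hK b hb) h h1 h2 h3])]

theorem mem_omega {K : Subgroup G} {P : G → Prop} (h0 : P 1) (h1 : ∀ t ∈ K, t * t = 1 → P t)
    (h2 : ∀ s t, P s → P t → P (s * t)) (h3 : ∀ t, P t → t * t = 1) {t : G} (h : t ∈ omegaOne 2 K) : P t := by
  induction h using closure_induction with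
  | mem t ht => exact h1 t ht.1 (by rw [← sq, ht.2])
  | one => exact h0
  | mul s t _ _ hs ht => exact h2 s t hs ht
  | inv t _ ht => rwa [inv_eq_of_mul_eq_one_right (h3 t ht)]

theorem omega_le (K : Subgroup G) : omegaOne 2 K ≤ K := (closure_le _).2 fun _ h => h.1

theorem omega_of {K : Subgroup G} {t : G} (h : t ∈ K) (h2 : t * t = 1) : t ∈ omegaOne 2 K :=
  subset_closure ⟨h, by rw [sq, h2]⟩

end FA

open FA

namespace MD

variable (M : MD)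

theorem fa_r1 : M.r1 ∈ M.U := (M.mem_U _).2 ⟨_, 1, .inr (.inl rfl), .inl rfl, (mul_one _).symm⟩

theorem fa_r2 : M.r2 ∈ M.U := (M.mem_U _).2 ⟨_, 1, .inr (.inr (.inl rfl)), .inl rfl, (mul_one _).symm⟩

theorem fa_v1 : M.v1 ∈ M.U := (M.mem_U _).2 ⟨1, _, .inl rfl, .inr (.inl rfl), (one_mul _).symm⟩

theorem fa_U {q : PG} (h : In4 M.r1 M.r2 q) : q ∈ M.U := in4_mem M.fa_r1 M.fa_r2 h

theorem fa_UM {q : PG} (h : q ∈ M.U) : q ∈ Spor.M22 := M.B_le (M.U_le h)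

theorem fa_a1 : M.a1 ∈ Spor.M22 := M.B_le M.memB.1

theorem fa_a2 : M.a2 ∈ Spor.M22 := M.B_le M.memB.2.1

theorem fa_rc : Commute M.r1 M.r2 := comm_of_sq M.U_sq M.fa_r1 M.fa_r2

theorem fa_four {q : PG} : q ∈ zpowers M.r1 ⊔ zpowers M.r2 ↔ In4 M.r1 M.r2 q :=
  mem_four (M.U_sq _ M.fa_r1) (M.U_sq _ M.fa_r2) M.fa_rc

theorem fa_a1R {q : PG} (h : In4 M.r1 M.r2 q) : Commute M.a1 q :=
  mem_c.1 (in4_mem (mem_c.2 M.a1_r.1) (mem_c.2 M.a1_r.2) h)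

theorem fa_a2r : M.a2 * (M.r1 * M.r2) * M.a2⁻¹ = M.r1 := by
  rw [← conj_mul, M.a2_r.1, M.a2_r.2, ← mul_assoc, ← M.fa_rc.eq, mul_assoc, M.U_sq _ M.fa_r2, mul_one]

theorem fa_fix {q : PG} (h : In4 M.r1 M.r2 q) (e : Commute M.a2 q) : q = 1 := by
  have e' := conj_of_comm e
  rcases h with rfl | rfl | rfl | rfl
  · rfl
  · exact absurd (e'.symm.trans M.a2_r.1) M.r_ne.2.2
  · exact absurd (mul_eq_right.1 (M.a2_r.2.symm.trans e')) M.r_ne.1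
  · exact absurd (mul_eq_left.1 (e'.symm.trans M.fa_a2r)) M.r_ne.2.1

theorem fa_pr : Pr M.a1 M.a2 := ⟨M.a1_ord, M.a2_ord, M.a12, fun h =>
  M.r_ne.1 (M.fa_fix (.inr (.inl rfl)) (zp_comm M.a1_r.1 h))⟩

theorem fa_cent {c : PG} (hc : c ∈ Spor.M22) (h : Commute M.a1 c) : ∃ s ∈ zpowers M.a1, ∃ t, (t = 1 ∨ t = M.a2 ∨ t = M.a2⁻¹) ∧
    ∃ ρ, In4 M.r1 M.r2 ρ ∧ c = s * t * ρ := by
  obtain ⟨i, j, ρ, h1, h2⟩ := M.cent_a1 c hc h
  exact ⟨_, npow_mem_zpowers _ i, _, (mem_zpowers_three M.a2_ord).1 (npow_mem_zpowers _ j), ρ, h1, h2⟩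

end MD

namespace Cov

variable {G : Type*} [Group G] [Finite G] {a z : G} {φ : 𝐜[a] →* PG} (c : Cov a z φ) {g s y w : G} {p q : PG} {k l : ℕ}
include c

theorem fa_cube : a ^ 3 = 1 := c.ord ▸ pow_orderOf_eq_one a

theorem fa_ne (h : Im φ y p) (h3 : y ^ 3 ^ k = 1) (hn : y ∉ zpowers a) : p ≠ 1 := fun e =>
  hn (c.ker_three (c.im_one.1 (e ▸ h)) h3)

theorem fa_ne2 (h : Im φ y p) (h2 : y * y = 1) (hn : y ∉ zpowers z) : p ≠ 1 := fun e =>
  hn ((mem_zpowers_iff_of_sq c.zz).2 (c.ker_two (k := 1) (c.im_one.1 (e ▸ h)) (by rw [pow_one, sq, h2])))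

omit c in
theorem fa_zp (h : Im φ y p) (hq : q ∈ zpowers p) : ∃ s ∈ zpowers y, Im φ s q := by
  obtain ⟨n, rfl⟩ := hq
  exact ⟨y ^ n, ⟨n, rfl⟩, zpow_mem h.1 n, by rw [← h.2]; exact map_zpow φ ⟨y, h.1⟩ n⟩

/-- Two 3-elements with the same image. -/
theorem fa_eq3 (h : Im φ y p) (h' : Im φ w p) (h3 : y ^ 3 ^ k = 1) (h3' : w ^ 3 ^ l = 1) : ∃ s ∈ zpowers a, w = s * y := by
  obtain ⟨s, hs, rfl⟩ := c.eq_mul h h'
  have e := c.ker_comm hs h.comm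
  refine ⟨s, c.ker_three (k := k + l) hs ?_, e.eq.symm⟩
  have h1 : (y * s) ^ 3 ^ (k + l) = 1 := by rw [add_comm, pow_add, pow_mul, h3', one_pow]
  rwa [e.symm.mul_pow, pow_add, pow_mul y, h3, one_pow, one_mul, ← pow_add] at h1

/-- Two involutions with the same image. -/
theorem fa_eq2 (h : Im φ y p) (h' : Im φ w p) (h2 : y * y = 1) (h2' : w * w = 1) : w = y ∨ w = y * z := by
  obtain ⟨s, hs, rfl⟩ := c.eq_mul h h'
  have e := c.ker_comm hs h.comm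
  rw [mul_assoc, ← mul_assoc s, e.eq, ← mul_assoc, ← mul_assoc, h2, one_mul] at h2'
  exact (c.ker_two (k := 1) hs (by rw [pow_one, sq, h2'])).imp (fun e => by rw [e, mul_one]) fun e => by rw [e]

theorem fa_conj (h : Im φ y p) (h' : Im φ g q) (e : Commute p q) (h3 : y ^ 3 ^ k = 1) :
    ∃ s ∈ zpowers a, g * y * g⁻¹ = s * y :=
  c.fa_eq3 (l := k) h (by simpa [conj_of_comm e.symm] using h'.conj h) h3 (by rw [conj_pow, h3]; group)

theorem fa_comm (h : Im φ y p) (h' : Im φ g q) (e : Commute p q) (h3 : y ^ 3 ^ k = 1) (h2 : q * q = 1) : Commute y g := by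
  obtain ⟨s, hs, e1⟩ := c.fa_conj h h' e h3
  have h1 := conj_of_comm (c.ker_comm (c.im_one.1 (h2 ▸ h'.mul h')) h.comm)
  rw [show g * g * y * (g * g)⁻¹ = g * (g * y * g⁻¹) * g⁻¹ by group, e1, ← conj_mul, e1,
    conj_of_comm (zp_comm h'.comm hs).symm, ← mul_assoc, mul_eq_right] at h1
  rw [one_of_23 h1 (zp_cube c.fa_cube hs), one_mul] at e1
  exact (comm_of_conj e1).symm

/-- The Sylow 3-subgroup is not abelian. -/
theorem fa_nc (M : MD) (h1 : Im φ y M.a1) (h2 : Im φ s M.a2) : ¬ Commute y s := fun e => by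
  set H := (AA M.a1 M.a2).comap φ
  have hi : H.index = 49280 := by
    have h3 := (AA M.a1 M.a2).subgroupOf Spor.M22 |>.card_mul_index
    rw [Nat.card_congr (subgroupOfEquivOfLe (AA_le M.fa_a1 M.fa_a2)).toEquiv, M.fa_pr.card, Golay.card_M22] at h3
    rw [index_comap, c.range, relIndex]
    omega
  have h3 : ∀ g ∈ H, ∀ w, Commute a w → Commute y w → Commute s w → Commute (g : G) w := fun g hg w e1 e2 e3 => by
    obtain ⟨_, hp, _, hq, e4⟩ := M.fa_pr.mem_AA.1 hg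
    obtain ⟨y', hy, k1⟩ := fa_zp h1 hp
    obtain ⟨s', hs, k2⟩ := fa_zp h2 hq
    obtain ⟨t, ht, e5⟩ := c.eq_mul (k1.mul k2) ⟨g.2, e4.symm⟩
    rw [e5]
    exact ((zp_comm e2 hy).mul_left (zp_comm e3 hs)).mul_left (c.ker_comm ht e1)
  have h4 : ⁅H, H⁆ = ⊥ := comm_eq_bot_iff.2 fun g hg => mem_cent.2 fun k hk => Subtype.ext
    (h3 k hk g (mem_c.1 g.2) (h3 g hg y h1.comm rfl e.symm).symm (h3 g hg s h2.comm e rfl).symm).eq
  have h5 := GT.Tr.pow_index_mem_commutator_of_mem_center (H := H) (z := ⟨a, mem_c.2 rfl⟩)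
    (mem_center_iff.2 fun g => Subtype.ext (mem_c.1 g.2).symm.eq)
    (by rw [mem_comap, c.im_a.2]; exact one_mem _) (c.perf ▸ mem_top _)
  rw [h4, hi, mem_bot] at h5
  have h6 := orderOf_dvd_of_pow_eq_one (congrArg Subtype.val h5)
  rw [c.ord] at h6
  omega

theorem fa_frame (M : MD) (h : Commute a y) (h3 : y ^ 3 ^ k = 1) (hn : y ∉ zpowers a) :
    ∃ φ' : 𝐜[a] →* PG, Cov a z φ' ∧ Im φ' y M.a1 := by
  obtain ⟨p, hp⟩ := Im.of_comm (φ := φ) h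
  obtain ⟨m, hm, e⟩ := M.conj3 p (c.mem hp) k ((hp.pow _).unique (h3 ▸ Im.one)) (c.fa_ne hp h3 hn)
  obtain ⟨φ', c', f⟩ := c.change (inv_mem hm)
  exact ⟨φ', c', by simpa [← e, mul_assoc] using f y p hp⟩

/-- A lift of `a2` or of its inverse multiplies `y` by `a`. -/
theorem fa_s (M : MD) (h : Im φ y M.a1) (h3 : y ^ 3 ^ k = 1) :
    ∃ s, s ^ 3 ^ 2 = 1 ∧ (Im φ s M.a2 ∨ Im φ s M.a2⁻¹) ∧ s * y * s⁻¹ = a * y := by
  obtain ⟨s, hs, h9⟩ := c.lift_three M.fa_a2 M.fa_pr.b_cube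
  obtain ⟨t, ht, e⟩ := c.fa_conj h hs M.a12 h3
  rcases (mem_zpowers_three c.ord).1 ht with rfl | rfl | rfl
  · exact absurd (comm_of_conj (e.trans (one_mul y))).symm (c.fa_nc M h hs)
  · exact ⟨s, h9, .inl hs, e⟩
  · refine ⟨s⁻¹, by rw [inv_pow]; exact inv_eq_one.2 h9, .inr hs.inv, ?_⟩
    calc s⁻¹ * y * s⁻¹⁻¹ = s⁻¹ * a * (a⁻¹ * y) * s := by group
      _ = _ := by rw [← e, ← hs.comm.inv_right.eq]; group

theorem fa_shift (M : MD) (h : Commute a y) (h3 : y ^ 3 ^ k = 1) (hn : y ∉ zpowers a) (hw : w ∈ zpowers a) :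
    ∃ s, Commute a s ∧ s * y * s⁻¹ = w * y := by
  obtain ⟨φ', c', h1⟩ := c.fa_frame M h h3 hn
  obtain ⟨s, -, hs, e⟩ := c'.fa_s M h1 h3
  have h2 : Commute a s := hs.elim Im.comm Im.comm
  rcases (mem_zpowers_three c.ord).1 hw with rfl | rfl | rfl
  · exact ⟨1, Commute.one_right a, by simp⟩
  · exact ⟨s, h2, e⟩
  · refine ⟨s⁻¹, h2.inv_right, ?_⟩
    calc s⁻¹ * y * s⁻¹⁻¹ = s⁻¹ * a⁻¹ * (a * y) * s := by group
      _ = _ := by rw [← e, ← h2.inv_inv.eq]; group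

/-- All 3-elements outside `⟨a⟩` are conjugate. -/
theorem fa_conj3 (M : MD) (h : Commute a y) (h3 : y ^ 3 ^ k = 1) (hn : y ∉ zpowers a) (h' : Commute a w)
    (h3' : w ^ 3 ^ l = 1) (hn' : w ∉ zpowers a) : ∃ g, Commute a g ∧ g * y * g⁻¹ = w := by
  obtain ⟨φ', c', h1⟩ := c.fa_frame M h h3 hn
  obtain ⟨p, hp⟩ := Im.of_comm (φ := φ') h'
  obtain ⟨m, hm, e⟩ := M.conj3 p (c'.mem hp) l ((hp.pow _).unique (h3' ▸ Im.one)) (c'.fa_ne hp h3' hn')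
  obtain ⟨n, hn1⟩ := c'.lift hm
  obtain ⟨t, ht, e1⟩ := c'.fa_eq3 (k := k) (e ▸ hn1.conj h1) hp (by rw [conj_pow, h3]; group) h3'
  obtain ⟨s, hs, e2⟩ := c.fa_shift M h h3 hn ht
  refine ⟨n * s, hn1.comm.mul_right hs, ?_⟩
  calc n * s * y * (n * s)⁻¹ = n * (s * y * s⁻¹) * n⁻¹ := by group
    _ = w := by rw [e2, e1, ← mul_assoc, ← (zp_comm hn1.comm ht).eq]; group

/-- The image of an element that centralises `a` and `y`. -/
theorem fa_cent (M : MD) (h : Im φ y M.a1) (h3 : y ^ 3 ^ k = 1) (h' : Im φ g q) (e : Commute y g) :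
    ∃ s ∈ zpowers M.a1, ∃ ρ, In4 M.r1 M.r2 ρ ∧ q = s * ρ := by
  obtain ⟨s, hs, t, ht, ρ, hρ, rfl⟩ := M.fa_cent (c.mem h') (h.commute h' e)
  obtain ⟨y', hy, k1⟩ := fa_zp h hs
  obtain ⟨r, k2⟩ := c.lift (M.fa_UM (M.fa_U hρ))
  have k3 : Im φ (y'⁻¹ * g * r⁻¹) t := by simpa [mul_assoc] using (k1.inv.mul h').mul k2.inv
  have k4 : Commute y (y'⁻¹ * g * r⁻¹) := (((zp_comm rfl hy).symm.inv_right).mul_right e).mul_right
    (c.fa_comm h k2 (M.fa_a1R hρ) h3 (M.U_sq _ (M.fa_U hρ))).inv_right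
  rcases ht with rfl | rfl | rfl
  · exact ⟨s, hs, ρ, hρ, by rw [mul_one]⟩
  · exact absurd k4 (c.fa_nc M h k3)
  · exact absurd k4.inv_right (c.fa_nc M h (by simpa using k3.inv))

theorem fa_mem3 (M : MD) (h : Commute a y) (h3 : y ^ 3 ^ k = 1) (hn : y ∉ zpowers a) (h1 : Commute a g) (h2 : Commute y g)
    (hg : g ^ 3 ^ l = 1) : g ∈ AA a y := by
  obtain ⟨φ', c', k1⟩ := c.fa_frame M h h3 hn
  obtain ⟨q, hq⟩ := Im.of_comm (φ := φ') h1
  obtain ⟨s, hs, ρ, hρ, rfl⟩ := c'.fa_cent M k1 h3 hq h2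
  have e : (s * ρ) ^ 3 ^ (l + 1) = 1 := by rw [pow_succ, pow_mul, (hq.pow _).unique (hg ▸ Im.one), one_pow]
  obtain ⟨m, hm⟩ : Odd (3 ^ (l + 1)) := Odd.pow (by decide)
  rw [(zp_comm (M.fa_a1R hρ) hs).mul_pow, pow_succ' 3, pow_mul s, zp_cube M.fa_pr.a_cube hs, one_pow, one_mul, ← pow_succ',
    hm, pow_succ, pow_mul, sq, M.U_sq _ (M.fa_U hρ), one_pow, one_mul] at e
  rw [e, mul_one] at hq
  obtain ⟨y', hy, k2⟩ := fa_zp k1 hs
  obtain ⟨t, ht, rfl⟩ := c'.fa_eq3 (k := k) k2 hq (by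
    obtain ⟨n, rfl⟩ := hy
    dsimp only
    rw [← zpow_natCast, ← zpow_mul, mul_comm, zpow_mul, zpow_natCast, h3, one_zpow]) hg
  exact mul_mem (mem_sup_left ht) (mem_sup_right hy)

end Cov

end Cfsg.Agent.J3L
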