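import Mathlib
import Cfsg.Agent.J3L.Defs
import Cfsg.Agent.J4T.Rank
import Cfsg.Agent.Spor.MB.Fam
import Cfsg.Agent.Spor.MB.Cent
import Cfsg.Agent.Spor.MB.Over

/-!
Tables for the hexad stabiliser in `M22`.
-/

set_option autoImplicit false

namespace Cfsg.Agent.J3L.MDt

open Cfsg Cfsg.Agent.Spor Cfsg.Agent.Spor.MB Cfsg.Agent.Spor.Dod Subgroup
open scoped Pointwise

/-- code -/
def cA1 : ℕ := 972875705121444083752957861326949536
/-- code -/
def cA2 : ℕ := 967922672538634519338972399499939360
/-- code -/
def cR1 : ℕ := 967812279691448225500382947153381408
/-- code -/
def cR2 : ℕ := 975346028712660580592452217730074656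
/-- code -/
def cV1 : ℕ := 971592882964418941354553515258775584
/-- code -/
def cV2 : ℕ := 972512676110088067912772961567868960
/-- code -/
def cP1 : ℕ := 967699887815422844247907960623761856
/-- code -/
def cP2 : ℕ := 967528743129250142307004454690461120
/-- code -/
def cD1 : ℕ := 982086239253390421183024133154657600
/-- code -/
def cE : ℕ := 971054094202045224860670048180950240
/-- code -/
def cTau : ℕ := 965094429999691373696704173595626016
/-- code -/
def cMu : ℕ := 971751146048193711787450146809746528
/-- code -/
def cAl : ℕ := 971594099268302134235014375640515616
/-- code -/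
def cBe : ℕ := 973130174857336885136747289839210016

/-- Strong generators of the hexad stabiliser. -/
def gB : List ℕ := [967236005637416059344678823318209696, 971592882964418941354553515258775584,
  969924247029227516220373644022940768, 971594099268302134235014375640515616, 980915266709283679625909308187806752,
  972995847379114216489588235306567712, 984235865005994746954145143334668320, 972606645568131968584696805283956768]

/-- The base and the walks. -/
def bB : List (ℕ × ℕ × ℕ) := [(4, 15, 0x111111121111111), (1, 6, 0x201111), (2, 5, 0x30121), (3, 3, 0x211), (5, 2, 0x11)]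

/-- Conjugating elements for the order 3. -/
def k3 : List ℕ := [984818244535754528103549039458486304, 970043406532410718640535026421761088,
  965094429999691373696704173595626016, 981522887530621617100096541813980416, 984238415158938730647358032419390528,
  961246894314040517937437989936680608, 984483365392426321289019668527599264, 959459453906644289638232880042392832]

/-- Conjugating elements for the order 2. -/
def k2 : List ℕ := [984818244535754528103549039458486304, 967922672538634519338972399499939360,
  972567142552434209808864589341866080, 982224259478962699667529342907889696, 974410710000365045493907659965901952,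
  964849045659149749167112127854877344, 971573502535564247891880895701956640, 984797642623984997567594628879848480,
  984235865005994746954145143334668320, 967933974803050083366039534080296480, 981968123507316616671319618844955680,
  973964287794543234914182692293624384, 966321990045791418149953610782820704, 967580209887969429273272537106024544,
  973720706982769863457636619771756192, 967354803420574609102861030505523680, 971594099268302134235014375640515616,
  984355540388451091565638427605402784, 971385901307196066736679255194797600, 973843032792302859544976526332174752,
  964903010304162400777077806436828320, 984439993950352204920312031707861504, 964564692073663190607866925799650624,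
  959700979052609244196188627136982528, 973121634796187022320434771509974560, 984034418802934875122865043854019936,
  959903507285636180529358212416718976, 982734165822321391662479359039967872, 967152363098086742945665881128509632,
  958591217027383204917997882294054464, 959943880217857827045673487978517824, 960106372232441382840839453788381888,
  958834878295255986567084009664451072, 958712991965443598519146357665737184, 958348197021385499219580723665215872]

/-- Generators of a Sylow 2-subgroup. -/
def gT : List ℕ := [cR1, cR2, cV1, cV2, cAl, cBe]

/-- Coset representatives. -/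
noncomputable def reps : List ℕ := idc :: (walk mul gB cD1 15 0x111111121111111 ++
  walk mul gB cE 65 0x11170121600000111311111112111111131111111211111113111111121111111)

/-- A four-group on codes. -/
def l4 (a b : ℕ) : List ℕ := [idc, a, b, mul a b]

/-- `tr3` on codes. -/
def t3 (b t : ℕ) : ℕ := mul (mul t (cj b t)) (mul (mul (inv b) t) b)

/-- Test for the pointwise stabiliser of the octad. -/
noncomputable def fx (c : ℕ) : Bool := allN (fun i => Bool.or (Bool.not (Nat.testBit 8536111 i)) (Nat.beq (ap c i) i)) 24

/-- Test for `M22`. -/
def q22 (c : ℕ) : Bool := Bool.and (Nat.beq (ap c 23) 23) (Nat.beq (ap c 0) 0)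

/-- Test for the hexad stabiliser. -/
def qB (c : ℕ) : Bool := Bool.and (q22 c) (Nat.beq (act c 8536111) 8536111)

theorem bsgs_B : bsgs ptD bB gB 5760 = true := by decide +kernel

theorem reps_dist : distinct (fun t => act t 8536111) 77 reps = true := by decide +kernel

theorem reps_a1 : allL (fun t => MB.force (act t 8536111) fun o => decide (act cA1 o = o → pc (Nat.land o 8915265) = 2 →
    o = 8536111)) reps = true := by decide +kernel

theorem all_a1 : chainAll (mkTs ptD bB gB) (fun n => Bool.or (Bool.not (comm cA1 n))
    (decide (∃ i ∈ ([0, 1, 2] : List ℕ), ∃ j ∈ ([0, 1, 2] : List ℕ), ∃ ρ ∈ l4 cR1 cR2, n = mul (mul (pw cA1 i) (pw cA2 j)) ρ))) idc = true := by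
  decide +kernel

theorem all_r1 : chainAll (mkTs ptD bB gB) (fun n => Bool.or (Bool.not (comm cR1 n))
    (MB.force (mul n n) fun n2 => MB.force (mul n2 n2) fun n4 => MB.force (mul n4 n4) fun n8 =>
      MB.force (cj n cA1) fun y => MB.force (t3 cA1 n) fun t =>
        (decide (comm cR2 n = true → ∃ i ∈ ([0, 1, 2] : List ℕ), fx (mul n (inv (pw cA1 i))) = true) &&
        decide (mul (mul n8 n8) n8 = idc) &&
        decide (∃ p ∈ l4 cP1 cP2, ∃ v ∈ l4 cV1 cV2, y = cj (mul p v) cA1 ∨ y = cj (mul p v) (inv cA1)) &&
        decide (n4 = idc → t = idc ∨ t = cR1 →
          ∃ p ∈ l4 cP1 cP2, ∃ v ∈ l4 cV1 cV2, n = mul p v ∨ n = mul (mul p v) cR1) &&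
        decide (n2 = idc → comm n (cj cA1 n) = true → t = idc →
          n ∈ l4 cV1 cV2 ∨ n ∈ l4 cP1 cP2 ∨ cj cR2 n ∈ l4 cP1 cP2)))) idc = true := by
  decide +kernel

theorem all_U : chainAll (mkTs ptD [(4, 15, 0x121312141213121)] gE0) (fun n =>
    decide (mul n n = idc ∧ ∃ ρ ∈ l4 cR1 cR2, ∃ v ∈ l4 cV1 cV2, n = mul ρ v)) idc = true := by decide +kernel

theorem grp3 : listGrp [cA1, cA2] (3 ^ 2) 8 0x11211211 = true := by decide +kernel

theorem cls3 : allL (fun x => Bool.or (Nat.beq x idc) (memL (conjL cA1 k3) x)) (walk mul [cA1, cA2] idc 8 0x11211211) =
    true := by decide +kernel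

/-- The walk through the Sylow 2-subgroup. -/
def wT : ℕ := 0x1213121412131215121312141213121612131214121312151213121412131216121312141213121512131214121312161213121412131215121312141213121

theorem grp2 : listGrp gT (2 ^ 7) 127 wT = true := by decide +kernel

theorem cls2 : allL (clsTest 2 (conjL cR1 k2) (conjL cR1 [])) (walk mul gT idc 127 wT) = true := by decide +kernel

end Cfsg.Agent.J3L.MDt
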