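import Mathlib
import Cfsg.Agent.J3L.MDTab

/-!
The hexad stabiliser in `M22`.
-/

set_option autoImplicit false

namespace Cfsg.Agent.J3L.MDt

open Cfsg Cfsg.Agent.Spor Cfsg.Agent.Spor.MB Cfsg.Agent.Spor.Dod Cfsg.Agent.J4T Cfsg.Agent.Loc.Mss Subgroup
open scoped Pointwise

theorem eqc {x y : PG} : x = y ↔ code x = code y := code_injective.eq_iff.symm

theorem mem22 {g : PG} (hg : g ∈ M24) (h : q22 (code g) = true) : g ∈ Spor.M22 := by
  rw [q22, Bool.and_eq_true, Nat.beq_eq, Nat.beq_eq, ← apply_pt_eq_iff (by norm_num) (by norm_num),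
    ← apply_pt_eq_iff (by norm_num) (by norm_num), pt_23, pt_0] at h
  exact HypA.mem_M22.2 ⟨hg, h⟩

theorem le24 : Spor.M22 ≤ M24 := fun _ h => (HypA.mem_M22.1 h).1

/-- The hexad stabiliser. -/
def BB : Subgroup PG := Spor.M22 ⊓ MulAction.stabilizer PG O0

theorem memB {g : PG} (hg : g ∈ M24) (h : qB (code g) = true) : g ∈ BB := by
  rw [qB, Bool.and_eq_true, Nat.beq_eq] at h
  exact ⟨mem22 hg h.1, (smul_unmask_eq_iff (by norm_num)).2 h.2⟩

theorem memB' {g : PG} {c : ℕ} (e : code g = c) (h : (inM24 c && qB c) = true) : g ∈ BB := by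
  subst e
  rw [Bool.and_eq_true] at h
  exact memB (mem_M24_of_code h.1) h.2

theorem mem22' {g : PG} {c : ℕ} (e : code g = c) (h : (inM24 c && q22 c) = true) : g ∈ Spor.M22 := by
  subst e
  rw [Bool.and_eq_true] at h
  exact mem22 (mem_M24_of_code h.1) h.2

theorem gens22 {gs : List ℕ} (h : allL (fun c => Bool.and (inM24 c) (q22 c)) gs = true) : Gens Spor.M22 gs :=
  gens_of_check q22 (fun _ => mem22) h

theorem gens_gB : Gens BB gB := gens_of_check qB (fun _ => memB) (by decide +kernel)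

theorem mem_U {g : PG} : g ∈ Golay.Fix O0 ↔ g ∈ M24 ∧ fx (code g) = true := by
  rw [Golay.mem_Fix, fx, allN_iff]
  refine and_congr_right fun _ => ⟨fun h i hi => ?_, fun h x hx => ?_⟩
  · cases e : Nat.testBit 8536111 i
    · rfl
    · simpa using (apply_pt_eq_iff hi hi).1 (h _ ((pt_mem_unmask hi).2 e))
  · have := h _ (ix_lt x)
    rw [mem_unmask.1 hx, ap_code_ix] at this
    exact ix_injective (by simpa using this)

theorem memU' {g : PG} {c : ℕ} (e : code g = c) (h : (inM24 c && fx c) = true) : g ∈ Golay.Fix O0 := by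
  subst e
  rw [Bool.and_eq_true] at h
  exact mem_U.2 ⟨mem_M24_of_code h.1, h.2⟩

theorem U_le : Golay.Fix O0 ≤ BB := fun g hg => by
  obtain ⟨h1, h2⟩ := Golay.mem_Fix.1 hg
  refine ⟨HypA.mem_M22.2 ⟨h1, h2 _ (pt_23 ▸ (pt_mem_unmask (by norm_num)).2 (by decide)),
    h2 _ (pt_0 ▸ (pt_mem_unmask (by norm_num)).2 (by decide))⟩, ?_⟩
  refine Finset.eq_of_subset_of_card_le (fun x hx => ?_) (Finset.card_smul_finset g O0).ge
  obtain ⟨y, hy, rfl⟩ := Finset.mem_smul_finset.1 hx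
  rwa [Equiv.Perm.smul_def, h2 y hy]

theorem nU : BB ≤ 𝐍[Golay.Fix O0] := fun g hg => mem_normalizer_iff.2 fun u => by
  have h := conj_mem_Fix_iff (le24 hg.1) O0 u
  rw [show g • O0 = O0 from hg.2] at h
  exact h.symm

theorem mem_l4 {a b : PG} {c : ℕ} (h : c ∈ l4 (code a) (code b)) : ∃ x, In4 a b x ∧ code x = c := by
  simp only [l4, List.mem_cons, List.not_mem_nil, or_false] at h
  rcases h with rfl | rfl | rfl | rfl
  exacts [⟨1, .inl rfl, code_one⟩, ⟨a, .inr (.inl rfl), rfl⟩, ⟨b, .inr (.inr (.inl rfl)), rfl⟩,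
    ⟨_, .inr (.inr (.inr rfl)), code_mul a b⟩]

theorem in4_of {a b x : PG} (h : code x ∈ l4 (code a) (code b)) : In4 a b x := by
  obtain ⟨y, hy, e⟩ := mem_l4 h
  exact code_injective e ▸ hy

theorem l4_of {a b x : PG} (h : In4 a b x) : code x ∈ l4 (code a) (code b) := by
  rcases h with rfl | rfl | rfl | rfl <;> simp [l4, code_one, code_mul]

theorem code_tr3 (b t : PG) : code (tr3 b t) = t3 (code b) (code t) := by
  simp only [tr3, t3, cj, code_mul, code_inv]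

variable {d e : PG} (hd : code d = cD1) (he : code e = cE)

include hd he in
theorem reps_spec : ∀ t ∈ reps, ∃ m ∈ BB, t = code m ∨ t = code (m * d) ∨ t = code (m * e) := by
  have key : ∀ x : PG, ∀ f c, ∀ t ∈ walk mul gB (code x) f c, ∃ m ∈ BB, t = code (m * x) := fun x f c => by
    refine walk_spec (P := fun t => ∃ m ∈ BB, t = code (m * x)) ?_ ⟨1, one_mem _, by rw [one_mul]⟩ f c
    rintro c hc _ ⟨m, hm, rfl⟩
    obtain ⟨g, hg, rfl⟩ := gens_gB.or_idc hc
    exact ⟨g * m, mul_mem hg hm, by rw [← code_mul, mul_assoc]⟩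
  intro t ht
  rw [reps, List.mem_cons, List.mem_append, ← hd, ← he] at ht
  rcases ht with rfl | ht | ht
  · exact ⟨1, one_mem _, .inl code_one.symm⟩
  · obtain ⟨m, hm, e⟩ := key _ _ _ t ht
    exact ⟨m, hm, .inr (.inl e)⟩
  · obtain ⟨m, hm, e⟩ := key _ _ _ t ht
    exact ⟨m, hm, .inr (.inr e)⟩

theorem gens_reps : Gens Spor.M22 reps := fun t ht => by
  obtain ⟨d, hd⟩ := exists_code (c := cD1) (by decide +kernel)
  obtain ⟨e, he⟩ := exists_code (c := cE) (by decide +kernel)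
  obtain ⟨m, hm, rfl | rfl | rfl⟩ := reps_spec hd he t ht
  exacts [⟨m, hm.1, rfl⟩, ⟨_, mul_mem hm.1 (mem22' hd (by decide +kernel)), rfl⟩,
    ⟨_, mul_mem hm.1 (mem22' he (by decide +kernel)), rfl⟩]

theorem orbit_facts : Nat.card BB ≤ 5760 ∧ ∀ c ∈ Spor.M22, ∃ t ∈ Spor.M22, code t ∈ reps ∧ t • O0 = c • O0 := by
  have hk : ∀ (t t' : ℕ) (y : Finset GolayPt), (∃ g ∈ Spor.M22, code g = t ∧ g • O0 = y) →
      (∃ g ∈ Spor.M22, code g = t' ∧ g • O0 = y) → act t 8536111 = act t' 8536111 := by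
    rintro _ _ _ ⟨g, -, rfl, rfl⟩ ⟨g', -, rfl, e⟩
    rw [smul_unmask, smul_unmask, unmask_inj (act_code_lt _ _) (act_code_lt _ _)] at e
    exact e.symm
  have hl : ∀ t ∈ reps, ∃ y ∈ MulAction.orbit Spor.M22 O0, ∃ g ∈ Spor.M22, code g = t ∧ g • O0 = y := fun t ht => by
    obtain ⟨g, hg, rfl⟩ := gens_reps t ht
    exact ⟨_, ⟨⟨g, hg⟩, rfl⟩, g, hg, rfl, rfl⟩
  have h1 := le_ncard_of_codes (Set.toFinite _) hk hl reps_dist
  have h2 : Nat.card Spor.M22 = _ * Nat.card BB := card_eq_ncard_orbit_mul Spor.M22 O0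
  have h3 := bsgs_le ptD gens_gB _ _ bsgs_B
  rw [Golay.card_M22] at h2
  refine ⟨by nlinarith, fun c hc => ?_⟩
  obtain ⟨t, ht, g, hg, rfl, e⟩ := cover_of_codes (Set.toFinite _) hk hl reps_dist (by nlinarith) (c • O0) ⟨⟨c, hc⟩, rfl⟩
  exact ⟨g, hg, ht, e⟩

theorem enum_B : EnumC BB (mkTs ptD bB gB) := bsgs_enumC ptD gens_gB _ _ bsgs_B orbit_facts.1

include hd he in
theorem dc_aux {c : PG} (hc : c ∈ Spor.M22) : ∃ m ∈ BB, ∃ n ∈ BB, c = m * n ∨ c = m * d * n ∨ c = m * e * n := by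
  obtain ⟨t, ht, h1, h2⟩ := orbit_facts.2 c hc
  have h3 : t⁻¹ * c ∈ BB := ⟨Spor.M22.mul_mem (Spor.M22.inv_mem ht) hc, by
    change (t⁻¹ * c) • O0 = O0
    rw [mul_smul, ← h2, inv_smul_smul]⟩
  obtain ⟨m, hm, e | e | e⟩ := reps_spec hd he _ h1 <;> refine ⟨m, hm, _, h3, ?_⟩ <;> rw [← code_injective e] <;> simp

theorem cent_r_B {r c : PG} (hr : code r = cR1) (hc : c ∈ Spor.M22) (h : Commute r c) : c ∈ BB := by
  have h1 := smul_fixSet_of_mem_CZ (x := r) (mem_CZ.2 ⟨le24 hc, h.symm⟩)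
  rw [fixSet_eq (m := 8536111) (by rw [hr]; decide +kernel)] at h1
  exact ⟨hc, h1⟩

theorem cent_a_B {a c : PG} (ha : code a = cA1) (hc : c ∈ Spor.M22) (h : Commute a c) : c ∈ BB := by
  have h0 : c ∈ CZ a := mem_CZ.2 ⟨le24 hc, h.symm⟩
  have h1 := smul_fixSet_of_mem_CZ h0
  rw [fixSet_eq (m := 8915265) (by rw [ha]; decide +kernel)] at h1
  have h2 : a • c • O0 = c • O0 := smul_fixed_of_mem_CZ h0 (memB' ha (by decide +kernel)).2
  obtain ⟨t, -, h3, h4⟩ := orbit_facts.2 c hc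
  have h5 := allL_iff.1 reps_a1 _ h3
  rw [MB.force_eq, decide_eq_true_eq] at h5
  have h6 : (c • O0 ∩ unmask 8915265).card = 2 := by
    rw [← h1, ← Finset.smul_finset_inter, Finset.card_smul_finset, ← unmask_land, card_unmask]
    decide +kernel
  rw [← h4, smul_unmask] at h2 h6
  rw [smul_unmask_eq_iff (act_code_lt _ _), ha] at h2
  rw [← unmask_land, card_unmask] at h6
  refine ⟨hc, ?_⟩
  change c • O0 = O0
  rw [← h4, smul_unmask, h5 h2 h6]

theorem conj3 {a c : PG} (ha : code a = cA1) (hc : c ∈ Spor.M22) {k : ℕ} (h : c ^ 3 ^ k = 1) (h1 : c ≠ 1) :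
    ∃ m ∈ Spor.M22, m * a * m⁻¹ = c := by
  have := Fact.mk Nat.prime_three
  obtain ⟨x, hx, h2⟩ := exists_conj_of_sylow (gens22 (by decide +kernel)) grp3
    (by rw [Golay.card_M22]; exact factorization_eq_of Nat.prime_three (by norm_num) (by norm_num)) cls3 hc h
  rw [Bool.or_eq_true, Nat.beq_eq, ← eq_one_iff_code, memL_iff, ← ha] at h2
  obtain ⟨y, hy, e⟩ := exists_of_mem_conjL (gens22 (gs := k3) (by decide +kernel))
    (h2.resolve_left (by simpa using h1))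
  exact ⟨x⁻¹ * y, mul_mem (inv_mem hx) hy, by
    rw [mul_inv_rev, inv_inv, mul_assoc x⁻¹, mul_assoc x⁻¹, ← mul_assoc (y * a), e]; group⟩

theorem gens_gT : Gens Spor.M22 gT := gens22 (by decide +kernel)

theorem conj2 {r c : PG} (hr : code r = cR1) (hc : c ∈ Spor.M22) (h : c * c = 1) (h1 : c ≠ 1) :
    ∃ m ∈ Spor.M22, m * r * m⁻¹ = c :=
  (two_classes gens_gT grp2
    (by rw [Golay.card_M22]; exact factorization_eq_of Nat.prime_two (by norm_num) (by norm_num))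
    (gens22 (gs := k2) (by decide +kernel)) (kb := []) (fun _ h => absurd h List.not_mem_nil) (a := r) (b := r)
    (by rw [hr]; exact cls2) hc (orderOf_eq_prime (by rwa [sq]) h1)).elim id id

end Cfsg.Agent.J3L.MDt
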