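import Mathlib
import Cfsg.Agent.J3L.Defs
import Cfsg.Agent.J3L.MDGrp

/-!
The facts on `M22`.
-/

set_option autoImplicit false

namespace Cfsg.Agent.J3L

open Cfsg Cfsg.Agent.Spor Cfsg.Agent.Spor.MB Cfsg.Agent.J4T Cfsg.Agent.Loc.Mss Subgroup

namespace MDt

/-- The chosen elements. -/
structure El where
  (a1 a2 r1 r2 v1 p1 d1 τ μ α β : PG)
  ha1 : code a1 = cA1
  ha2 : code a2 = cA2
  hr1 : code r1 = cR1
  hr2 : code r2 = cR2
  hv1 : code v1 = cV1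
  hp1 : code p1 = cP1
  hd1 : code d1 = cD1
  hτ : code τ = cTau
  hμ : code μ = cMu
  hα : code α = cAl
  hβ : code β = cBe

theorem exists_El : Nonempty El := by
  obtain ⟨a1, ha1⟩ := exists_code (c := cA1) (by decide +kernel)
  obtain ⟨a2, ha2⟩ := exists_code (c := cA2) (by decide +kernel)
  obtain ⟨r1, hr1⟩ := exists_code (c := cR1) (by decide +kernel)
  obtain ⟨r2, hr2⟩ := exists_code (c := cR2) (by decide +kernel)
  obtain ⟨v1, hv1⟩ := exists_code (c := cV1) (by decide +kernel)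
  obtain ⟨p1, hp1⟩ := exists_code (c := cP1) (by decide +kernel)
  obtain ⟨d1, hd1⟩ := exists_code (c := cD1) (by decide +kernel)
  obtain ⟨τ, hτ⟩ := exists_code (c := cTau) (by decide +kernel)
  obtain ⟨μ, hμ⟩ := exists_code (c := cMu) (by decide +kernel)
  obtain ⟨α, hα⟩ := exists_code (c := cAl) (by decide +kernel)
  obtain ⟨β, hβ⟩ := exists_code (c := cBe) (by decide +kernel)
  exact ⟨⟨a1, a2, r1, r2, v1, p1, d1, τ, μ, α, β, ha1, ha2, hr1, hr2, hv1, hp1, hd1, hτ, hμ, hα, hβ⟩⟩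

theorem forall_in4 {G : Type*} [Group G] {a b : G} {P : G → Prop} :
    (∀ x, In4 a b x → P x) ↔ P 1 ∧ P a ∧ P b ∧ P (a * b) := by
  simp only [In4, forall_eq_or_imp, forall_eq]

namespace El

variable (E : El)

theorem hv2 : code (E.a1 * E.v1 * E.a1⁻¹) = cV2 := by
  rw [code_conj, E.ha1, E.hv1]; decide +kernel

theorem hp2 : code (E.a1 * E.p1 * E.a1⁻¹) = cP2 := by
  rw [code_conj, E.ha1, E.hp1]; decide +kernel

theorem he : code (E.d1⁻¹ * E.r1 * E.d1) = cE := by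
  rw [code_mul, code_mul, code_inv, E.hd1, E.hr1]; decide +kernel

theorem lR {c : ℕ} (h : c ∈ l4 cR1 cR2) : ∃ x, In4 E.r1 E.r2 x ∧ code x = c := mem_l4 (by rwa [E.hr1, E.hr2])

theorem lV {c : ℕ} (h : c ∈ l4 cV1 cV2) : ∃ x, In4 E.v1 (E.a1 * E.v1 * E.a1⁻¹) x ∧ code x = c :=
  mem_l4 (by rwa [E.hv1, E.hv2])

theorem lP {c : ℕ} (h : c ∈ l4 cP1 cP2) : ∃ x, In4 E.p1 (E.a1 * E.p1 * E.a1⁻¹) x ∧ code x = c :=
  mem_l4 (by rwa [E.hp1, E.hp2])

theorem ofR {x : PG} (h : In4 E.r1 E.r2 x) : code x ∈ l4 cR1 cR2 := by simpa only [E.hr1, E.hr2] using l4_of h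

theorem ofV {x : PG} (h : In4 E.v1 (E.a1 * E.v1 * E.a1⁻¹) x) : code x ∈ l4 cV1 cV2 := by
  simpa only [E.hv1, E.hv2] using l4_of h

theorem ofP {x : PG} (h : In4 E.p1 (E.a1 * E.p1 * E.a1⁻¹) x) : code x ∈ l4 cP1 cP2 := by
  simpa only [E.hp1, E.hp2] using l4_of h

theorem U_facts {u : PG} (hu : u ∈ Golay.Fix O0) : u * u = 1 ∧
    ∃ ρ v, In4 E.r1 E.r2 ρ ∧ In4 E.v1 (E.a1 * E.v1 * E.a1⁻¹) v ∧ u = ρ * v := by
  obtain ⟨h1, _, h2, _, h3, e⟩ := of_decide_eq_true (enumC_E0.forall all_U u hu)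
  obtain ⟨ρ, hρ, rfl⟩ := E.lR h2
  obtain ⟨v, hv, rfl⟩ := E.lV h3
  exact ⟨by rwa [eq_one_iff_code, code_mul], ρ, v, hρ, hv, by rwa [eqc, code_mul]⟩

theorem R_mem {x : PG} (h : In4 E.r1 E.r2 x) : x ∈ Golay.Fix O0 :=
  memU' rfl ((by decide +kernel : ∀ c ∈ l4 cR1 cR2, (inM24 c && fx c) = true) _ (E.ofR h))

theorem V_mem {x : PG} (h : In4 E.v1 (E.a1 * E.v1 * E.a1⁻¹) x) : x ∈ Golay.Fix O0 :=
  memU' rfl ((by decide +kernel : ∀ c ∈ l4 cV1 cV2, (inM24 c && fx c) = true) _ (E.ofV h))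

theorem cent_a1 {c : PG} (hc : c ∈ Spor.M22) (h : Commute E.a1 c) :
    ∃ (i j : ℕ) (ρ : PG), In4 E.r1 E.r2 ρ ∧ c = E.a1 ^ i * E.a2 ^ j * ρ := by
  have h1 := enum_B.forall all_a1 c (cent_a_B E.ha1 hc h)
  rw [← E.ha1, comm_iff.2 h, E.ha1] at h1
  obtain ⟨i, -, j, -, _, h2, e⟩ := of_decide_eq_true h1
  obtain ⟨ρ, hρ, rfl⟩ := E.lR h2
  exact ⟨i, j, ρ, hρ, by rwa [eqc, code_mul, code_mul, code_pow, code_pow, E.ha1, E.ha2]⟩

theorem r_facts {c : PG} (hc : c ∈ Spor.M22) (h : Commute E.r1 c) :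
    (Commute E.r2 c → ∃ u ∈ Golay.Fix O0, ∃ i : ℕ, c = u * E.a1 ^ i) ∧ c ^ 24 = 1 ∧
    (∃ p v n, In4 E.p1 (E.a1 * E.p1 * E.a1⁻¹) p ∧ In4 E.v1 (E.a1 * E.v1 * E.a1⁻¹) v ∧
      c = p * v * n ∧ (n * E.a1 * n⁻¹ = E.a1 ∨ n * E.a1 * n⁻¹ = E.a1⁻¹)) ∧
    (c ^ 4 = 1 → tr3 E.a1 c = 1 ∨ tr3 E.a1 c = E.r1 → ∃ p v, In4 E.p1 (E.a1 * E.p1 * E.a1⁻¹) p ∧
      In4 E.v1 (E.a1 * E.v1 * E.a1⁻¹) v ∧ (c = p * v ∨ c = p * v * E.r1)) ∧
    (c * c = 1 → Commute c (E.a1 * c * E.a1⁻¹) → tr3 E.a1 c = 1 → In4 E.v1 (E.a1 * E.v1 * E.a1⁻¹) c ∨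
      In4 E.p1 (E.a1 * E.p1 * E.a1⁻¹) c ∨ In4 E.p1 (E.a1 * E.p1 * E.a1⁻¹) (E.r2 * c * E.r2⁻¹)) := by
  have h1 := enum_B.forall all_r1 c (cent_r_B E.hr1 hc h)
  have h0 : comm cR1 (code c) = true := E.hr1 ▸ comm_iff.2 h
  simp only [h0, Bool.not_true, Bool.false_or, MB.force_eq, Bool.and_eq_true, decide_eq_true_eq] at h1
  obtain ⟨⟨⟨⟨k1, k2⟩, k3⟩, k4⟩, k5⟩ := h1
  refine ⟨fun h2 => ?_, ?_, ?_, fun h2 h3 => ?_, fun h2 h3 h4 => ?_⟩
  · obtain ⟨i, -, e⟩ := k1 (E.hr2 ▸ comm_iff.2 h2)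
    refine ⟨c * (E.a1 ^ i)⁻¹, mem_U.2 ⟨mul_mem (le24 hc) (inv_mem (pow_mem (le24 (memB' E.ha1 ?_).1) i)), ?_⟩, i, by simp⟩
    · decide +kernel
    · rwa [code_mul, code_inv, code_pow, E.ha1]
  · simp only [← code_mul, ← eq_one_iff_code] at k2
    rw [← k2]; simp only [pow_succ, pow_zero, one_mul, mul_assoc]
  · obtain ⟨_, h2, _, h3, e⟩ := k3
    obtain ⟨p, hp, rfl⟩ := E.lP h2
    obtain ⟨v, hv, rfl⟩ := E.lV h3
    simp only [← E.ha1, ← code_mul, ← code_inv, ← code_conj, ← eqc] at e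
    refine ⟨p, v, (p * v)⁻¹ * c, hp, hv, by group, e.imp (fun e => ?_) fun e => ?_⟩ <;>
    · rw [mul_inv_rev (p * v)⁻¹, mul_assoc _ c, mul_assoc _ (c * _), ← mul_assoc (c * _), e]; group
  · obtain ⟨_, h4, _, h5, e⟩ := k4 (by
      simp only [← code_mul, ← eq_one_iff_code]; rw [← h2]; simp only [pow_succ, pow_zero, one_mul, mul_assoc])
      (by simpa only [eqc, code_tr3, code_one, E.ha1, E.hr1] using h3)
    obtain ⟨p, hp, rfl⟩ := E.lP h4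
    obtain ⟨v, hv, rfl⟩ := E.lV h5
    exact ⟨p, v, hp, hv, by simpa only [eqc, code_mul, E.hr1] using e⟩
  · have e := k5 (by rwa [← code_mul, ← eq_one_iff_code]) (by rw [← E.ha1, ← code_conj]; exact comm_iff.2 h3)
      (by rwa [← E.ha1, ← code_tr3, ← eq_one_iff_code])
    refine e.imp (fun e => in4_of ?_) (Or.imp (fun e => in4_of ?_) fun e => in4_of ?_)
    · rwa [E.hv1, E.hv2]
    · rwa [E.hp1, E.hp2]
    · rwa [E.hp1, E.hp2, code_conj, E.hr2]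

/-- The codes of the elements of the three four-groups. -/
def lE : List ℕ := l4 cV1 cV2 ++ l4 cP1 cP2 ++ (l4 cP1 cP2).map (cj (inv cR2))

theorem mem_lE {t : PG} (h : In4 E.v1 (E.a1 * E.v1 * E.a1⁻¹) t ∨ In4 E.p1 (E.a1 * E.p1 * E.a1⁻¹) t ∨
    In4 E.p1 (E.a1 * E.p1 * E.a1⁻¹) (E.r2 * t * E.r2⁻¹)) : code t ∈ lE := by
  rw [lE, List.mem_append, List.mem_append, List.mem_map]
  rcases h with h | h | h
  · exact .inl (.inl (E.ofV h))
  · exact .inl (.inr (E.ofP h))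
  · refine .inr ⟨_, E.ofP h, ?_⟩
    rw [← E.hr2, ← code_inv, ← code_conj]; congr 1; group

theorem mem_E {t : PG} (ht : t ∈ Spor.M22) : t ∈ Es 1 E.a1 E.r1 ↔ In4 E.v1 (E.a1 * E.v1 * E.a1⁻¹) t ∨
    In4 E.p1 (E.a1 * E.p1 * E.a1⁻¹) t ∨ In4 E.p1 (E.a1 * E.p1 * E.a1⁻¹) (E.r2 * t * E.r2⁻¹) := by
  refine ⟨fun h => (E.r_facts ht h.2.1).2.2.2.2 h.2.2.1 h.2.2.2.1 h.2.2.2.2, fun h => ?_⟩
  obtain ⟨h1, h2, h3, h4⟩ := (by decide +kernel : ∀ c ∈ lE, comm cR1 c = true ∧ mul c c = idc ∧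
    comm c (cj cA1 c) = true ∧ t3 cA1 c = idc) _ (E.mem_lE h)
  exact ⟨Commute.one_left t, comm_iff.1 (E.hr1 ▸ h1), by rwa [eq_one_iff_code, code_mul],
    comm_iff.1 (by rwa [code_conj, E.ha1]), by rwa [eq_one_iff_code, code_tr3, E.ha1]⟩

theorem E_comm {t t' : PG} (ht : t ∈ Spor.M22) (ht' : t' ∈ Spor.M22) (h : t ∈ Es 1 E.a1 E.r1)
    (h' : t' ∈ Es 1 E.a1 E.r1) : Commute t t' ∨ t * t' = E.r1 * (t' * t) := by
  have h1 := (by decide +kernel : ∀ c ∈ lE, ∀ c' ∈ lE, comm c c' = true ∨ mul c c' = mul cR1 (mul c' c)) _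
    (E.mem_lE ((E.mem_E ht).1 h)) _ (E.mem_lE ((E.mem_E ht').1 h'))
  exact h1.imp comm_iff.1 fun e => by rwa [eqc, code_mul, code_mul, code_mul, E.hr1]

theorem sup_eq : Golay.Fix O0 ⊔ closure {E.α, E.β} = clo gT := by
  have hm : ∀ x : PG, code x ∈ gT → x ∈ clo gT := fun x hx => subset_closure hx
  have h4 : ∀ a b x : PG, a ∈ clo gT → b ∈ clo gT → In4 a b x → x ∈ clo gT := by
    rintro a b x ha hb (rfl | rfl | rfl | rfl)
    exacts [one_mem _, ha, hb, mul_mem ha hb]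
  refine le_antisymm (sup_le (fun u hu => ?_) ((closure_le _).2 ?_)) ((closure_le _).2 fun x hx => ?_)
  · obtain ⟨ρ, v, h1, h2, rfl⟩ := (E.U_facts hu).2
    exact mul_mem (h4 _ _ _ (hm _ (by simp [gT, E.hr1])) (hm _ (by simp [gT, E.hr2])) h1)
      (h4 _ _ _ (hm _ (by simp [gT, E.hv1])) (hm _ (by rw [E.hv2]; simp [gT])) h2)
  · rintro x (rfl | rfl)
    exacts [hm _ (by simp [gT, E.hα]), hm _ (by simp [gT, E.hβ])]
  · have h1 : code x ∈ gT := hx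
    simp only [gT, List.mem_cons, List.not_mem_nil, or_false] at h1
    rw [← E.hr1, ← E.hr2, ← E.hv1, ← E.hv2, ← E.hα, ← E.hβ] at h1
    simp only [← eqc] at h1
    rcases h1 with rfl | rfl | rfl | rfl | rfl | rfl
    exacts [mem_sup_left (E.R_mem (.inr (.inl rfl))), mem_sup_left (E.R_mem (.inr (.inr (.inl rfl)))),
      mem_sup_left (E.V_mem (.inr (.inl rfl))), mem_sup_left (E.V_mem (.inr (.inr (.inl rfl)))),
      mem_sup_right (subset_closure (.inl rfl)), mem_sup_right (subset_closure (.inr rfl))]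

theorem m8 : 3 ∣ orderOf (E.v1 * (E.d1 * E.r2 * E.d1⁻¹)) := by
  have := Fact.mk Nat.prime_three
  have h : orderOf ((E.v1 * (E.d1 * E.r2 * E.d1⁻¹)) ^ 2) = 3 := by
    refine orderOf_of_code ?_ ?_ <;> rw [code_pow, code_mul, code_conj, E.hv1, E.hd1, E.hr2] <;> decide +kernel
  exact h ▸ orderOf_pow_dvd 2

end El

end MDt

open MDt in
theorem exists_MD : Nonempty MD := by
  obtain ⟨E⟩ := exists_El
  have := Fact.mk Nat.prime_three
  have a1B := memB' E.ha1 (by decide +kernel)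
  have a2B := memB' E.ha2 (by decide +kernel)
  have αB := memB' E.hα (by decide +kernel)
  refine ⟨{
    a1 := E.a1, a2 := E.a2, r1 := E.r1, r2 := E.r2, v1 := E.v1, p1 := E.p1, d1 := E.d1, τ := E.τ, μ := E.μ, ν := E.α
    α := E.α, β := E.β, U := Golay.Fix O0, B := BB
    B_le := inf_le_left
    U_le := U_le
    nU := nU
    memB := ⟨a1B, a2B, memB' E.hp1 (by decide +kernel), memB' E.hτ (by decide +kernel),
      memB' E.hμ (by decide +kernel), αB, αB, memB' E.hβ (by decide +kernel)⟩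
    d1_mem := mem22' E.hd1 (by decide +kernel)
    a1_ord := orderOf_of_code (by rw [E.ha1]; decide +kernel) (by rw [E.ha1]; decide +kernel)
    a2_ord := orderOf_of_code (by rw [E.ha2]; decide +kernel) (by rw [E.ha2]; decide +kernel)
    a12 := ?_
    mem_U := fun u => ⟨fun h => (E.U_facts h).2, by
      rintro ⟨ρ, v, h1, h2, rfl⟩; exact mul_mem (E.R_mem h1) (E.V_mem h2)⟩
    U_sq := fun u h => (E.U_facts h).1
    card_U := Golay.card_Fix_octad O0_mem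
    indep := fun ρ v h1 h2 e => eq_one_iff_code.2 ((by decide +kernel : ∀ c ∈ l4 cR1 cR2, c ∈ l4 cV1 cV2 → c = idc) _
      (E.ofR h1) (E.ofV (e ▸ h2)))
    r_ne := ?_
    v_ne := ?_
    a1_r := ?_
    a2_r := ?_
    a1_v := ?_
    a2_v := ?_
    cent_a1 := fun c => E.cent_a1
    conj3 := fun c hc k => conj3 E.ha1 hc
    conj2 := fun c => conj2 E.hr1
    cent_R := fun c hc h => (E.r_facts hc h).1
    cent_r_B := fun c => cent_r_B E.hr1
    cent_r_exp := fun c hc h => (E.r_facts hc h).2.1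
    cent_r_fac := fun c hc h => (E.r_facts hc h).2.2.1
    cent_r_tr := fun c hc h => (E.r_facts hc h).2.2.2.1
    mem_E := fun t => E.mem_E
    E_comm := fun t ht t' ht' => E.E_comm ht ht'
    p_notU := fun p h1 h2 => eq_one_iff_code.2 ((by decide +kernel : ∀ c ∈ l4 cP1 cP2, fx c = true → c = idc) _
      (E.ofP h1) (mem_U.1 h2).2)
    p_ne := ?_
    pw := ?_
    pv := ?_
    E_cent := fun p v h1 h2 k1 k2 k3 k4 => ?_
    m6 := ?_
    dc := fun c => dc_aux E.hd1 E.he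
    d1_a := ⟨memB' (c := mul (mul (inv cD1) cA1) cD1) ?_ (by decide +kernel),
      memB' (c := mul (mul (inv cD1) cA2) cD1) ?_ (by decide +kernel)⟩
    m8 := ⟨_, E.V_mem (.inr (.inl rfl)), _, E.R_mem (.inr (.inr (.inl rfl))), E.m8⟩
    m10 := ?_
    m11 := ?_
    d8 := ⟨?_, ?_, ?_, ?_, ?_, ?_, by rw [E.sup_eq]; exact card_clo_of_listGrp gens_gT grp2⟩
    rank := fun F hF h => Nat.le_of_dvd (by norm_num) (card_dvd_of_fix (hF.trans le24)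
      (fun x hx => by rw [sq, h x hx]) fun x hx => (HypA.mem_M22.1 (hF hx)).2.1) }⟩
  case refine_11 =>
    have h := (by decide +kernel : ∀ p ∈ l4 cP1 cP2, ∀ v ∈ l4 cV1 cV2, comm cV1 (mul p v) = true →
      comm cV2 (mul p v) = true → comm cP1 (mul p v) = true → comm cP2 (mul p v) = true → p = idc ∧ v = idc) _
      (E.ofP h1) _ (E.ofV h2)
    rw [← code_mul, ← E.hv1, ← E.hv2, ← E.hp1, ← E.hp2, comm_iff, comm_iff, comm_iff, comm_iff, ← eq_one_iff_code,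
      ← eq_one_iff_code] at h
    exact h k1 k2 k3 k4
  case refine_12 =>
    refine orderOf_of_code ?_ ?_ <;> rw [code_mul, code_conj, E.hp1, E.hα] <;> decide +kernel
  all_goals simp only [ne_eq, commute_iff_eq, eqc, code_mul, code_inv, code_pow, code_one, code_tr3, E.ha1, E.ha2,
    E.hr1, E.hr2, E.hv1, E.hp1, E.hd1, E.hτ, E.hμ, E.hα, E.hβ]
  all_goals decide +kernel

end Cfsg.Agent.J3L
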