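import Mathlib
import Cfsg.Agent.J3L.Base
import Cfsg.Agent.J3L.MD
import Cfsg.Agent.J3L.FusA

/-!
Local facts for a pair of elements of order 3, both cases.
-/

set_option autoImplicit false
set_option linter.unusedSectionVars false

namespace Cfsg.Agent.J3L

open Cfsg Cfsg.Agent.Spor Cfsg.Agent.Spor.MB Cfsg.Agent.J4T Cfsg.Agent.Loc.Mss Subgroup FA

variable {G : Type*} [Group G] [Finite G] {ζ : G → G} {a b : G}

theorem Cov.la_card {z : G} {φ : 𝐜[a] →* PG} (c : Cov a z φ) {K : Subgroup G} (hK : K ≤ 𝐜[a]) (h2 : ∀ t ∈ K, t * t = 1) :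
    Nat.card K = Nat.card (φ.comp (inclusion hK)).range * Nat.card ((zpowers z).subgroupOf K) := by
  rw [← index_ker, mul_comm, ← (φ.comp (inclusion hK)).ker.card_mul_index]
  congr 3
  ext t
  rw [mem_subgroupOf, mem_zpowers_iff_of_sq c.zz]
  exact ⟨fun h => c.ker_two (k := 1) ((c.ker _).1 h) (by rw [pow_one, sq, h2 t t.2]), fun h =>
    (c.ker _).2 (mem_sup_right ((mem_zpowers_iff_of_sq c.zz).2 h))⟩

theorem Pr.la_norm (p : Pr a b) {s : G} (h1 : Commute a s) (h2 : s * b * s⁻¹ = a * b) : s ∈ 𝐍[AA a b] :=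
  cj_eq_iff.1 (by rw [cj_AA, conj_of_comm h1.symm, h2, p.mul_left.2])

theorem Pr.la_UU (p : Pr a b) {c s : G} (hc : c ∈ AA a b) (hs : s ∈ AA a b) : s ∈ 𝐍[UU (AA a b) c] :=
  norm_UU (le_normalizer hs) (p.comm_of_mem hc hs)

namespace Hyp

variable (h : Hyp ζ)
include h

theorem isConj (ha : orderOf a = 3) (hb : orderOf b = 3) : IsConj a b := by
  obtain ⟨c, p⟩ := h.pair a ha
  obtain ⟨d, q⟩ := h.pair b hb
  exact isConj_iff.2 ((h.trans _ _ _ _ p q).imp fun _ e => e.1)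

theorem cube {g : G} {k : ℕ} (hg : g ^ 3 ^ k = 1) : g ^ 3 = 1 := by
  obtain ⟨M⟩ := exists_MD
  obtain ⟨j, -, hj⟩ := (Nat.dvd_prime_pow Nat.prime_three).1 (orderOf_dvd_of_pow_eq_one hg)
  rcases j with _ | j
  · rw [orderOf_eq_one_iff.1 hj, one_pow]
  obtain ⟨n, hn⟩ := exists_three (c := g) (hj ▸ dvd_pow_self 3 j.succ_ne_zero)
  obtain ⟨φ, c⟩ := h.cov _ hn
  obtain ⟨b, p⟩ := h.pair _ hn
  by_cases e : g ∈ zpowers (g ^ n)
  · exact zp_cube p.a_cube e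
  · obtain ⟨s, -, e1⟩ := c.fa_conj3 (k := 1) M p.comm p.b_cube p.nm ((Commute.refl g).pow_left n) hg e
    rw [← e1, conj_pow, p.b_cube]; group

theorem rank (ha : orderOf a = 3) {F : Subgroup G} (hF : F ≤ 𝐜[a]) (h2 : ∀ t ∈ F, t * t = 1) :
    Nat.card F ≤ 16 * Nat.card (zpowers (ζ a)) := by
  obtain ⟨M⟩ := exists_MD
  obtain ⟨φ, c⟩ := h.cov a ha
  rw [c.la_card hF h2]
  refine Nat.mul_le_mul (M.rank _ ?_ ?_) ?_
  · rintro _ ⟨t, rfl⟩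
    exact c.mem ⟨hF t.2, rfl⟩
  · rintro _ ⟨t, rfl⟩
    rw [← map_mul, show t * t = 1 from Subtype.ext (h2 t t.2), map_one]
  · rw [← card_map_of_injective (subtype_injective F), subgroupOf_map_subtype]
    exact card_le_of_le inf_le_left

theorem exp (ha : orderOf a = 3) {t g : G} (h1 : Commute a t) (h2 : t * t = 1) (h3 : t ∉ zpowers (ζ a))
    (h4 : Commute a g) (h5 : Commute t g) : g ^ 144 = 1 := by
  obtain ⟨M⟩ := exists_MD
  obtain ⟨φ, c⟩ := h.cov a ha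
  obtain ⟨p, hp⟩ := Im.of_comm (φ := φ) h1
  obtain ⟨q, hq⟩ := Im.of_comm (φ := φ) h4
  obtain ⟨m, hm, rfl⟩ := M.conj2 p (c.mem hp) ((hp.mul hp).unique (h2 ▸ Im.one)) (c.fa_ne2 hp h2 h3)
  have e := M.cent_r_exp (m⁻¹ * q * m⁻¹⁻¹) (mul_mem (mul_mem (inv_mem hm) (c.mem hq)) (inv_mem (inv_mem hm)))
    (by simpa [mul_assoc] using comm_conj (hp.commute hq h5) m⁻¹)
  rw [conj_pow, conj_eq_one_iff] at e
  rw [show 144 = 24 * 6 from rfl, pow_mul, c.ker_pow (c.im_one.1 (e ▸ hq.pow 24))]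

/-- Frames; the involution `r` can be prescribed. -/
theorem exists_fr (M : MD) (p : Pr a b) : ∃ φ, Cov a (ζ a) φ ∧ Im φ b M.a1 := by
  obtain ⟨φ, c⟩ := h.cov a p.a3
  exact c.fa_frame (k := 1) M p.comm p.b_cube p.nm

/-- Lifts of involutions are involutions. -/
theorem sq_of_im {φ : 𝐜[a] →* PG} (c : Cov a (ζ a) φ) {t : G} {q : PG} {k : ℕ} (h1 : Im φ t q) (h2 : q * q = 1)
    (h3 : t ^ 2 ^ k = 1) : t * t = 1 := by
  obtain ⟨M⟩ := exists_MD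
  refine (c.ker_two (k := k) (c.im_one.1 (h2 ▸ h1.mul h1)) (by rw [← sq, ← pow_mul, mul_comm, pow_mul, h3, one_pow])).elim
    id fun e => ?_
  rcases h.sep with h6 | h6
  · rw [e, h6 a c.ord]
  suffices ∃ w, Im φ w q ∧ w * w = 1 by
    obtain ⟨w, k1, k2⟩ := this
    obtain ⟨s, hs, rfl⟩ := c.eq_mul k1 h1
    have e1 := c.ker_comm hs k1.comm
    rw [mul_assoc, ← mul_assoc s, e1.eq, ← mul_assoc, ← mul_assoc, k2, one_mul] at e ⊢
    rw [e]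
    exact one_of_23 c.zz (by rw [← e, ← sq, ← pow_mul, c.ker_pow hs])
  by_cases hq : q = 1
  · exact ⟨1, hq ▸ Im.one, mul_one 1⟩
  obtain ⟨b, p⟩ := h.pair a c.ord
  obtain ⟨φ', c'⟩ := h.cov b p.b3
  obtain ⟨q', hq'⟩ := Im.of_comm (φ := φ) (c'.zc a p.comm.symm).symm
  obtain ⟨m, hm, rfl⟩ := M.conj2 q (c.mem h1) h2 hq
  obtain ⟨m', hm', rfl⟩ := M.conj2 q' (c.mem hq') ((hq'.mul hq').unique (c'.zz ▸ Im.one)) (c.fa_ne2 hq' c'.zz fun e => by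
    obtain ⟨g, hg⟩ := isConj_iff.1 (h.isConj p.a3 p.b3)
    rcases (mem_zpowers_iff_of_sq c.zz).1 e with e | e
    · exact h6 a b p (by rw [e, ← conj_eq_one_iff (a := g), ← h.conj a g p.a3, hg, e])
    · exact h6 a b p e.symm)
  obtain ⟨n, hn⟩ := c.lift (mul_mem hm (inv_mem hm'))
  exact ⟨n * ζ b * n⁻¹, by simpa [mul_assoc] using hn.conj hq', by rw [conj_mul, c'.zz]; group⟩

section Fr

variable {φ : 𝐜[a] →* PG} (c : Cov a (ζ a) φ)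
include c

theorem la_lift {q : PG} (hq : q ∈ Spor.M22) (h2 : q * q = 1) : ∃ t, t * t = 1 ∧ Im φ t q := by
  obtain ⟨t, ht, e⟩ := c.lift_two hq h2
  refine ⟨t, h.sq_of_im (k := 2) c ht h2 ?_, ht⟩
  rw [show 2 ^ 2 = 2 * 2 from rfl, pow_mul, sq t, sq]
  rcases e with e | e <;> rw [e]
  exacts [mul_one 1, c.zz]

theorem la_mul {s t : G} {p q : PG} (h1 : Im φ s p) (h2 : Im φ t q) (h3 : s * s = 1) (h4 : t * t = 1)
    (h5 : p * q * (p * q) = 1) : s * t * (s * t) = 1 := by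
  refine h.sq_of_im (k := 2) c (h1.mul h2) h5 ?_
  have e := (c.ker_comm (c.im_one.1 (h5 ▸ (h1.mul h2).mul (h1.mul h2))) h1.comm).eq
  have e1 : t * s * (t * s) = s * t * (s * t) := by
    calc t * s * (t * s) = s * s * (t * s * (t * s)) := by rw [h3, one_mul]
      _ = s * (s * t * (s * t) * s) := by group
      _ = _ := by rw [e, ← mul_assoc, h3, one_mul]
  rw [show 2 ^ 2 = 2 * 2 from rfl, pow_mul, sq (s * t), sq]
  nth_rw 2 [← e1]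
  calc _ = s * t * s * (t * t) * s * t * s := by group
    _ = s * t * (s * s) * t * s := by rw [h4]; group
    _ = 1 := by rw [h3, mul_one, mul_assoc s, h4, mul_one, h3]

theorem la_omega {K : Subgroup G} {Y : Subgroup PG} (hY : ∀ q ∈ Y, q * q = 1)
    (h1 : ∀ t ∈ K, t * t = 1 → ∃ q ∈ Y, Im φ t q) (h2 : ∀ t, ∀ q ∈ Y, t * t = 1 → Im φ t q → t ∈ K) {t : G} :
    t ∈ omegaOne 2 K ↔ t * t = 1 ∧ ∃ q ∈ Y, Im φ t q :=
  ⟨mem_omega (P := fun t => t * t = 1 ∧ ∃ q ∈ Y, Im φ t q) ⟨mul_one 1, 1, one_mem _, Im.one⟩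
    (fun t ht e => ⟨e, h1 t ht e⟩) (fun _ _ ⟨e, _, hp, k⟩ ⟨e', _, hq, k'⟩ =>
      ⟨h.la_mul c k k' e e' (hY _ (mul_mem hp hq)), _, mul_mem hp hq, k.mul k'⟩) fun _ e => e.1,
    fun ⟨e, q, hq, k⟩ => omega_of (h2 t q hq e k) e⟩

theorem la_card {K : Subgroup G} {Y : Subgroup PG} (hM : Y ≤ Spor.M22) (hY : ∀ q ∈ Y, q * q = 1)
    (h1 : ∀ t, t ∈ K ↔ t * t = 1 ∧ ∃ q ∈ Y, Im φ t q) : Nat.card K = Nat.card Y * Nat.card (zpowers (ζ a)) := by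
  have hK : K ≤ 𝐜[a] := fun t ht => ((h1 t).1 ht).2.choose_spec.2.1
  rw [c.la_card hK fun t ht => ((h1 t).1 ht).1, Nat.card_congr (subgroupOfEquivOfLe
    (zpowers_le.2 ((h1 _).2 ⟨c.zz, 1, one_mem _, c.im_z⟩))).toEquiv]
  congr 3
  refine le_antisymm ?_ fun q hq => ?_
  · rintro _ ⟨t, rfl⟩
    obtain ⟨-, q, hq, k⟩ := (h1 t).1 t.2
    exact k.2 ▸ hq
  · obtain ⟨t, e, k⟩ := h.la_lift c (hM hq) (hY q hq)
    exact ⟨⟨t, (h1 t).2 ⟨e, q, hq, k⟩⟩, k.2⟩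

end Fr

theorem mem_RR_im (M : MD) (p : Pr a b) {φ : 𝐜[a] →* PG} (c : Cov a (ζ a) φ) (hb : Im φ b M.a1) {t : G} :
    t ∈ RR (AA a b) ↔ t * t = 1 ∧ ∃ q, In4 M.r1 M.r2 q ∧ Im φ t q := by
  simp only [← M.fa_four]
  refine h.la_omega c (fun q hq => M.U_sq q (M.fa_U (M.fa_four.1 hq))) (fun t ht e => ?_) fun t q hq e k => ?_
  · obtain ⟨q, hq⟩ := Im.of_comm (φ := φ) (mem_cent_AA.1 ht).1
    obtain ⟨s, hs, ρ, hρ, rfl⟩ := c.fa_cent (k := 1) M hb p.b_cube hq (mem_cent_AA.1 ht).2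
    have := eq_one_of_sq M.U_sq (M.nU (zpowers_le.2 M.memB.1 hs)) (zp_cube M.fa_pr.a_cube hs) (M.fa_U hρ)
      ((hq.mul hq).unique (e ▸ Im.one))
    exact ⟨ρ, M.fa_four.2 hρ, by rwa [this, one_mul] at hq⟩
  · exact mem_cent_AA.2 ⟨k.comm, c.fa_comm (k := 1) hb k (M.fa_a1R (M.fa_four.1 hq)) p.b_cube
      (M.U_sq q (M.fa_U (M.fa_four.1 hq)))⟩

theorem la_liftR (M : MD) (p : Pr a b) {φ : 𝐜[a] →* PG} (c : Cov a (ζ a) φ) (hb : Im φ b M.a1) {q : PG}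
    (hq : In4 M.r1 M.r2 q) : ∃ t ∈ RR (AA a b), Im φ t q := by
  obtain ⟨t, e, k⟩ := h.la_lift c (M.fa_UM (M.fa_U hq)) (M.U_sq q (M.fa_U hq))
  exact ⟨t, (h.mem_RR_im M p c hb).2 ⟨e, q, hq, k⟩, k⟩

theorem la_centR (M : MD) (p : Pr a b) {φ : 𝐜[a] →* PG} (c : Cov a (ζ a) φ) (hb : Im φ b M.a1) {g : G} {q : PG}
    (k : Im φ g q) (hg : g ∈ 𝐂[RR (AA a b)]) : ∃ u ∈ M.U, ∃ s ∈ zpowers M.a1, q = u * s := by
  obtain ⟨r, hr, k1⟩ := h.la_liftR M p c hb (.inr (.inl rfl))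
  obtain ⟨r', hr', k2⟩ := h.la_liftR M p c hb (.inr (.inr (.inl rfl)))
  obtain ⟨u, hu, i, e⟩ := M.cent_R q (c.mem k) (k1.commute k (mem_cent.1 hg r hr)) (k2.commute k (mem_cent.1 hg r' hr'))
  exact ⟨u, hu, _, npow_mem_zpowers _ i, e⟩

theorem exists_fr' (M : MD) (p : Pr a b) {r : G} (h1 : r ∈ RR (AA a b)) (h2 : r ∉ zpowers (ζ a)) :
    ∃ φ, Cov a (ζ a) φ ∧ Im φ b M.a1 ∧ Im φ r M.r1 := by
  obtain ⟨φ, c, hb⟩ := h.exists_fr M p
  obtain ⟨e, q, hq, k⟩ := (h.mem_RR_im M p c hb).1 h1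
  rcases hq with rfl | rfl | rfl | rfl
  · exact absurd rfl (c.fa_ne2 k e h2)
  · exact ⟨φ, c, hb, k⟩
  · obtain ⟨φ', c', f⟩ := c.change (inv_mem M.fa_a2)
    exact ⟨φ', c', conj_of_comm M.a12.symm.inv_left ▸ f _ _ hb, by simpa [← M.a2_r.1, mul_assoc] using f _ _ k⟩
  · obtain ⟨φ', c', f⟩ := c.change M.fa_a2
    exact ⟨φ', c', conj_of_comm M.a12.symm ▸ f _ _ hb, M.fa_a2r ▸ f _ _ k⟩

theorem mem_UU_im (M : MD) (p : Pr a b) {φ : 𝐜[a] →* PG} (c : Cov a (ζ a) φ) (hb : Im φ b M.a1) {t : G} :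
    t ∈ UU (AA a b) a ↔ t * t = 1 ∧ ∃ q ∈ M.U, Im φ t q := by
  refine h.la_omega c M.U_sq (fun t ht e => ?_) fun t q hq e k => mem_inf.2 ⟨k.1, mem_cent.2 fun ρ hρ => ?_⟩
  · obtain ⟨q, hq⟩ := Im.of_comm (φ := φ) (mem_c.1 ht.1)
    obtain ⟨u, hu, s, hs, rfl⟩ := h.la_centR M p c hb hq ht.2
    have e1 := (hq.mul hq).unique (e ▸ Im.one)
    have := eq_one_of_sq M.U_sq (M.nU (zpowers_le.2 M.memB.1 hs)) (zp_cube M.fa_pr.a_cube hs) hu (by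
      calc s * u * (s * u) = u⁻¹ * (u * s * (u * s)) * u := by group
        _ = 1 := by rw [e1]; group)
    exact ⟨u, hu, by rwa [this, mul_one] at hq⟩
  · obtain ⟨e', q', hq', k'⟩ := (h.mem_RR_im M p c hb).1 hρ
    have e1 := h.la_mul c k' k e' e (M.U_sq _ (mul_mem (M.fa_U hq') hq))
    rw [← inv_eq_of_mul_eq_one_right e1, mul_inv_rev, inv_eq_of_mul_eq_one_right e, inv_eq_of_mul_eq_one_right e']

theorem norm_UU_im (M : MD) (p : Pr a b) {φ : 𝐜[a] →* PG} (c : Cov a (ζ a) φ) (hb : Im φ b M.a1) {n : G} {q : PG}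
    (h1 : Im φ n q) (h2 : q ∈ M.B) : n ∈ 𝐍[UU (AA a b) a] :=
  mem_norm_of_cj_le (cj_le_iff.2 fun t ht => by
    obtain ⟨e, u, hu, k⟩ := (h.mem_UU_im M p c hb).1 ht
    exact (h.mem_UU_im M p c hb).2 ⟨by rw [conj_mul, e]; group, _, conj_mem_of_norm (M.nU h2) hu, h1.conj k⟩)

variable (p : Pr a b)
include p

theorem mem_AA {c : G} {k : ℕ} (hc : c ^ 3 ^ k = 1) (h1 : Commute a c) (h2 : Commute b c) : c ∈ AA a b := by
  obtain ⟨M⟩ := exists_MD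
  obtain ⟨φ, c⟩ := h.cov a p.a3
  exact c.fa_mem3 (k := 1) M p.comm p.b_cube p.nm h1 h2 hc

theorem la_sqR {t : G} (ht : t ∈ RR (AA a b)) : t * t = 1 := by
  obtain ⟨M⟩ := exists_MD
  obtain ⟨φ, c, hb⟩ := h.exists_fr M p
  exact ((h.mem_RR_im M p c hb).1 ht).1

theorem la_sqU {t : G} (ht : t ∈ UU (AA a b) a) : t * t = 1 := by
  obtain ⟨M⟩ := exists_MD
  obtain ⟨φ, c, hb⟩ := h.exists_fr M p
  exact ((h.mem_UU_im M p c hb).1 ht).1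

theorem la_commU (s : G) (hs : s ∈ UU (AA a b) a) (t : G) (ht : t ∈ UU (AA a b) a) : Commute s t :=
  comm_of_sq (fun _ => h.la_sqU p) hs ht

theorem mem_RR {t : G} : t ∈ RR (AA a b) ↔ Commute a t ∧ Commute b t ∧ t * t = 1 :=
  ⟨fun ht => ⟨(mem_cent_AA.1 (omega_le _ ht)).1, (mem_cent_AA.1 (omega_le _ ht)).2, h.la_sqR p ht⟩,
    fun e => omega_of (mem_cent_AA.2 ⟨e.1, e.2.1⟩) e.2.2⟩

theorem card_RR : Nat.card (RR (AA a b)) = 4 * Nat.card (zpowers (ζ a)) := by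
  obtain ⟨M⟩ := exists_MD
  obtain ⟨φ, c, hb⟩ := h.exists_fr M p
  rw [h.la_card c (Y := zpowers M.r1 ⊔ zpowers M.r2) (fun q hq => M.fa_UM (M.fa_U (M.fa_four.1 hq)))
    (fun q hq => M.U_sq q (M.fa_U (M.fa_four.1 hq))) fun t => by simp only [M.fa_four]; exact h.mem_RR_im M p c hb,
    card_four (M.U_sq _ M.fa_r1) (M.U_sq _ M.fa_r2) M.fa_rc M.r_ne.1 M.r_ne.2.1 M.r_ne.2.2]

theorem zeta_mem {c : G} (hc : c ∈ AA a b) (h1 : c ≠ 1) : ζ c ∈ RR (AA a b) := by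
  obtain ⟨φ, k⟩ := h.cov c (p.ord hc h1)
  exact (h.mem_RR p).2 ⟨(k.zc a (p.comm_of_mem hc (left_mem_AA a b))).symm,
    (k.zc b (p.comm_of_mem hc (right_mem_AA a b))).symm, k.zz⟩

theorem la_ker {φ : 𝐜[a] →* PG} (c : Cov a (ζ a) φ) {k : G} (hk : k ∈ zpowers a ⊔ zpowers (ζ a)) :
    ∃ s ∈ AA a b, ∃ ρ ∈ RR (AA a b), k = ρ * s ∧ k = s * ρ := by
  obtain ⟨s, hs, rfl | rfl⟩ := c.mem_ker.1 hk
  · exact ⟨k, mem_sup_left hs, 1, one_mem _, (one_mul _).symm, (mul_one _).symm⟩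
  · exact ⟨s, mem_sup_left hs, _, h.zeta_mem p (left_mem_AA a b) p.a_ne, (zp_comm c.za hs).eq, rfl⟩

theorem cent_A {g : G} (h1 : Commute a g) (h2 : Commute b g) : ∃ s ∈ AA a b, ∃ ρ ∈ RR (AA a b), g = s * ρ := by
  obtain ⟨M⟩ := exists_MD
  obtain ⟨φ, c, hb⟩ := h.exists_fr M p
  obtain ⟨q, hq⟩ := Im.of_comm (φ := φ) h1
  obtain ⟨s, hs, ρ, hρ, rfl⟩ := c.fa_cent (k := 1) M hb p.b_cube hq h2
  obtain ⟨y, hy, k1⟩ := Cov.fa_zp hb hs
  obtain ⟨r, hr, k2⟩ := h.la_liftR M p c hb hρ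
  obtain ⟨k, hk, rfl⟩ := c.eq_mul (k1.mul k2) hq
  obtain ⟨s', hs', ρ', hρ', -, e⟩ := h.la_ker p c hk
  exact ⟨y * s', mul_mem (mem_sup_right hy) hs', ρ' * r, mul_mem hρ' hr, by
    rw [mul_assoc, ← (c.ker_comm hk k2.comm).eq, e]; group⟩

theorem mem_UU {t : G} : t ∈ UU (AA a b) a ↔ Commute a t ∧ t ∈ 𝐂[RR (AA a b)] ∧ t * t = 1 :=
  ⟨fun ht => ⟨mem_c.1 (omega_le _ ht).1, (omega_le _ ht).2, h.la_sqU p ht⟩,
    fun e => omega_of ⟨mem_c.2 e.1, e.2.1⟩ e.2.2⟩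

theorem RR_le_UU : RR (AA a b) ≤ UU (AA a b) a := fun _ ht =>
  (h.mem_UU p).2 ⟨((h.mem_RR p).1 ht).1, mem_cent.2 fun _ hs => comm_of_sq (fun _ => h.la_sqR p) hs ht, h.la_sqR p ht⟩

theorem card_UU : Nat.card (UU (AA a b) a) = 4 * Nat.card (RR (AA a b)) := by
  obtain ⟨M⟩ := exists_MD
  obtain ⟨φ, c, hb⟩ := h.exists_fr M p
  rw [h.la_card c (fun q => M.fa_UM) M.U_sq fun t => h.mem_UU_im M p c hb, h.card_RR p, M.card_U]
  omega

theorem cent_aR {g : G} (h1 : Commute a g) (h2 : g ∈ 𝐂[RR (AA a b)]) :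
    ∃ u ∈ UU (AA a b) a, ∃ s ∈ AA a b, g = u * s := by
  obtain ⟨M⟩ := exists_MD
  obtain ⟨φ, c, hb⟩ := h.exists_fr M p
  obtain ⟨q, hq⟩ := Im.of_comm (φ := φ) h1
  obtain ⟨u, hu, s, hs, rfl⟩ := h.la_centR M p c hb hq h2
  obtain ⟨y, hy, k1⟩ := Cov.fa_zp hb hs
  obtain ⟨t, e, k2⟩ := h.la_lift c (M.fa_UM hu) (M.U_sq u hu)
  obtain ⟨k, hk, rfl⟩ := c.eq_mul (k2.mul k1) hq
  obtain ⟨s', hs', ρ', hρ', e', -⟩ := h.la_ker p c hk
  exact ⟨t * ρ', mul_mem ((h.mem_UU_im M p c hb).2 ⟨e, u, hu, k2⟩) (h.RR_le_UU p hρ'), s' * y,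
    mul_mem hs' (mem_sup_right hy), by rw [mul_assoc, ← (c.ker_comm hk k1.comm).eq, e']; group⟩

theorem la_tr {u : G} (hu : u ∈ UU (AA a b) a) : tr3 b u ∈ RR (AA a b) := by
  have h1 := p.la_UU (left_mem_AA a b) (right_mem_AA a b)
  have h2 := (h.mem_UU p).1 (tr3_mem h1 hu)
  exact (h.mem_RR p).2 ⟨h2.1, comm_tr3 (h.la_commU p) p.b_cube h1 hu, h2.2.2⟩

theorem la_trR {ρ : G} (hρ : ρ ∈ RR (AA a b)) : tr3 b ρ = ρ := by
  rw [tr3_of_comm ((h.mem_RR p).1 hρ).2.1, pow_succ, sq, h.la_sqR p hρ, one_mul]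

theorem mem_VV {t : G} : t ∈ VV (AA a b) a ↔ t ∈ UU (AA a b) a ∧ tr3 b t = 1 := by
  have h1 := p.la_UU (left_mem_AA a b) (right_mem_AA a b)
  refine ⟨fun ht => ?_, fun ⟨ht, e⟩ => ?_⟩
  · let K : Subgroup G :=
      { carrier := {t | t ∈ UU (AA a b) a ∧ tr3 b t = 1}
        mul_mem' := fun hs ht => ⟨mul_mem hs.1 ht.1, by rw [tr3_mul (h.la_commU p) h1 hs.1 ht.1, hs.2, ht.2, mul_one]⟩
        one_mem' := ⟨one_mem _, by simp [tr3]⟩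
        inv_mem' := fun hs => by rwa [inv_eq_of_mul_eq_one_right (h.la_sqU p hs.1)] }
    refine (commutator_le (H₃ := K)).2 (fun u hu s hs => ?_) ht
    have h2 := conj_mem_of_norm (p.la_UU (left_mem_AA a b) hs) hu
    have h3 : tr3 b (s * u * s⁻¹) = tr3 b u := by
      have := tr3_conj s b u
      rwa [conj_of_comm (p.comm_of_mem hs (right_mem_AA a b)),
        conj_of_comm (mem_cent.1 (omega_le _ (h.la_tr p hu)) s hs)] at this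
    rw [commutatorElement_def, inv_eq_of_mul_eq_one_right (h.la_sqU p hu), mul_assoc, mul_assoc, ← mul_assoc s]
    exact ⟨mul_mem hu h2, by rw [tr3_mul (h.la_commU p) h1 hu h2, h3, h.la_sqR p (h.la_tr p hu)]⟩
  · have h2 := conj_mem_of_norm h1 ht
    have h3 := conj_mem_of_norm' h1 ht
    have h4 := commutator_mem_commutator h3 (inv_mem (right_mem_AA a b))
    have h5 : b * b = b⁻¹ := eq_inv_of_mul_eq_one_left (by rw [← p.b_cube, pow_three'])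
    rw [commutatorElement_def, inv_eq_of_mul_eq_one_right (h.la_sqU p h3)] at h4
    rw [tr3, mul_assoc, (h.la_commU p _ h2 _ h3).eq] at e
    rw [← inv_eq_of_mul_eq_one_right (h.la_sqU p ht), inv_eq_of_mul_eq_one_right e]
    have h6 : b⁻¹ * t * b * (b * t * b⁻¹) = b⁻¹ * t * b * b⁻¹ * (b⁻¹ * t * b) * b⁻¹⁻¹ := by
      calc _ = b⁻¹ * t * b * ((b * b)⁻¹ * t * (b * b)) := by rw [h5, inv_inv]
        _ = _ := by group
    exact h6 ▸ h4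

theorem VV_fpf {v : G} (hv : v ∈ VV (AA a b) a) (h1 : Commute b v) : v = 1 := by
  obtain ⟨h2, h3⟩ := (h.mem_VV p).1 hv
  exact one_of_23 (h.la_sqU p h2) (tr3_of_comm h1 ▸ h3)

theorem la_fac {u : G} (hu : u ∈ UU (AA a b) a) : tr3 b u * u ∈ VV (AA a b) a := by
  have h1 := h.la_tr p hu
  exact (h.mem_VV p).2 ⟨mul_mem (h.RR_le_UU p h1) hu, by
    rw [tr3_mul (h.la_commU p) (p.la_UU (left_mem_AA a b) (right_mem_AA a b)) (h.RR_le_UU p h1) hu, h.la_trR p h1,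
      h.la_sqR p h1]⟩

theorem UU_fac {u : G} (hu : u ∈ UU (AA a b) a) : ∃ ρ ∈ RR (AA a b), ∃ v ∈ VV (AA a b) a, u = ρ * v :=
  ⟨_, h.la_tr p hu, _, h.la_fac p hu, by rw [← mul_assoc, h.la_sqR p (h.la_tr p hu), one_mul]⟩

theorem la_VU : VV (AA a b) a ≤ UU (AA a b) a := fun _ hv => ((h.mem_VV p).1 hv).1

theorem card_VV : Nat.card (VV (AA a b) a) = 4 := by
  have h1 : Disjoint (RR (AA a b)) (VV (AA a b) a) := disjoint_iff.2 (eq_bot_iff.2 fun t ht =>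
    h.VV_fpf p ht.2 ((h.mem_RR p).1 ht.1).2.1)
  have h2 : Function.Bijective fun x : RR (AA a b) × VV (AA a b) a =>
      (⟨x.1 * x.2, mul_mem (h.RR_le_UU p x.1.2) (h.la_VU p x.2.2)⟩ : UU (AA a b) a) := by
    refine ⟨fun x y e => mul_injective_of_disjoint h1 (congrArg Subtype.val e), fun ⟨u, hu⟩ => ?_⟩
    obtain ⟨ρ, hρ, v, hv, rfl⟩ := h.UU_fac p hu
    exact ⟨(⟨ρ, hρ⟩, ⟨v, hv⟩), rfl⟩
  have h3 := Nat.card_eq_of_bijective _ h2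
  rw [Nat.card_prod, h.card_UU p, mul_comm] at h3
  exact Nat.eq_of_mul_eq_mul_right Nat.card_pos h3

/-- A nontrivial element and its conjugate generate the four-group. -/
theorem VV_gen {v : G} (hv : v ∈ VV (AA a b) a) (h1 : v ≠ 1) {t : G} :
    t ∈ VV (AA a b) a ↔ In4 v (b * v * b⁻¹) t :=
  mem_iff_in4 (fun _ ht => h.la_sqU p (h.la_VU p ht)) (h.card_VV p) hv
    (conj_mem_of_norm (norm_VV (le_normalizer (right_mem_AA a b)) p.comm) hv) h1 (by simpa using h1)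
    fun e => h1 (h.VV_fpf p hv (comm_of_conj e.symm))

theorem L3 {g : G} (h1 : Commute a g) (h2 : g ∈ 𝐂[RR (AA a b)])
    (h3 : ∀ u ∈ UU (AA a b) a, g * u * g⁻¹ * u⁻¹ ∈ RR (AA a b)) : g ∈ UU (AA a b) a ⊔ zpowers a := by
  obtain ⟨u, hu, s, hs, rfl⟩ := h.cent_aR p h1 h2
  refine mul_mem (mem_sup_left hu) (mem_sup_right ?_)
  by_contra hn
  obtain ⟨p', e⟩ := p.of_mem hs hn
  have h4 : VV (AA a b) a = ⊥ := eq_bot_iff.2 fun v hv => by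
    have h5 := conj_mem_of_norm (norm_VV (le_normalizer hs) p'.comm) hv
    have h6 := h3 v (h.la_VU p hv)
    rw [show u * s * v * (u * s)⁻¹ = u * (s * v * s⁻¹) * u⁻¹ by group,
      conj_of_comm (h.la_commU p _ hu _ (h.la_VU p h5))] at h6
    exact h.VV_fpf p' (e ▸ hv) (comm_of_conj (mul_inv_eq_one.1
      (h.VV_fpf p (mul_mem h5 (inv_mem hv)) ((h.mem_RR p).1 h6).2.1)))
  simpa [h4] using h.card_VV p

theorem L4 {g : G} (h1 : g * a * g⁻¹ = a⁻¹) (h2 : g ∈ 𝐂[RR (AA a b)])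
    (h3 : ∀ u ∈ UU (AA a b) a, g * u * g⁻¹ * u⁻¹ ∈ RR (AA a b)) : False := by
  have bR : AA a b ≤ 𝐂[RR (AA a b)] := cent_comm (omega_le _)
  have bU := p.la_UU (left_mem_AA a b) (right_mem_AA a b)
  have h4 : Commute a (g * b * g⁻¹) := by simpa [h1] using comm_conj p.comm g
  have h5 := h.L3 p (h4.mul_right p.comm.inv_right) (mul_mem (mul_mem (mul_mem h2 (bR (right_mem_AA a b))) (inv_mem h2))
    (inv_mem (bR (right_mem_AA a b)))) fun u hu => by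
      have gU : g ∈ 𝐍[UU (AA a b) a] := mem_norm_of_cj_le (cj_le_iff.2 fun u hu => by
        simpa using mul_mem (h.RR_le_UU p (h3 u hu)) hu)
      have k1 := conj_mem_of_norm' bU hu
      have k2 := conj_mem_of_norm' gU k1
      have k3 := h3 _ k2
      have k4 := h3 _ (conj_mem_of_norm bU k2)
      have k5 := conj_mem_of_norm (cent_le_norm _ (bR (right_mem_AA a b))) (inv_mem k3)
      have k6 := h.la_commU p _ (h.RR_le_UU p k4) _ (conj_mem_of_norm bU k2)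
      convert mul_mem k4 k5 using 1
      group
  obtain ⟨u, hu, s, hs, e⟩ := (mem_sup_norm (zpowers_le.2 (p.la_UU (left_mem_AA a b) (left_mem_AA a b)))).1 h5
  obtain ⟨p1, e1⟩ := p.of_mem (mul_mem (mem_sup_left hs) (right_mem_AA a b)) fun k => p.nm ((mul_mem_cancel_left hs).1 k)
  have s3 := zp_cube p.a_cube hs
  have gs : g * s * g⁻¹ = s⁻¹ := by
    obtain ⟨k, rfl⟩ := hs
    dsimp only
    rw [← conj_zpow, h1, inv_zpow]
  have e2 : g * b * g⁻¹ = u * (s * b) := by rw [← mul_assoc, e]; group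
  generalize hd : s * b = d at p1 e1 e2
  have d2 : d * d = d⁻¹ := eq_inv_of_mul_eq_one_left (by rw [← p1.b_cube, pow_three'])
  have h6 : tr3 d u = 1 := by
    calc tr3 d u = u * (d * u * d⁻¹) * (d * d * u * (d * d)⁻¹) * d ^ 3 := by rw [d2, p1.b_cube, tr3]; group
      _ = (u * d) ^ 3 := by rw [pow_three', pow_three']; group
      _ = 1 := by rw [← e2, conj_pow, p.b_cube]; group
  have dU : d ∈ 𝐍[UU (AA a b) a] := p.la_UU (left_mem_AA a b) (e1 ▸ right_mem_AA a d)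
  have hw := conj_mem_of_norm dU hu
  have h7 : d * u * d⁻¹ * (u * d) * (d * u * d⁻¹)⁻¹ = d := by
    calc _ = u * (d * u * d⁻¹) * d * (d * u * d⁻¹)⁻¹ := by rw [(h.la_commU p _ hu _ hw).eq]; group
      _ = tr3 d u * (d⁻¹ * u⁻¹ * d ^ 3 * u⁻¹ * d⁻¹) := by rw [tr3, pow_three']; group
      _ = d⁻¹ * (u * u)⁻¹ * d⁻¹ := by rw [h6, p1.b_cube]; group
      _ = (d * d)⁻¹ := by rw [h.la_sqU p hu]; group
      _ = d := by rw [d2, inv_inv]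
  generalize d * u * d⁻¹ = w at hw h7
  have h8 := (h.mem_UU p).1 hw
  obtain ⟨p2, e3⟩ := p.of_mem (mul_mem (mem_sup_left (inv_mem hs)) (right_mem_AA a b)) fun k =>
    p.nm ((mul_mem_cancel_left (inv_mem hs)).1 k)
  have e4 := (AA_comm _ _).trans e3
  have h9 : w * g * (s⁻¹ * b) * (w * g)⁻¹ = s⁻¹ * b := by
    calc _ = w * (g * s * g⁻¹)⁻¹ * w⁻¹ * (w * (g * b * g⁻¹) * w⁻¹) := by group
      _ = s * (s * b) := by rw [gs, e2, h7, inv_inv, conj_of_comm (zp_comm h8.1 hs).symm, hd]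
      _ = s⁻¹ * s ^ 3 * b := by rw [pow_three']; group
      _ = _ := by rw [s3, mul_one]
  obtain ⟨u', hu', s', hs', e5⟩ := h.cent_aR p2.symm (comm_of_conj h9).symm (e4 ▸ mul_mem h8.2.1 h2)
  have k1 : u' * a * u'⁻¹ = a⁻¹ := by
    calc _ = u' * (s' * a * s'⁻¹) * u'⁻¹ := by rw [conj_of_comm (p2.symm.comm_of_mem hs' (right_mem_AA _ _))]
      _ = u' * s' * a * (u' * s')⁻¹ := by group
      _ = w * (g * a * g⁻¹) * w⁻¹ := by rw [← e5]; group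
      _ = _ := by rw [h1, conj_of_comm h8.1.inv_left.symm]
  have k2 := h.la_sqU p2.symm (mul_mem hu' (conj_mem_of_norm (p2.symm.la_UU (left_mem_AA _ _) (right_mem_AA _ _))
    (inv_mem hu')))
  rw [show u' * (a * u'⁻¹ * a⁻¹) = u' * a * u'⁻¹ * a⁻¹ by group, k1] at k2
  refine p.a_ne (inv_eq_one.1 ?_)
  calc a⁻¹ = a⁻¹ * (a ^ 3)⁻¹ := by rw [p.a_cube]; group
    _ = 1 := by rw [← k2, pow_three']; group

theorem exists_s : ∃ s : G, orderOf s = 3 ∧ Commute a s ∧ s * b * s⁻¹ = a * b ∧ s ∈ 𝐂[VV (AA a b) a] := by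
  obtain ⟨M⟩ := exists_MD
  obtain ⟨φ, c, hb⟩ := h.exists_fr M p
  obtain ⟨s, s9, hs, e⟩ := c.fa_s (k := 1) M hb p.b_cube
  have h1 : Commute a s := hs.elim Im.comm Im.comm
  refine ⟨s, orderOf_eq_prime (h.cube s9) fun k => p.a_ne (by simpa [k] using e.symm), h1, e, ?_⟩
  obtain ⟨t, e1, k1⟩ := h.la_lift c (M.fa_UM M.fa_v1) (M.U_sq _ M.fa_v1)
  have hv := h.la_fac p ((h.mem_UU_im M p c hb).2 ⟨e1, _, M.fa_v1, k1⟩)
  have k2 := (hb.tr k1).mul k1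
  rw [M.a1_v, one_mul] at k2
  generalize tr3 b t * t = v at hv k2
  have h2 : Commute s v := by
    have h3 := mul_mem (conj_mem_of_norm (norm_VV (p.la_norm h1 e) h1) hv) (inv_mem hv)
    have h4 : Im φ (s * v * s⁻¹ * v⁻¹) 1 := by
      rcases hs with hs | hs
      · simpa [conj_of_comm M.a2_v] using (hs.conj k2).mul k2.inv
      · simpa only [conj_of_comm M.a2_v.inv_left, mul_inv_cancel] using (hs.conj k2).mul k2.inv
    exact comm_of_conj (mul_inv_eq_one.1 (h.VV_fpf p h3 (c.ker_comm (c.im_one.1 h4) p.comm).symm))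
  have h3 : Commute s (b * v * b⁻¹) := comm_of_conj (by
    calc _ = s * b * s⁻¹ * (s * v * s⁻¹) * (s * b * s⁻¹)⁻¹ := by group
      _ = a * (b * v * b⁻¹) * a⁻¹ := by rw [e, conj_of_comm h2]; group
      _ = _ := conj_of_comm ((p.comm.mul_right k2.comm).mul_right p.comm.inv_right))
  exact mem_cent.2 fun w hw => (mem_c.1 (in4_mem (mem_c.2 h2) (mem_c.2 h3)
    ((h.VV_gen p hv fun k => M.v_ne (k2.unique (k ▸ Im.one))).1 hw))).symm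

theorem fix_R {g ρ : G} (h1 : Commute a g) (h2 : g * b * g⁻¹ = a * b ∨ g * b * g⁻¹ = a⁻¹ * b) (h3 : ρ ∈ RR (AA a b))
    (h4 : Commute g ρ) : ρ ∈ zpowers (ζ a) := by
  obtain ⟨M⟩ := exists_MD
  obtain ⟨φ, c, hb⟩ := h.exists_fr M p
  obtain ⟨q, hq⟩ := Im.of_comm (φ := φ) h1
  obtain ⟨e, r, hr, k⟩ := (h.mem_RR_im M p c hb).1 h3
  have h5 : Commute M.a1 q := (comm_of_conj ((hq.conj hb).unique (by
    rcases h2 with e | e <;> rw [e]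
    · simpa using c.im_a.mul hb
    · simpa using c.im_a.inv.mul hb))).symm
  obtain ⟨s, hs, t, ht, ρ', hρ', rfl⟩ := M.fa_cent (c.mem hq) h5
  have h6 : Commute t r := by
    have := ((zp_comm (M.fa_a1R hr) hs).inv_left.mul_left (hq.commute k h4)).mul_left
      (comm_of_sq M.U_sq (M.fa_U hρ') (M.fa_U hr)).inv_left
    simpa [mul_assoc] using this
  by_contra hn
  rcases ht with rfl | rfl | rfl
  · obtain ⟨y, hy, k1⟩ := Cov.fa_zp hb hs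
    obtain ⟨r', hr', k2⟩ := h.la_liftR M p c hb hρ'
    obtain ⟨n, hn, rfl⟩ := c.eq_mul (k1.mul k2) (by simpa using hq)
    rw [conj_of_comm (((zp_comm rfl hy).mul_left ((h.mem_RR p).1 hr').2.1.symm).mul_left (c.ker_comm hn p.comm))] at h2
    simp [p.a_ne] at h2
  · exact c.fa_ne2 k e hn (M.fa_fix hr h6)
  · exact c.fa_ne2 k e hn (M.fa_fix hr (Commute.inv_left_iff.1 h6))

theorem trans_R (h3 : ζ a = 1) {s ρ ρ' : G} (h1 : Commute a s) (h2 : s * b * s⁻¹ = a * b) (h4 : ρ ∈ RR (AA a b))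
    (h5 : ρ ≠ 1) (h6 : ρ' ∈ RR (AA a b)) (h7 : ρ' ≠ 1) : ∃ k : ℕ, s ^ k * ρ * (s ^ k)⁻¹ = ρ' := by
  have hn := norm_RR (p.la_norm h1 h2)
  have f : ∀ g ρ, Commute a g → (g * b * g⁻¹ = a * b ∨ g * b * g⁻¹ = a⁻¹ * b) → ρ ∈ RR (AA a b) → g * ρ * g⁻¹ = ρ →
      ρ = 1 := fun g ρ e1 e2 e3 e4 => by simpa [h3] using h.fix_R p e1 e2 e3 (comm_of_conj e4)
  have h8 := conj_mem_of_norm hn h4
  have m : ∀ {t}, t ∈ RR (AA a b) ↔ In4 ρ (s * ρ * s⁻¹) t := mem_iff_in4 (fun _ => h.la_sqR p)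
    (by rw [h.card_RR p, h3]; simp) h4 h8 h5 (by simpa using h5) fun e => h5 (f s ρ h1 (.inl h2) h4 e.symm)
  have e2 : s ^ 2 * ρ * (s ^ 2)⁻¹ = s * (s * ρ * s⁻¹) * s⁻¹ := by rw [sq]; group
  rcases m.1 h6 with rfl | rfl | rfl | rfl
  · exact absurd rfl h7
  · exact ⟨0, by simp⟩
  · exact ⟨1, by simp⟩
  refine ⟨2, ?_⟩
  rcases m.1 (conj_mem_of_norm hn h8) with e | e | e | e
  · exact absurd (by simpa using e) h5
  · refine absurd (f (s ^ 2) ρ (h1.pow_right 2) (.inr ?_) h4 (e2.trans e)) h5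
    calc _ = s * (s * b * s⁻¹) * s⁻¹ := by rw [sq]; group
      _ = a⁻¹ * a ^ 3 * b := by rw [h2, ← conj_mul, h2, conj_of_comm h1.symm, pow_three']; group
      _ = _ := by rw [p.a_cube, mul_one]
  · exact absurd (by simpa using f s _ h1 (.inl h2) h8 e) h5
  · exact e2.trans e

theorem exists_tau (h3 : ζ a = 1) {r : G} (h1 : r ∈ RR (AA a b)) (h2 : r ≠ 1) : ∃ τ : G, Commute a τ ∧ Commute r τ ∧
    (∃ s ∈ zpowers a, τ * b * τ⁻¹ = s * b⁻¹) ∧ τ ∉ 𝐂[RR (AA a b)] := by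
  obtain ⟨M⟩ := exists_MD
  obtain ⟨φ, c, hb, hr⟩ := h.exists_fr' M p h1 (by simpa [h3] using h2)
  obtain ⟨τ, k⟩ := c.lift (M.B_le M.memB.2.2.2.1)
  refine ⟨τ, k.comm, (comm_of_conj ?_).symm, c.fa_eq3 (k := 1) (l := 1) hb.inv (M.m11.1 ▸ k.conj hb) p.inv_right.b_cube
    (p.conj τ).b_cube, fun e => ?_⟩
  · simpa [h3] using c.fa_eq2 hr (conj_of_comm M.m11.2.1 ▸ k.conj hr) (h.la_sqR p h1)
      (by rw [conj_mul, h.la_sqR p h1]; group)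
  · obtain ⟨r', hr', k2⟩ := h.la_liftR M p c hb (.inr (.inr (.inl rfl)))
    exact M.r_ne.1 (mul_eq_right.1 (M.m11.2.2.symm.trans (conj_of_comm (k2.commute k (mem_cent.1 e r' hr')).symm)))

theorem norm_UU_of {r n : G} (h1 : r ∈ RR (AA a b)) (h2 : r ∉ zpowers (ζ a)) (h3 : Commute a n) (h4 : Commute r n) :
    n ∈ 𝐍[UU (AA a b) a] := by
  obtain ⟨M⟩ := exists_MD
  obtain ⟨φ, c, hb, hr⟩ := h.exists_fr' M p h1 h2
  obtain ⟨q, hq⟩ := Im.of_comm (φ := φ) h3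
  exact h.norm_UU_im M p c hb hq (M.cent_r_B q (c.mem hq) (hr.commute hq h4))

end Hyp

end Cfsg.Agent.J3L
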