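import Mathlib
import Cfsg.Agent.J3L.LocA

/-!
The elementary abelian group `VA A` in the first case.
-/

set_option autoImplicit false
set_option linter.unusedSectionVars false

namespace Cfsg.Agent.J3L

open Cfsg Cfsg.Agent.GT Cfsg.Agent.Spor Cfsg.Agent.Spor.MB Cfsg.Agent.J4T Cfsg.Agent.Loc.Mss Subgroup

variable {G : Type*} [Group G] [Finite G] {ζ : G → G} {a b : G}

namespace Pr

variable (p : Pr a b)
include p

theorem vb_eq {c d : G} (hc : c ∈ AA a b) (hd : d ∈ AA a b) (q : Pr c d) : AA c d = AA a b :=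
  eq_of_le_of_card_ge (AA_le hc hd) (by rw [p.card, q.card])

theorem vb_m2 : a * b ∈ AA a b := mul_mem (left_mem_AA a b) (right_mem_AA a b)

theorem vb_m3 : a⁻¹ * b ∈ AA a b := mul_mem (inv_mem (left_mem_AA a b)) (right_mem_AA a b)

theorem vb_12 : Pr b (a * b) := p.comm.eq ▸ p.symm.mul_left.1

theorem vb_13 : Pr b (a⁻¹ * b) := p.inv_left.vb_12

theorem vb_23 : Pr (a * b) (a⁻¹ * b) := by
  have e : (a * b * b)⁻¹ = a⁻¹ * b := by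
    rw [mul_assoc, p.comm.mul_right p.comm |>.eq, mul_inv_rev,
      inv_eq_of_mul_eq_one_right (show b * b * b = 1 by rw [← pow_three', p.b_cube])]
  exact e ▸ p.vb_12.symm.mul_left.1.inv_right

theorem vb_norm {c : G} (hc : c ∈ AA a b) : c ∈ 𝐍[AA a b] := le_normalizer hc

end Pr

theorem vb_tr_self {c t : G} (h1 : Commute c t) (h2 : t * t = 1) : tr3 c t = t := by
  rw [tr3_of_comm h1, pow_three', h2, one_mul]

theorem vb_VV_le {A : Subgroup G} {c : G} (hc : A ≤ 𝐍[UU A c]) : VV A c ≤ UU A c := comm_le_left hc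

namespace Hyp

section

variable (h : Hyp ζ) (p : Pr a b) {c : G} (hc : c ∈ AA a b) (h1 : c ≠ 1)
include h p hc h1

theorem vb_mem_UU {t : G} : t ∈ UU (AA a b) c ↔ Commute c t ∧ t ∈ 𝐂[RR (AA a b)] ∧ t * t = 1 := by
  obtain ⟨d, q, e⟩ := p.exists_partner hc h1
  rw [← e]; exact h.mem_UU q

theorem vb_RU : RR (AA a b) ≤ UU (AA a b) c := by
  obtain ⟨d, q, e⟩ := p.exists_partner hc h1
  rw [← e]; exact h.RR_le_UU q

theorem vb_fac {u : G} (hu : u ∈ UU (AA a b) c) : ∃ ρ ∈ RR (AA a b), ∃ v ∈ VV (AA a b) c, u = ρ * v := by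
  obtain ⟨d, q, e⟩ := p.exists_partner hc h1
  rw [← e] at hu ⊢; exact h.UU_fac q hu

theorem vb_VU : VV (AA a b) c ≤ UU (AA a b) c :=
  vb_VV_le fun _ hs => norm_UU (p.vb_norm hs) (p.comm_of_mem hc hs)

theorem vb_card : Nat.card (VV (AA a b) c) = 4 := by
  obtain ⟨d, q, e⟩ := p.exists_partner hc h1
  rw [← e]; exact h.card_VV q

theorem vb_VA : VV (AA a b) c ≤ VA (AA a b) := (h.vb_VU p hc h1).trans (UU_le_VA hc h1)

theorem vb_tr_U {u : G} (hu : u ∈ UU (AA a b) c) : tr3 c u = u :=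
  vb_tr_self ((h.vb_mem_UU p hc h1).1 hu).1 ((h.vb_mem_UU p hc h1).1 hu).2.2

theorem vb_tr_R {u : G} (hu : u ∈ RR (AA a b)) : tr3 c u = u := h.vb_tr_U p hc h1 (h.vb_RU p hc h1 hu)

theorem vb_tr_V {u : G} (hu : u ∈ VV (AA a b) c) : tr3 c u = u := h.vb_tr_U p hc h1 (h.vb_VU p hc h1 hu)

end

theorem VV_le (h : Hyp ζ) (p : Pr a b) {D : Subgroup G} (hD : AA a b ≤ 𝐍[D]) {c v : G} (hc : c ∈ AA a b) (h1 : c ≠ 1)
    (hv : v ∈ VV (AA a b) c) (h2 : v ≠ 1) (h3 : v ∈ D) : VV (AA a b) c ≤ D := by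
  obtain ⟨d, q, e⟩ := p.exists_partner hc h1
  rw [← e] at hv hD ⊢
  intro t ht
  have h4 := conj_mem_of_norm (hD (right_mem_AA c d)) h3
  rcases (h.VV_gen q hv h2).1 ht with rfl | rfl | rfl | rfl
  exacts [one_mem _, h3, h4, mul_mem h3 h4]

theorem vb_tr_one (h : Hyp ζ) (p : Pr a b) {c d v : G} (hc : c ∈ AA a b) (hd : d ∈ AA a b) (q : Pr c d)
    (hv : v ∈ VV (AA a b) c) : tr3 d v = 1 := by
  rw [← p.vb_eq hc hd q] at hv
  exact ((h.mem_VV q).1 hv).2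

variable (h : Hyp ζ) (hI : CaseI G) (p : Pr a b)
include h hI p

theorem vb_cent : VA (AA a b) ≤ 𝐂[VA (AA a b)] :=
  VA_le fun c hc h1 => cent_comm (VA_le fun d hd h2 => by
    obtain ⟨d', q, e⟩ := p.exists_partner hd h2
    rw [← e] at hc ⊢
    exact (hI _ _ q).1 c hc h1)

theorem VA_comm {v w : G} (hv : v ∈ VA (AA a b)) (hw : w ∈ VA (AA a b)) : Commute v w :=
  mem_cent.1 (h.vb_cent hI p hw) v hv

theorem VA_sq {v : G} (hv : v ∈ VA (AA a b)) : v * v = 1 := by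
  refine (iSup_induction (C := fun v => v ∈ VA (AA a b) ∧ v * v = 1) _ hv (fun c x hx =>
    ⟨UU_le_VA c.2.1 c.2.2 hx, ((h.vb_mem_UU p c.2.1 c.2.2).1 hx).2.2⟩) ⟨one_mem _, mul_one 1⟩
    fun x y hx hy => ⟨mul_mem hx.1 hy.1, ?_⟩).2
  rw [← sq, (h.VA_comm hI p hx.1 hy.1).mul_pow, sq, sq, hx.2, hy.2, mul_one]

theorem vb_nV {X Y : Subgroup G} (hX : X ≤ VA (AA a b)) (hY : Y ≤ VA (AA a b)) : Y ≤ 𝐍[X] :=
  norm_of_cent ((hY.trans (h.vb_cent hI p)).trans (cent_anti hX))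

theorem vb_tr_mul {c s t : G} (hc : c ∈ AA a b) (hs : s ∈ VA (AA a b)) (ht : t ∈ VA (AA a b)) :
    tr3 c (s * t) = tr3 c s * tr3 c t :=
  tr3_mul (fun _ h1 _ h2 => h.VA_comm hI p h1 h2) (norm_VA (p.vb_norm hc)) hs ht

theorem vb_RA : RR (AA a b) ≤ VA (AA a b) := (h.RR_le_UU p).trans (UU_le_VA (left_mem_AA a b) p.a_ne)

theorem vb_V0 : VV (AA a b) a ≤ VA (AA a b) := h.vb_VA p (left_mem_AA a b) p.a_ne

theorem vb_V1 : VV (AA a b) b ≤ VA (AA a b) := h.vb_VA p (right_mem_AA a b) p.b_ne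

theorem vb_V2 : VV (AA a b) (a * b) ≤ VA (AA a b) := h.vb_VA p p.vb_m2 p.vb_23.a_ne

theorem vb_V3 : VV (AA a b) (a⁻¹ * b) ≤ VA (AA a b) := h.vb_VA p p.vb_m3 p.vb_23.b_ne

theorem vb_VA_eq : VA (AA a b) = RR (AA a b) ⊔ VV (AA a b) a ⊔ VV (AA a b) b ⊔ VV (AA a b) (a * b) ⊔
    VV (AA a b) (a⁻¹ * b) := by
  refine le_antisymm (VA_le fun c hc h1 u hu => ?_) (sup_le (sup_le (sup_le (sup_le (h.vb_RA hI p)
    (h.vb_V0 hI p)) (h.vb_V1 hI p)) (h.vb_V2 hI p)) (h.vb_V3 hI p))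
  obtain ⟨ρ, hρ, v, hv, rfl⟩ := h.vb_fac p hc h1 hu
  refine mul_mem (mem_sup_left (mem_sup_left (mem_sup_left (mem_sup_left hρ)))) ?_
  rcases p.cases hc h1 with (e | e) | (e | e) | (e | e) | (e | e) <;> rw [e] at hv <;>
    try rw [VV_inv] at hv
  exacts [mem_sup_left (mem_sup_left (mem_sup_left (mem_sup_right hv))),
    mem_sup_left (mem_sup_left (mem_sup_left (mem_sup_right hv))),
    mem_sup_left (mem_sup_left (mem_sup_right hv)), mem_sup_left (mem_sup_left (mem_sup_right hv)),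
    mem_sup_left (mem_sup_right hv), mem_sup_left (mem_sup_right hv), mem_sup_right hv, mem_sup_right hv]

theorem mem_VA {v : G} : v ∈ VA (AA a b) ↔ ∃ ρ ∈ RR (AA a b), ∃ v0 ∈ VV (AA a b) a, ∃ v1 ∈ VV (AA a b) b,
    ∃ v2 ∈ VV (AA a b) (a * b), ∃ v3 ∈ VV (AA a b) (a⁻¹ * b), v = ρ * v0 * v1 * v2 * v3 := by
  have r := h.vb_RA hI p
  have v0 := h.vb_V0 hI p
  have v1 := h.vb_V1 hI p
  have v2 := h.vb_V2 hI p
  have v3 := h.vb_V3 hI p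
  refine ⟨fun hv => ?_, ?_⟩
  · rw [h.vb_VA_eq hI p] at hv
    obtain ⟨_, k3, x3, h3, rfl⟩ :=
      (mem_sup_norm (h.vb_nV hI p (sup_le (sup_le (sup_le r v0) v1) v2) v3)).1 hv
    obtain ⟨_, k2, x2, h2, rfl⟩ := (mem_sup_norm (h.vb_nV hI p (sup_le (sup_le r v0) v1) v2)).1 k3
    obtain ⟨_, k1, x1, h1, rfl⟩ := (mem_sup_norm (h.vb_nV hI p (sup_le r v0) v1)).1 k2
    obtain ⟨ρ, k0, x0, h0, rfl⟩ := (mem_sup_norm (h.vb_nV hI p r v0)).1 k1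
    exact ⟨ρ, k0, x0, h0, x1, h1, x2, h2, x3, h3, rfl⟩
  · rintro ⟨ρ, hv, x0, h0, x1, h1, x2, h2, x3, h3, rfl⟩
    exact mul_mem (mul_mem (mul_mem (mul_mem (r hv) (v0 h0)) (v1 h1)) (v2 h2)) (v3 h3)

/-- An invariant subgroup contains the components of its elements. -/
theorem comp {D : Subgroup G} (hD : AA a b ≤ 𝐍[D]) {ρ v0 v1 v2 v3 : G} (hρ : ρ ∈ RR (AA a b))
    (h0 : v0 ∈ VV (AA a b) a) (h1 : v1 ∈ VV (AA a b) b) (h2 : v2 ∈ VV (AA a b) (a * b))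
    (h3 : v3 ∈ VV (AA a b) (a⁻¹ * b)) (hv : ρ * v0 * v1 * v2 * v3 ∈ D) :
    ρ ∈ D ∧ v0 ∈ D ∧ v1 ∈ D ∧ v2 ∈ D ∧ v3 ∈ D := by
  have r := h.vb_RA hI p hρ
  have w0 := h.vb_V0 hI p h0
  have w1 := h.vb_V1 hI p h1
  have w2 := h.vb_V2 hI p h2
  have w3 := h.vb_V3 hI p h3
  have m0 := left_mem_AA a b
  have m1 := right_mem_AA a b
  have m2 := p.vb_m2
  have m3 := p.vb_m3
  have key : ∀ c ∈ AA a b, c ≠ 1 → ρ * tr3 c v0 * tr3 c v1 * tr3 c v2 * tr3 c v3 ∈ D := fun c hc hc1 => by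
    have := tr3_mem (hD hc) hv
    rwa [h.vb_tr_mul hI p hc (mul_mem (mul_mem (mul_mem r w0) w1) w2) w3,
      h.vb_tr_mul hI p hc (mul_mem (mul_mem r w0) w1) w2, h.vb_tr_mul hI p hc (mul_mem r w0) w1,
      h.vb_tr_mul hI p hc r w0, h.vb_tr_R p hc hc1 hρ] at this
  have k0 := key a m0 p.a_ne
  have k1 := key b m1 p.b_ne
  have k2 := key _ m2 p.vb_23.a_ne
  have k3 := key _ m3 p.vb_23.b_ne
  rw [h.vb_tr_V p m0 p.a_ne h0, h.vb_tr_one p m1 m0 p.symm h1, h.vb_tr_one p m2 m0 p.mul_left.1.symm h2,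
    h.vb_tr_one p m3 m0 p.inv_mul_left.1.symm h3, mul_one, mul_one, mul_one] at k0
  rw [h.vb_tr_V p m1 p.b_ne h1, h.vb_tr_one p m0 m1 p h0, h.vb_tr_one p m2 m1 p.vb_12.symm h2,
    h.vb_tr_one p m3 m1 p.vb_13.symm h3, mul_one, mul_one, mul_one] at k1
  rw [h.vb_tr_V p m2 p.vb_23.a_ne h2, h.vb_tr_one p m0 m2 p.mul_left.1 h0, h.vb_tr_one p m1 m2 p.vb_12 h1,
    h.vb_tr_one p m3 m2 p.vb_23.symm h3, mul_one, mul_one, mul_one] at k2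
  rw [h.vb_tr_V p m3 p.vb_23.b_ne h3, h.vb_tr_one p m0 m3 p.inv_mul_left.1 h0,
    h.vb_tr_one p m1 m3 p.vb_13 h1, h.vb_tr_one p m2 m3 p.vb_23 h2, mul_one, mul_one, mul_one] at k3
  have k := tr3_mem (hD m1) k0
  rw [h.vb_tr_mul hI p m1 r w0, h.vb_tr_R p m1 p.b_ne hρ, h.vb_tr_one p m0 m1 p h0, mul_one] at k
  exact ⟨k, (mul_mem_cancel_left k).1 k0, (mul_mem_cancel_left k).1 k1, (mul_mem_cancel_left k).1 k2,
    (mul_mem_cancel_left k).1 k3⟩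

theorem WW_le : WW (AA a b) a ≤ VA (AA a b) :=
  comm_le_left (zpowers_le.2 (norm_VA (p.vb_norm (left_mem_AA a b))))

theorem vb_mem_W {w : G} (hw : w ∈ VA (AA a b)) (h1 : tr3 a w = 1) : w ∈ WW (AA a b) a := by
  have h2 := conj_mem_of_norm' (norm_VA (p.vb_norm (left_mem_AA a b))) hw
  have h3 := commutator_mem_commutator h2 (mul_mem (mem_zpowers a) (mem_zpowers a))
  have e : w = (a * w * a⁻¹ * (a⁻¹ * w * a))⁻¹ := eq_inv_of_mul_eq_one_left (by rw [← h1, tr3]; group)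
  rw [e, mul_inv_rev, inv_eq_of_mul_eq_one_right (h.VA_sq hI p h2)]
  rwa [commutatorElement_def, show a⁻¹ * w * a * (a * a) * (a⁻¹ * w * a)⁻¹ * (a * a)⁻¹ =
    a⁻¹ * w * a * (a * w * a⁻¹)⁻¹ by group] at h3

theorem vb_WW_eq : WW (AA a b) a = VV (AA a b) b ⊔ VV (AA a b) (a * b) ⊔ VV (AA a b) (a⁻¹ * b) := by
  have v1 := h.vb_V1 hI p
  have v2 := h.vb_V2 hI p
  have v3 := h.vb_V3 hI p
  have m0 := left_mem_AA a b
  refine le_antisymm ?_ (sup_le (sup_le (fun v hv => h.vb_mem_W hI p (v1 hv)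
    (h.vb_tr_one p (right_mem_AA a b) m0 p.symm hv)) fun v hv => h.vb_mem_W hI p (v2 hv)
    (h.vb_tr_one p p.vb_m2 m0 p.mul_left.1.symm hv)) fun v hv => h.vb_mem_W hI p (v3 hv)
    (h.vb_tr_one p p.vb_m3 m0 p.inv_mul_left.1.symm hv))
  have e : VA (AA a b) ≤ VV (AA a b) b ⊔ VV (AA a b) (a * b) ⊔ VV (AA a b) (a⁻¹ * b) ⊔ UU (AA a b) a := by
    rw [h.vb_VA_eq hI p]
    exact sup_le (sup_le (sup_le (le_sup_of_le_right (sup_le (h.RR_le_UU p) (h.vb_VU p m0 p.a_ne)))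
      (le_sup_of_le_left (le_sup_of_le_left le_sup_left))) (le_sup_of_le_left (le_sup_of_le_left le_sup_right)))
      (le_sup_of_le_left le_sup_right)
  refine (commutator_mono e le_rfl).trans ?_
  rw [sup_cent_comm (h.vb_nV hI p (sup_le (sup_le v1 v2) v3) (UU_le_VA m0 p.a_ne))
    (cent_comm (zpowers_le.2 (mem_cent.2 fun u hu => ((h.mem_UU p).1 hu).1.symm)))]
  exact comm_le_left (zpowers_le.2 (zpowers_le.1 (norm_sup (norm_sup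
    (zpowers_le.2 (norm_VV (p.vb_norm m0) p.comm.symm))
    (zpowers_le.2 (norm_VV (p.vb_norm m0) p.mul_left.1.comm.symm)))
    (zpowers_le.2 (norm_VV (p.vb_norm m0) p.inv_mul_left.1.comm.symm)))))

theorem mem_WW {w : G} : w ∈ WW (AA a b) a ↔ ∃ v1 ∈ VV (AA a b) b, ∃ v2 ∈ VV (AA a b) (a * b),
    ∃ v3 ∈ VV (AA a b) (a⁻¹ * b), w = v1 * v2 * v3 := by
  have v1 := h.vb_V1 hI p
  have v2 := h.vb_V2 hI p
  have v3 := h.vb_V3 hI p
  rw [h.vb_WW_eq hI p, mem_sup_norm (h.vb_nV hI p (sup_le v1 v2) v3)]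
  refine ⟨?_, ?_⟩
  · rintro ⟨_, hv, x3, h3, rfl⟩
    obtain ⟨x1, h1, x2, h2, rfl⟩ := (mem_sup_norm (h.vb_nV hI p v1 v2)).1 hv
    exact ⟨x1, h1, x2, h2, x3, h3, rfl⟩
  · rintro ⟨x1, h1, x2, h2, x3, h3, rfl⟩
    exact ⟨_, mul_mem (mem_sup_left h1) (mem_sup_right h2), x3, h3, rfl⟩

omit hI in
theorem vb_inf {c d : G} (hc : c ∈ AA a b) (hd : d ∈ AA a b) (q : Pr c d) {X : Subgroup G}
    (hX : X ≤ UU (AA a b) c) : X ⊓ VV (AA a b) d = ⊥ := eq_bot_iff.2 fun v hv =>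
  (h.vb_tr_U p hc q.a_ne (hX hv.1)).symm.trans (h.vb_tr_one p hd hc q.symm hv.2)

theorem card_WW : Nat.card (WW (AA a b) a) = 64 := by
  have v1 := h.vb_V1 hI p
  have v2 := h.vb_V2 hI p
  have v3 := h.vb_V3 hI p
  have m1 := right_mem_AA a b
  rw [h.vb_WW_eq hI p, CopAct.card_sup_of_inf_eq_bot (h.vb_nV hI p (sup_le v1 v2) v3),
    CopAct.card_sup_of_inf_eq_bot (h.vb_nV hI p v1 v2)
      (h.vb_inf p m1 p.vb_m2 p.vb_12 (h.vb_VU p m1 p.b_ne)),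
    h.vb_card p m1 p.b_ne, h.vb_card p p.vb_m2 p.vb_23.a_ne, h.vb_card p p.vb_m3 p.vb_23.b_ne]
  refine eq_bot_iff.2 fun v hv => ?_
  obtain ⟨x1, h1, x2, h2, rfl⟩ := (mem_sup_norm (h.vb_nV hI p v1 v2)).1 hv.1
  have := h.comp hI p (D := ⊥) (norm_normal _ _) (one_mem _) (one_mem _) h1 h2 (inv_mem hv.2) (by simp)
  exact mul_mem this.2.2.1 this.2.2.2.1

theorem tr_WW {w : G} (hw : w ∈ WW (AA a b) a) : tr3 a w = 1 := by
  obtain ⟨x1, h1, x2, h2, x3, h3, rfl⟩ := (h.mem_WW hI p).1 hw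
  have m0 := left_mem_AA a b
  rw [h.vb_tr_mul hI p m0 (mul_mem (h.vb_V1 hI p h1) (h.vb_V2 hI p h2)) (h.vb_V3 hI p h3),
    h.vb_tr_mul hI p m0 (h.vb_V1 hI p h1) (h.vb_V2 hI p h2), h.vb_tr_one p (right_mem_AA a b) m0 p.symm h1,
    h.vb_tr_one p p.vb_m2 m0 p.mul_left.1.symm h2, h.vb_tr_one p p.vb_m3 m0 p.inv_mul_left.1.symm h3]
  simp

theorem norm_WW {n : G} (h1 : Commute a n) (h2 : n ∈ 𝐍[UU (AA a b) a]) : n ∈ 𝐍[WW (AA a b) a] :=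
  cj_eq_iff.1 (by
    rw [WW, cj_comm, cj_of_norm ((hI a b p).2 h2), cj_zpowers, ← h1.eq, mul_inv_cancel_right])

/-- No element of order divisible by 3 centralises `W`. -/
theorem not_cent_WW {c : G} (h1 : 3 ∣ orderOf c) : c ∉ 𝐂[WW (AA a b) a] := fun hc => by
  obtain ⟨k, hk⟩ := exists_three h1
  have h2 := h.rank hk (F := WW (AA a b) a) (fun w hw => mem_c.2 (mem_cent.1 (pow_mem hc k) w hw).symm)
    fun t ht => h.VA_sq hI p (h.WW_le hI p ht)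
  obtain ⟨φ, cv⟩ := h.cov _ hk
  have h3 : orderOf (ζ (c ^ k)) ≤ 2 := orderOf_le_of_pow_eq_one two_pos (by rw [sq, cv.zz])
  rw [h.card_WW hI p, Nat.card_zpowers] at h2
  omega

/-- The order of `⟨r⟩ V_c V_d`. -/
theorem card_three {r c d : G} (hr : r ∈ RR (AA a b)) (h1 : r ≠ 1) (hc : c ∈ AA a b) (hd : d ∈ AA a b) (q : Pr c d) :
    Nat.card ↥(zpowers r ⊔ VV (AA a b) c ⊔ VV (AA a b) d) = 32 := by
  have r1 := zpowers_le.2 hr
  have r2 := r1.trans (h.vb_RA hI p)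
  have v1 := h.vb_VA p hc q.a_ne
  rw [CopAct.card_sup_of_inf_eq_bot (h.vb_nV hI p (sup_le r2 v1) (h.vb_VA p hd q.b_ne))
      (h.vb_inf p hc hd q (sup_le (r1.trans (h.vb_RU p hc q.a_ne)) (h.vb_VU p hc q.a_ne))),
    CopAct.card_sup_of_inf_eq_bot (h.vb_nV hI p r2 v1)
      (h.vb_inf p hd hc q.symm (r1.trans (h.vb_RU p hd q.b_ne))),
    h.vb_card p hc q.a_ne, h.vb_card p hd q.b_ne, Nat.card_zpowers,
    orderOf_eq_prime (p := 2) (by rw [sq, ((h.mem_RR p).1 hr).2.2]) h1]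

end Hyp

end Cfsg.Agent.J3L
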