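import Mathlib
import Cfsg.Agent.J3L.LocA
import Cfsg.Agent.J3L.VApi

/-!
The dichotomy, and the second case for the centre of order 6.
-/

set_option autoImplicit false
set_option linter.unusedSectionVars false

namespace Cfsg.Agent.J3L

open Cfsg Cfsg.Agent.GT Cfsg.Agent.Spor Cfsg.Agent.Spor.MB Cfsg.Agent.J4T Cfsg.Agent.Loc.Mss Subgroup

variable {G : Type*} [Group G] [Finite G] {ζ : G → G} {a b : G}

/-- The centraliser of the chain `UU A a ≥ RR A ≥ 1`. -/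
def DK (A : Subgroup G) (a : G) : Subgroup G := 𝐂[RR A] ⊓ cmod (UU A a) (RR A)

theorem mem_DK {A : Subgroup G} {g : G} :
    g ∈ DK A a ↔ g ∈ 𝐂[RR A] ∧ ∀ u ∈ UU A a, g * u * g⁻¹ * u⁻¹ ∈ RR A := by
  rw [DK, mem_inf, mem_cmod]
  refine and_congr_right fun h => ⟨fun h1 u hu => ?_, fun h1 => ⟨cent_le_norm _ h, fun u hu => ?_⟩⟩
  · simpa [commutatorElement_def, mul_assoc] using inv_mem (h1.2 u hu)
  · simpa [commutatorElement_def, mul_assoc] using inv_mem (h1 u hu)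

theorem di_cop3 {t : G} (h : t * t = 1) : (orderOf t).Coprime 3 :=
  (Nat.Coprime.coprime_dvd_left (orderOf_dvd_of_pow_eq_one (n := 2) (by rw [sq, h])) (by decide))

namespace Hyp

variable (h : Hyp ζ) (p : Pr a b)
include h p

theorem di_nU {c : G} (hc : c ∈ AA a b) : AA a b ≤ 𝐍[UU (AA a b) c] :=
  fun _ hs => norm_UU (p.vb_norm hs) (p.comm_of_mem hc hs)

theorem di_UU_comm {u v : G} (hu : u ∈ UU (AA a b) a) (hv : v ∈ UU (AA a b) a) : Commute u v :=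
  comm_of_sq (fun _ ht => ((h.mem_UU p).1 ht).2.2) hu hv

theorem di_cent_le : 𝐂[UU (AA a b) a] ≤ DK (AA a b) a := fun g hg =>
  mem_DK.2 ⟨cent_anti (h.RR_le_UU p) hg, fun u hu => by rw [← mem_cent.1 hg u hu]; simp [one_mem]⟩

theorem di_nK : AA a b ≤ 𝐍[DK (AA a b) a] :=
  norm_inf (norm_cent fun _ hs => norm_RR (p.vb_norm hs))
    (norm_cmod (h.di_nU p (left_mem_AA a b)) fun _ hs => norm_RR (p.vb_norm hs))

/-- A 3-element of `U ⟨a⟩` is a power of `a`. -/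
theorem di_three {g : G} {k : ℕ} (h1 : g ∈ UU (AA a b) a ⊔ zpowers a) (h2 : g ^ 3 ^ k = 1) : g ∈ zpowers a := by
  obtain ⟨u, hu, s, hs, rfl⟩ :=
    (mem_sup_norm (le_sup_left.trans (h.di_nU p (left_mem_AA a b)))).1 h1
  obtain ⟨h3, -, h4⟩ := (h.mem_UU p).1 hu
  obtain ⟨i, rfl⟩ := id hs
  rw [(h3.zpow_left i).symm.mul_pow] at h2
  exact mul_mem (mem_of_pow_mem (k := k) (di_cop3 h4)
    (eq_inv_of_mul_eq_one_left h2 ▸ inv_mem (pow_mem hs _))) hs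

theorem di_res : ¬ 3 ∣ Nat.card (pResidualOf 3 (DK (AA a b) a)) ∧
    pResidualOf 3 (DK (AA a b) a) ⊔ zpowers a = DK (AA a b) a :=
  burnside3 p.a3 (syl3_of p.a3 (h.di_cent_le p (mem_cent.2 fun _ hu => ((h.mem_UU p).1 hu).1.symm))
    fun _ hg h1 _ h2 => h.di_three p (h.L3 p h1 (mem_DK.1 hg).1 (mem_DK.1 hg).2) h2)
    fun _ hg h1 => h.L4 p h1 (mem_DK.1 hg).1 (mem_DK.1 hg).2

theorem di_inf {c : G} (hc : c ∈ AA a b) (h1 : c ≠ 1) :
    pResidualOf 3 (DK (AA a b) a) ⊓ 𝐜[c] ≤ UU (AA a b) c := fun g hg => by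
  have h2 := (mem_DK.1 (res_le _ hg.1)).1
  have h3 : (orderOf g).Coprime 3 := (Nat.Prime.coprime_iff_not_dvd Nat.prime_three).2
    (fun e => (h.di_res p).1 (e.trans (orderOf_dvd_natCard _ hg.1))) |>.symm
  refine res_sup_le (h.di_nU p hc) p.pg (mem_res ?_ h3)
  obtain ⟨d, q, e⟩ := p.exists_partner hc h1
  rw [← e] at h2 ⊢
  obtain ⟨u, hu, s, hs, rfl⟩ := h.cent_aR q (mem_c.1 hg.2) h2
  exact mul_mem (mem_sup_left hu) (mem_sup_right hs)

theorem di_le {L : Subgroup G}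
    (h1 : ∀ c ∈ AA a b, c ≠ 1 → pResidualOf 3 (DK (AA a b) a) ⊓ UU (AA a b) c ≤ L) :
    DK (AA a b) a ≤ L ⊔ zpowers a := by
  rw [← (h.di_res p).2]
  exact sup_le_sup_right (p.gen (norm_res (h.di_nK p)) (h.di_res p).1 fun c hc h2 =>
    (le_inf inf_le_left (h.di_inf p hc h2)).trans (h1 c hc h2)) _

theorem di_comm {g : G} (h1 : g ∈ DK (AA a b) a) (h2 : g ∉ UU (AA a b) a ⊔ zpowers a) :
    ∃ c, Pr a c ∧ UU (AA a c) a ≤ 𝐂[UU (AA a c) c] := by
  by_contra hn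
  refine h2 (h.di_le p (fun c hc hc1 x hx => ?_) h1)
  by_cases h3 : c ∈ zpowers a
  · rcases (mem_zpowers_three p.a3).1 h3 with e | e | e
    exacts [absurd e hc1, e ▸ hx.2, UU_inv (AA a b) a ▸ e ▸ hx.2]
  obtain ⟨q, e⟩ := p.of_mem hc h3
  obtain ⟨ρ, hρ, v, hv, rfl⟩ := h.vb_fac p hc hc1 hx.2
  by_cases h4 : v = 1
  · rw [h4, mul_one]; exact h.RR_le_UU p hρ
  have hR : RR (AA a b) ≤ pResidualOf 3 (DK (AA a b) a) := fun r hr => mem_res (h.di_cent_le p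
    (mem_cent.2 fun u hu => h.di_UU_comm p hu (h.RR_le_UU p hr))) (di_cop3 ((h.mem_RR p).1 hr).2.2)
  have h5 := (h.VV_le p (norm_res (h.di_nK p)) hc hc1 hv h4
    ((mul_mem_cancel_left (hR hρ)).1 hx.1)).trans (res_le _)
  refine (hn ⟨c, q, fun u hu => mem_cent.2 fun y hy => ?_⟩).elim
  rw [e] at hu hy
  obtain ⟨ρ', hρ', w, hw, rfl⟩ := h.vb_fac p hc hc1 hy
  obtain ⟨h6, h7, -⟩ := (h.mem_UU p).1 hu
  refine Commute.mul_left (mem_cent.1 h7 _ hρ') ?_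
  have na := norm_VV (p.vb_norm (left_mem_AA a b)) q.comm.symm
  obtain ⟨r, hr⟩ : ∃ r, r = w * u * w⁻¹ * u⁻¹ := ⟨_, rfl⟩
  have k1 : r ∈ RR (AA a b) := hr ▸ (mem_DK.1 (h5 hw)).2 u hu
  obtain ⟨k2, -, k3⟩ := (h.mem_RR p).1 k1
  have k4 : ∀ s, Commute s u → Commute s r → s * w * s⁻¹ * u * (s * w * s⁻¹)⁻¹ = r * u := fun s e1 e2 => by
    calc _ = s * w * (s⁻¹ * u * s) * w⁻¹ * s⁻¹ := by group
      _ = s * r * (u * s⁻¹) := by rw [e1.inv_left.eq, hr]; group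
      _ = _ := by rw [e2.eq, ← e1.inv_left.eq]; group
  have k5 : ∀ y ∈ VV (AA a b) c, ∀ x, y * (r * x) * y⁻¹ = r * (y * x * y⁻¹) := fun y hy x => by
    rw [← mul_assoc, ← mem_cent.1 (mem_DK.1 (h5 hy)).1 r k1]; group
  have k6 : tr3 a w * u * (tr3 a w)⁻¹ = r * u := by
    calc _ = w * (a * w * a⁻¹ * (a⁻¹ * w * a⁻¹⁻¹ * u * (a⁻¹ * w * a⁻¹⁻¹)⁻¹) * (a * w * a⁻¹)⁻¹) * w⁻¹ := by
          simp only [tr3, mul_inv_rev, inv_inv, mul_assoc]
      _ = r * r * (r * u) := by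
          rw [k4 _ h6.inv_left k2.inv_left, k5 _ (conj_mem_of_norm na hw), k4 _ h6 k2, k5 _ hw, k5 _ hw, hr]
          group
      _ = _ := by rw [k3, one_mul]
  rw [h.vb_tr_one p hc (left_mem_AA a b) q.symm hw, one_mul, inv_one, mul_one, eq_comm, mul_eq_right,
    hr, mul_inv_eq_one, mul_inv_eq_iff_eq_mul] at k6
  exact k6

end Hyp

theorem Hyp.dich (h : Hyp ζ) : CaseI G ∨ CaseII G := by
  refine or_iff_not_imp_right.2 fun hn => ?_
  simp only [CaseII, not_forall] at hn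
  obtain ⟨a, b, p, g, h1, h2, h3⟩ := hn
  obtain ⟨c, q, h4⟩ := h.di_comm p (mem_DK.2 ⟨h1, h2⟩) h3
  have key : ∀ a b : G, Pr a b → ∀ c ∈ AA a b, c ≠ 1 → UU (AA a b) a ≤ 𝐂[UU (AA a b) c] := by
    intro a' b' p' c' hc hc1
    by_cases h5 : c' ∈ zpowers a'
    · have h6 : UU (AA a' b') a' ≤ 𝐂[UU (AA a' b') a'] := fun u hu =>
        mem_cent.2 fun v hv => h.di_UU_comm p' hv hu
      rcases (mem_zpowers_three p'.a3).1 h5 with e | e | e
      exacts [absurd e hc1, e ▸ h6, by rw [e, UU_inv]; exact h6]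
    obtain ⟨q', e⟩ := p'.of_mem hc h5
    obtain ⟨n, rfl, rfl⟩ := h.trans _ _ _ _ q q'
    rw [← e, ← cj_AA, ← cj_UU, ← cj_UU, ← cj_cent]
    exact cj_mono n h4
  refine fun a b p => ⟨key a b p, norm_of_forall_cj_le fun n hn => ?_⟩
  rw [cj_le_iff_le_inv]
  refine VA_le fun c hc hc1 => ?_
  rw [← cj_le_iff_le_inv, cj_le_iff]
  intro u hu
  refine res_sup_le (p := 3) (le_sup_left.trans fun _ hs => norm_VA (p.vb_norm hs)) (pg_zpowers p.a3)
    (mem_res (h.di_le p (fun d hd hd1 => inf_le_right.trans (UU_le_VA hd hd1)) (h.di_cent_le p ?_))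
      (di_cop3 (by rw [conj_mul, ((h.vb_mem_UU p hc hc1).1 hu).2.2]; group)))
  exact conj_mem_of_norm (norm_cent le_rfl hn) (cent_comm (key a b p c hc hc1) hu)

/-- A 2-group has at most three classes of self-centralising four-groups. -/
theorem di_abs {X : Type*} [Group X] [Finite X] (F : Fin 4 → Subgroup X) (hc : ∀ i, Nat.card (F i) = 4)
    (ha : ∀ i, F i ≤ 𝐂[F i]) (hs : ∀ i g k, g ^ 2 ^ k = 1 → g ∈ 𝐂[F i] → g ∈ F i)
    (hn : ∀ i j g, cj(g, F i) = F j → i = j) : False := by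
  classical
  obtain ⟨P, hP⟩ := Syl.exists 2 (⊤ : Subgroup X)
  have pg : ∀ i, IsPGroup 2 (F i) := fun i => IsPGroup.of_card (n := 2) (hc i)
  choose g _ hg using fun i => hP.conj_le (pg i) le_top
  obtain ⟨E, hE⟩ : ∃ E : Fin 4 → Subgroup X, ∀ i, E i = cj(g i, F i) := ⟨_, fun _ => rfl⟩
  have c1 : ∀ i, Nat.card (E i) = 4 := fun i => by rw [hE, card_cj, hc]
  have a1 : ∀ i, E i ≤ 𝐂[E i] := fun i => by rw [hE, ← cj_cent]; exact cj_mono _ (ha i)
  have s1 : ∀ i, P ⊓ 𝐂[E i] ≤ E i := fun i x hx => by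
    obtain ⟨k, hk⟩ := pg_iff.1 hP.pg x hx.1
    have h1 := hx.2
    rw [hE, ← cj_cent] at h1
    rw [hE]
    exact mem_cj.2 (hs i _ k (by
      rw [← inv_inv (g i), inv_inv (g i)⁻¹, conj_pow, hk]; group) (mem_cj.1 h1))
  have n1 : ∀ i j x, cj(x, E i) = E j → i = j := fun i j x e => hn i j ((g j)⁻¹ * (x * g i)) (by
    rw [← cj_cj, ← cj_cj, ← hE, e, hE, cj_inv_cj])
  have l1 : ∀ i, E i ≤ P := fun i => hE i ▸ hg i
  clear hE hg hn hs ha hc pg
  have f1 : ∀ i, ∃ f ∈ E i, f ∉ 𝐂[P] := fun i => by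
    by_contra hn
    have h1 : P ≤ E i := (le_inf le_rfl (cent_comm fun f hf => by_contra fun e => hn ⟨f, hf, e⟩)).trans (s1 i)
    have h2 := n1 (i + 1) i 1 (by
      rw [cj_one]; exact eq_of_le_of_card_ge ((l1 _).trans h1) (by rw [c1, c1]))
    simp at h2
  choose f hf hf' using f1
  haveI : Nontrivial P := (nontrivial_iff_ne_bot P).2 fun e => by
    have := c1 0
    rw [le_bot_iff.1 ((l1 0).trans e.le)] at this
    simp at this
  haveI := hP.pg.center_nontrivial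
  obtain ⟨⟨z, hz⟩, hz1⟩ := exists_ne (1 : center P)
  have z1 : (z : X) ∈ 𝐂[P] := mem_cent.2 fun y hy => congrArg Subtype.val (mem_center_iff.1 hz ⟨y, hy⟩)
  have z2 : (z : X) ≠ 1 := fun e => hz1 (Subtype.ext (Subtype.ext e))
  have cf : ∀ i, P ⊓ 𝐜[f i] = E i := fun i => by
    refine le_antisymm (fun x hx => s1 i ⟨hx.1, ?_⟩) fun x hx =>
      ⟨l1 i hx, mem_c.2 (mem_cent.1 (a1 i hx) _ (hf i))⟩
    have h1 : E i ⊓ 𝐜[x] = E i := by
      refine eq_of_le_of_card_ge inf_le_left ?_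
      have h2 : 3 ≤ Nat.card ↥(E i ⊓ 𝐜[x]) := by
        have := Set.ncard_le_ncard (s := {1, (z : X), f i}) (t := (E i ⊓ 𝐜[x] : Subgroup X)) (by
          rintro y (rfl | rfl | rfl)
          exacts [one_mem _, ⟨s1 i ⟨z.2, cent_anti (l1 i) z1⟩, mem_c.2 (mem_cent.1 z1 x hx.1)⟩,
            ⟨hf i, mem_c.2 (mem_c.1 hx.2).symm⟩])
        rwa [Set.ncard_eq_three.2 ⟨1, (z : X), f i, z2.symm, fun e => hf' i (e ▸ one_mem _),
          fun e => hf' i (e ▸ z1), rfl⟩] at this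
      have h3 := card_dvd_of_le (inf_le_left : E i ⊓ 𝐜[x] ≤ E i)
      rw [c1] at h3 ⊢
      have h4 := Nat.le_of_dvd (by decide) h3
      interval_cases Nat.card ↥(E i ⊓ 𝐜[x]) <;> simp_all
    exact mem_cent.2 fun y hy => (mem_c.1 (h1.ge hy).2).symm
  haveI := Fintype.ofFinite P
  have key := Finset.card_le_mul_card_image_of_maps_to (s := (Finset.univ : Finset (Fin 4 × P)))
    (t := Finset.univ.erase (1 : P)) (f := fun y => y.2 * ⟨f y.1, l1 _ (hf _)⟩ * y.2⁻¹) (fun y _ => by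
      simp only [Finset.mem_erase, Finset.mem_univ, and_true, ne_eq, conj_eq_one_iff]
      exact fun e => hf' y.1 (by rw [show f y.1 = 1 from congrArg Subtype.val e]; exact one_mem _)) 4
    fun y _ => by
      rcases (Finset.univ.filter fun w : Fin 4 × P =>
        w.2 * ⟨f w.1, l1 _ (hf _)⟩ * w.2⁻¹ = y).eq_empty_or_nonempty with e | ⟨⟨i, x⟩, e⟩
      · simp [e]
      have e1 := congrArg Subtype.val (Finset.mem_filter.1 e).2
      have e2 : ∀ w ∈ Finset.univ.filter fun w : Fin 4 × P => w.2 * ⟨f w.1, l1 _ (hf _)⟩ * w.2⁻¹ = y,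
          w.1 = i ∧ (x : X)⁻¹ * w.2 ∈ E i := by
        rintro ⟨j, w⟩ hw
        have e3 : (x : X)⁻¹ * w * f j * ((x : X)⁻¹ * w)⁻¹ = f i := by
          have := (congrArg Subtype.val (Finset.mem_filter.1 hw).2).trans e1.symm
          simp only [coe_mul, coe_inv] at this
          calc _ = (x : X)⁻¹ * (w * f j * (w : X)⁻¹) * x := by group
            _ = _ := by rw [this]; group
        have e4 : j = i := n1 j i ((x : X)⁻¹ * w) (by
          rw [← cf, ← cf, cj_inf, cj_c, e3, cj_of_mem (mul_mem (inv_mem x.2) w.2)])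
        subst e4
        exact ⟨rfl, (cf j).le (mem_inf.2
          ⟨mul_mem (inv_mem x.2) w.2, mem_c.2 (mul_inv_eq_iff_eq_mul.1 e3).symm⟩)⟩
      haveI := Fintype.ofFinite (E i)
      refine le_of_le_of_eq ?_ (c1 i)
      rw [Nat.card_eq_fintype_card, ← Finset.card_univ]
      refine Finset.card_le_card_of_injOn (fun w => if hw : (x : X)⁻¹ * w.2 ∈ E i then ⟨_, hw⟩ else 1)
        (fun _ _ => Finset.mem_coe.2 (Finset.mem_univ _)) fun w hw w' hw' e3 => ?_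
      simp only [dif_pos (e2 w hw).2, dif_pos (e2 w' hw').2, Subtype.mk.injEq, mul_right_inj] at e3
      exact Prod.ext ((e2 w hw).1.trans (e2 w' hw').1.symm) (Subtype.ext e3)
  rw [Finset.card_erase_of_mem (Finset.mem_univ _), Finset.card_univ, Finset.card_univ, Fintype.card_prod,
    Fintype.card_fin] at key
  have := Fintype.card_pos (α := P)
  omega

theorem Hyp.two6 (h : Hyp ζ) (h6 : C6 ζ) (p : Pr a b) : ¬ CaseII G := fun hII => by
  obtain ⟨c, hc, hp⟩ : ∃ c : Fin 4 → G, (∀ i, c i ∈ AA a b ∧ c i ≠ 1) ∧ ∀ i j, i ≠ j → Pr (c i) (c j) := by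
    refine ⟨![a, b, a * b, a⁻¹ * b], fun i => ?_, fun i j hij => ?_⟩
    · fin_cases i
      exacts [⟨left_mem_AA a b, p.a_ne⟩, ⟨right_mem_AA a b, p.b_ne⟩, ⟨p.vb_m2, p.vb_23.a_ne⟩,
        ⟨p.vb_m3, p.vb_23.b_ne⟩]
    · fin_cases i <;> fin_cases j <;> first | exact absurd rfl hij | skip
      exacts [p, p.mul_left.1, p.inv_mul_left.1, p.symm, p.vb_12, p.vb_13, p.mul_left.1.symm,
        p.vb_12.symm, p.vb_23, p.inv_mul_left.1.symm, p.vb_13.symm, p.vb_23.symm]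
  haveI : ((RR (AA a b)).subgroupOf 𝐂[RR (AA a b)]).Normal :=
    normal_subgroupOf_of_le_normalizer (cent_le_norm _)
  let π := QuotientGroup.mk' ((RR (AA a b)).subgroupOf 𝐂[RR (AA a b)])
  have hπ : ∀ x, π x = 1 ↔ (x : G) ∈ RR (AA a b) := fun x => QuotientGroup.eq_one_iff x
  have uc : ∀ i, UU (AA a b) (c i) ≤ 𝐂[RR (AA a b)] := fun i u hu =>
    ((h.vb_mem_UU p (hc i).1 (hc i).2).1 hu).2.1
  have k1 : ∀ i x, π x ∈ 𝐂[((UU (AA a b) (c i)).subgroupOf 𝐂[RR (AA a b)]).map π] →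
      (x : G) ∈ UU (AA a b) (c i) ⊔ zpowers (c i) := fun i x hx => by
    obtain ⟨d, q, e⟩ := p.exists_partner (hc i).1 (hc i).2
    have := hII _ _ q
    rw [e] at this
    refine this x x.2 fun u hu => (hπ (x * ⟨u, uc i hu⟩ * x⁻¹ * ⟨u, uc i hu⟩⁻¹)).1 ?_
    rw [map_mul, map_mul, map_mul, ← mem_cent.1 hx _ (mem_map_of_mem π (x := ⟨u, uc i hu⟩) hu)]
    simp
  refine di_abs (fun i => ((UU (AA a b) (c i)).subgroupOf 𝐂[RR (AA a b)]).map π) (fun i => ?_)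
    (fun i => map_cent_le π fun u hu => mem_cent.2 fun v hv => Subtype.ext (comm_of_sq (fun t ht =>
      ((h.vb_mem_UU p (hc i).1 (hc i).2).1 ht).2.2) hv hu)) (fun i g k h1 h2 => ?_) fun i j g h1 => ?_
  · obtain ⟨d, q, e⟩ := p.exists_partner (hc i).1 (hc i).2
    have h1 := h.card_UU q
    rw [e] at h1
    have h2 := PG.relIndex_mul_card (h.vb_RU p (hc i).1 (hc i).2)
    rw [← relIndex_ker, QuotientGroup.ker_mk', relIndex_subgroupOf (uc i)]
    exact Nat.eq_of_mul_eq_mul_right Nat.card_pos (h2.trans h1)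
  · obtain ⟨x, rfl⟩ := QuotientGroup.mk'_surjective _ g
    obtain ⟨u, hu, s, hs, e⟩ := (mem_sup_norm ((zpowers_le.2 (hc i).1).trans (h.di_nU p (hc i).1))).1 (k1 i x h2)
    have h3 : (x : G) ^ 2 ^ k ∈ UU (AA a b) (c i) :=
      h.vb_RU p (hc i).1 (hc i).2 ((hπ (x ^ 2 ^ k)).1 ((map_pow π x _).trans h1))
    obtain ⟨m, rfl⟩ := id hs
    rw [← e, (((h.vb_mem_UU p (hc i).1 (hc i).2).1 hu).1.zpow_left m).symm.mul_pow,
      mul_mem_cancel_left (pow_mem hu _)] at h3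
    refine mem_map_of_mem π (show (x : G) ∈ _ from e ▸ mul_mem hu (mem_of_pow_mem ?_ h3))
    exact Nat.Coprime.coprime_dvd_left (orderOf_dvd_of_pow_eq_one (p.cube (zpow_mem (hc i).1 m))) (by decide)
  · obtain ⟨x, rfl⟩ := QuotientGroup.mk'_surjective _ g
    by_contra hij
    have q := hp i j hij
    have h2 : c i ∈ 𝐂[RR (AA a b)] := cent_comm (fun r hr => mem_cent_AA.2
      ⟨((h.mem_RR p).1 hr).1, ((h.mem_RR p).1 hr).2.1⟩) (hc i).1
    have h3 := k1 j (x * ⟨_, h2⟩ * x⁻¹) (by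
      rw [← h1, ← cj_cent, map_mul, map_mul, map_inv]
      exact conj_mem_cj (map_cent_le π (X := 𝐂[(UU (AA a b) (c i)).subgroupOf 𝐂[RR (AA a b)]]) le_rfl
        (mem_map_of_mem π (mem_cent.2 fun u hu =>
          Subtype.ext ((h.vb_mem_UU p (hc i).1 (hc i).2).1 hu).1.symm))))
    have h4 := h.di_three q.symm (k := 1) (g := x * c i * (x : G)⁻¹)
      (by rw [p.vb_eq (hc j).1 (hc i).1 q.symm]; exact h3) (by simp [q.a_cube])
    have h5 : ζ (x * c i * (x : G)⁻¹) = ζ (c i) := by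
      rw [h.conj _ _ q.a3, ← mem_cent.1 x.2 _ (h.zeta_mem p (hc i).1 (hc i).2), mul_inv_cancel_right]
    rcases (mem_zpowers_three q.b3).1 h4 with e | e | e
    · exact q.a_ne (by simpa using e)
    · exact h6 _ _ q (h5.symm.trans (congrArg ζ e))
    · exact h6 _ _ q (h5.symm.trans ((congrArg ζ e).trans (h.inv _ q.b3)))

end Cfsg.Agent.J3L
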