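import Mathlib
import Cfsg.Agent.J3L.Base
import Cfsg.Agent.J3L.MD
import Cfsg.Agent.J3L.FusA

/-!
Fusion of the elements of order 3.
-/

set_option autoImplicit false
set_option linter.unusedSectionVars false

namespace Cfsg.Agent.J3L

open Cfsg Cfsg.Agent.Spor Cfsg.Agent.Spor.MB Cfsg.Agent.J4T Cfsg.Agent.Loc.Mss Subgroup FA

universe u

variable {G : Type u} [Group G] [Finite G]

theorem cov_of {x : G} (hx : orderOf x = 3) (hperf : ⁅(⊤ : Subgroup 𝐜[x]), (⊤ : Subgroup 𝐜[x])⁆ = ⊤)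
    (hZ : IsCyclic (center 𝐜[x])) (hc : Nat.card (center 𝐜[x]) = 3 ∨ Nat.card (center 𝐜[x]) = 6)
    (e : (𝐜[x] ⧸ center 𝐜[x]) ≃* Spor.M22) : ∃ z φ, Cov x z φ := by
  obtain ⟨t, ht⟩ := hZ.exists_generator
  have h6 : t ^ 6 = 1 := orderOf_dvd_iff_pow_eq_one.1 (by
    rw [orderOf_eq_card_of_forall_mem_zpowers ht]; rcases hc with h | h <;> rw [h]; decide)
  set T : G := ((t : 𝐜[x]) : G) with hT
  have hz : T ^ 3 * T ^ 3 = 1 := by
    rw [← pow_add]; exact congrArg (fun s : center 𝐜[x] => ((s : 𝐜[x]) : G)) h6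
  have hc : ∀ c, Commute x c → Commute T c := fun c h =>
    congrArg Subtype.val (mem_center_iff.1 t.2 ⟨c, mem_c.2 h⟩).symm
  have hx0 : (⟨x, mem_c.2 rfl⟩ : 𝐜[x]) ∈ center 𝐜[x] := mem_center_iff.2 fun g => Subtype.ext (mem_c.1 g.2).symm.eq
  have hm : ∀ c : 𝐜[x], c ∈ center 𝐜[x] → (c : G) ∈ zpowers T := fun c h => by
    obtain ⟨k, hk⟩ := ht ⟨c, h⟩
    exact ⟨k, congrArg (fun s : center 𝐜[x] => ((s : 𝐜[x]) : G)) hk⟩
  have hT1 : T ∈ zpowers x ⊔ zpowers (T ^ 3) := by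
    obtain ⟨k, hk⟩ : x ∈ zpowers T := hm _ hx0
    clear_value T
    have h1 : x = (T ^ 3) ^ (k / 3) * T ^ (k % 3) := by
      rw [← zpow_natCast, ← zpow_mul, ← zpow_add, Nat.cast_ofNat, Int.mul_ediv_add_emod]; exact hk.symm
    have h2 : T ^ (k % 3) ∈ zpowers x ⊔ zpowers (T ^ 3) :=
      (mul_mem_cancel_left (mem_sup_right (zpow_mem_zpowers (T ^ 3) (k / 3)))).1
        (by rw [← h1]; exact mem_sup_left (mem_zpowers x))
    have h3 : k % 3 = 0 ∨ k % 3 = 1 ∨ k % 3 = 2 := by omega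
    rcases h3 with h | h | h <;> rw [h] at h1 h2
    · have h4 : x ∈ zpowers (T ^ 3) := ⟨k / 3, by rw [h1]; simp⟩
      have h5 := (orderOf_dvd_of_mem_zpowers h4).trans (orderOf_dvd_of_pow_eq_one ((sq _).trans hz))
      rw [hx] at h5
      omega
    · simpa using h2
    · simpa [pow_succ, zpow_two, mul_assoc] using mul_mem (inv_mem h2) (mem_sup_right (mem_zpowers (T ^ 3)))
  refine ⟨T ^ 3, Spor.M22.subtype.comp (e.toMonoidHom.comp (QuotientGroup.mk' _)), hx, hz, (hc x rfl).symm.pow_right 3,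
    fun c h => (hc c h).pow_left 3, ?_, fun c => ?_, hperf⟩
  · rw [MonoidHom.range_comp, MonoidHom.range_eq_top.2 (e.surjective.comp (QuotientGroup.mk'_surjective _)),
      map_subtype_top]
  · have : (Spor.M22.subtype.comp (e.toMonoidHom.comp (QuotientGroup.mk' _))) c = 1 ↔ c ∈ center 𝐜[x] := by
      simp [QuotientGroup.eq_one_iff]
    rw [this]
    refine ⟨fun h => zpowers_le.2 hT1 (hm c h), fun h => mem_center_iff.2 fun g => Subtype.ext ?_⟩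
    have h1 : zpowers x ⊔ zpowers (T ^ 3) ≤ 𝐜[(g : G)] := sup_le (zpowers_le.2 (mem_c.2 (mem_c.1 g.2).symm))
      (zpowers_le.2 (mem_c.2 ((hc g (mem_c.1 g.2)).pow_left 3).symm))
    exact (mem_c.1 (h1 h)).eq

namespace Cov

variable {x z : G} {φ : 𝐜[x] →* PG} (c : Cov x z φ)
include c

/-- Transport along a homomorphism onto the centraliser whose kernel lies in `⟨z⟩`. -/
theorem fu_push {K : Type*} [Group K] (q : 𝐜[x] →* K) {x' z' : K} (hx : q ⟨x, mem_c.2 rfl⟩ = x')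
    (hz : q ⟨z, mem_c.2 c.za⟩ = z') (hk : ∀ g, q g = 1 → (g : G) ∈ zpowers z) (hr : ∀ k, Commute x' k → k ∈ q.range) :
    ∃ φ', Cov x' z' φ' := by
  have cm : ∀ g h : 𝐜[x], Commute (g : G) h → Commute (q g) (q h) := fun g h e => Commute.map (x := g) (y := h) (Subtype.ext e.eq) q
  let ψ : 𝐜[x] →* 𝐜[x'] := q.codRestrict _ fun g => mem_c.2 (hx ▸ cm _ g (mem_c.1 g.2))
  have hs : Function.Surjective ψ := fun k => (hr k (mem_c.1 k.2)).imp fun g h => Subtype.ext h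
  let φ' := ψ.liftOfSurjective hs ⟨φ, fun g hg => (c.ker g).2 (mem_sup_right (hk g (congrArg Subtype.val hg)))⟩
  have e : ∀ g, φ' (ψ g) = φ g := fun g => ψ.liftOfRightInverse_comp_apply _ _ _ g
  refine ⟨φ', orderOf_eq_prime ?_ fun h => ?_, ?_, hx ▸ hz ▸ cm _ _ c.za, fun k h => ?_, ?_, fun k => ?_, ?_⟩
  · rw [← hx, ← map_pow, ← q.map_one]; exact congrArg q (Subtype.ext c.fa_cube)
  · have h1 := (orderOf_dvd_of_mem_zpowers (hk _ (hx.trans h))).trans (orderOf_dvd_of_pow_eq_one ((sq _).trans c.zz))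
    rw [c.ord] at h1
    omega
  · rw [← hz, ← map_mul, ← q.map_one]; exact congrArg q (Subtype.ext c.zz)
  · obtain ⟨g, rfl⟩ := hr k h
    exact hz ▸ cm _ g (c.zc g (mem_c.1 g.2))
  · rw [← c.range]
    refine le_antisymm ?_ ?_
    · rintro _ ⟨k, rfl⟩
      obtain ⟨g, rfl⟩ := hs k
      exact ⟨g, (e g).symm⟩
    · rintro _ ⟨g, rfl⟩
      exact ⟨ψ g, e g⟩
  · refine ⟨fun h => ?_, fun h => ?_⟩
    · obtain ⟨g, rfl⟩ := hs k
      have h1 : zpowers x ⊔ zpowers z ≤ ((zpowers x' ⊔ zpowers z').comap q).map (𝐜[x]).subtype :=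
        sup_le (zpowers_le.2 ⟨⟨x, mem_c.2 rfl⟩, mem_comap.2 (hx ▸ mem_sup_left (mem_zpowers _)), rfl⟩)
          (zpowers_le.2 ⟨⟨z, mem_c.2 c.za⟩, mem_comap.2 (hz ▸ mem_sup_right (mem_zpowers _)), rfl⟩)
      obtain ⟨g', h2, h3⟩ := h1 ((c.ker g).1 ((e g).symm.trans h))
      exact Subtype.ext h3 ▸ h2
    · have h1 : zpowers x' ⊔ zpowers z' ≤ φ'.ker.map (𝐜[x']).subtype :=
        sup_le (zpowers_le.2 ⟨_, (e _).trans c.im_a.2, hx⟩) (zpowers_le.2 ⟨_, (e _).trans c.im_z.2, hz⟩)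
      obtain ⟨g', h2, h3⟩ := h1 h
      exact Subtype.ext h3 ▸ h2
  · rw [_root_.commutator_def, ← map_top_of_surjective ψ hs, ← map_commutator, ← _root_.commutator_def, c.perf]

theorem fu_conj (g : G) : ∃ φ', Cov (g * x * g⁻¹) (g * z * g⁻¹) φ' :=
  c.fu_push ((MulAut.conj g).toMonoidHom.comp (𝐜[x]).subtype) rfl rfl
    (fun k h => by rw [show (k : G) = 1 from conj_eq_one_iff.1 h]; exact one_mem _) fun k h =>
      ⟨⟨g⁻¹ * k * g, mem_c.2 (by simpa [mul_assoc] using comm_conj h g⁻¹)⟩, by simp [mul_assoc]⟩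

theorem subgroup {L : Subgroup G} (hL : 𝐜[x] ≤ L) {x' z' : L} (hx : (x' : G) = x) (hz : (z' : G) = z) :
    ∃ φ', Cov x' z' φ' :=
  c.fu_push (inclusion hL) (Subtype.ext hx.symm) (Subtype.ext hz.symm)
    (fun k h => by rw [show (k : G) = 1 from congrArg Subtype.val h]; exact one_mem _) fun k h =>
      ⟨⟨k, mem_c.2 (hx ▸ congrArg Subtype.val h.eq)⟩, rfl⟩

/-- A Sylow 3-subgroup with centre `⟨x⟩`. -/
theorem fu_syl : ∃ P, Syl 3 P ⊤ ∧ P ≤ 𝐜[x] ∧ P ⊓ 𝐂[P] = zpowers x := by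
  obtain ⟨M⟩ := exists_MD
  obtain ⟨y, hy, y9⟩ := c.lift_three M.fa_a1 M.fa_pr.a_cube
  obtain ⟨s, s9, hs, e⟩ := c.fa_s (k := 2) M hy y9
  have h1 : Commute x s := hs.elim Im.comm Im.comm
  have pg : ∀ t : G, t ^ 3 ^ 2 = 1 → IsPGroup 3 (zpowers t) := fun t h => pg_iff.2 fun _ ⟨k, hk⟩ => ⟨2, by
    rw [← hk, ← zpow_natCast, ← zpow_mul, mul_comm, zpow_mul, zpow_natCast, h, one_zpow]⟩
  have h2 : IsPGroup 3 ↥(zpowers s ⊔ AA x y) := pg_sup (pg s s9) (pg_sup (pg_zpowers c.ord) (pg y y9)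
    (norm_of_cent (zpowers_le.2 (mem_cent.2 fun t ht => (zp_comm hy.comm.symm ht).eq))))
    (zpowers_le.2 (mem_norm_of_cj_le (by
      rw [cj_AA, conj_of_comm h1.symm, e]
      exact AA_le (left_mem_AA _ _) (mul_mem (left_mem_AA _ _) (right_mem_AA _ _)))))
  obtain ⟨P, h3, hP⟩ := Syl.exists_ge h2 le_top
  have mx := h3 (mem_sup_right (left_mem_AA x y))
  have my := h3 (mem_sup_right (right_mem_AA x y))
  have ms := h3 (mem_sup_left (mem_zpowers s))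
  have h4 : P ⊓ 𝐂[P] ≤ zpowers x := fun t ht => by
    by_contra hn
    obtain ⟨k, hk⟩ := pg_iff.1 hP.pg t ht.1
    have h5 : ∀ g ∈ P, Commute g t := mem_cent.1 ht.2
    have h6 := c.fa_mem3 (l := 2) M (h5 x mx) hk hn hy.comm (h5 y my).symm y9
    have h7 : Commute s y := mem_c.1 (AA_le (mem_c.2 h1.symm) (mem_c.2 (h5 s ms)) h6)
    rw [conj_of_comm h7, right_eq_mul] at e
    simpa [e] using c.ord
  have : Nontrivial P := ⟨⟨x, mx⟩, 1, fun e => by simpa [show x = 1 from congrArg Subtype.val e] using c.ord⟩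
  obtain ⟨t, h5⟩ := @exists_ne _ hP.pg.center_nontrivial 1
  have h6 : ((t : P) : G) ∈ P ⊓ 𝐂[P] :=
    ⟨t.1.2, mem_cent.2 fun g hg => congrArg Subtype.val (mem_center_iff.1 t.2 ⟨g, hg⟩)⟩
  have h7 : x ∈ P ⊓ 𝐂[P] := by
    rcases (mem_zpowers_three c.ord).1 (h4 h6) with e | e | e
    · exact absurd (Subtype.ext (Subtype.ext e)) h5
    · exact e ▸ h6
    · exact inv_mem_iff.1 (e ▸ h6)
  exact ⟨P, hP, fun g hg => mem_c.2 (mem_cent.1 h7.2 g hg).symm, le_antisymm h4 (zpowers_le.2 h7)⟩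

theorem fus_of (P : Sylow 3 G) (g : G)
    (hng : ((center (P : Subgroup G)).map (P : Subgroup G).subtype).map (MulAut.conj g).toMonoidHom ≤ (P : Subgroup G))
    (hne : ((center (P : Subgroup G)).map (P : Subgroup G).subtype).map (MulAut.conj g).toMonoidHom ≠
      (center (P : Subgroup G)).map (P : Subgroup G).subtype) :
    ∃ g : G, Commute x (g * x * g⁻¹) ∧ g * x * g⁻¹ ∉ zpowers x := by
  obtain ⟨S, h1, h2, h3⟩ := c.fu_syl
  obtain ⟨k, -, e⟩ := h1.conj_eq (Syl.of_sylow P)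
  rw [← cent_top, map_subtype_cent, map_subtype_top, ← e, ← cj_cent, ← cj_inf, h3, cj_cj] at hng hne
  rw [← cj_le_cj (g := k⁻¹), cj_inv_cj, cj_cj] at hng
  refine ⟨k⁻¹ * (g * k), mem_c.1 (h2 (hng (conj_mem_cj (mem_zpowers x)))), fun h => hne ?_⟩
  have h4 : cj(k⁻¹ * (g * k), zpowers x) = zpowers x := cj_eq_of_le (by rw [cj_zpowers]; exact zpowers_le.2 h)
  conv_rhs => rw [← h4, cj_cj, mul_inv_cancel_left]

theorem fu_norm {n : G} (hn : n * x * n⁻¹ = x⁻¹) : n * z * n⁻¹ = z := by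
  have h1 : ∀ g, Commute x g → Commute (n * z * n⁻¹) g := fun g hg => by
    have h2 : Commute x (n⁻¹ * g * n) := by
      have := comm_conj hg.inv_left n⁻¹
      rw [← hn] at this
      simpa [mul_assoc] using this
    simpa [mul_assoc] using comm_conj (c.zc _ h2) n
  obtain ⟨p, hp⟩ := Im.of_comm (φ := φ) (h1 x rfl).symm
  have h2 : p = 1 := HypA.eq_one_of_comm (HypA.le_D22 (c.mem hp)) fun m hm => by
    obtain ⟨g, hg⟩ := c.lift hm
    exact (hp.commute hg (h1 g hg.comm)).eq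
  rcases c.ker_two (k := 1) (c.im_one.1 (h2 ▸ hp)) (by rw [pow_one, sq, conj_mul, c.zz]; group) with e | e
  · rw [e, conj_eq_one_iff.1 e]
  · exact e

theorem exists_hyp0 (hf : ∃ g : G, Commute x (g * x * g⁻¹) ∧ g * x * g⁻¹ ∉ zpowers x) :
    ∃ ζ : G → G, Hyp0 ζ ∧ ζ x = z := by
  classical
  obtain ⟨M⟩ := exists_MD
  obtain ⟨g, h1, h2⟩ := hf
  have p : Pr x (g * x * g⁻¹) := ⟨c.ord, (ord_conj g x).trans c.ord, h1, h2⟩
  have t1 : ∀ w w', Pr x w → Pr x w' → ∃ k, Commute x k ∧ k * w * k⁻¹ = w' := fun w w' q q' =>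
    c.fa_conj3 (k := 1) (l := 1) M q.comm q.b_cube q.nm q'.comm q'.b_cube q'.nm
  obtain ⟨n, hn⟩ : ∃ n, n * x * n⁻¹ = x⁻¹ := by
    obtain ⟨k, -, e⟩ := t1 _ _ p p.inv_right
    refine ⟨g⁻¹ * k * g, ?_⟩
    calc _ = g⁻¹ * (k * (g * x * g⁻¹) * k⁻¹) * g := by group
      _ = _ := by rw [e]; group
  have t2 : ∀ a : G, orderOf a = 3 → ∃ k, k * x * k⁻¹ = a := fun a ha => by
    obtain ⟨S, h3, h4, -⟩ := c.fu_syl
    obtain ⟨k, -, h5⟩ := h3.conj_le (pg_zpowers ha) le_top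
    have h6 := mem_c.1 (h4 (h5 (conj_mem_cj (mem_zpowers a))))
    have h7 := (ord_conj k a).trans ha
    obtain ⟨l, hl⟩ : ∃ l, l * x * l⁻¹ = k * a * k⁻¹ := by
      by_cases h : k * a * k⁻¹ ∈ zpowers x
      · rcases (mem_zpowers_three c.ord).1 h with e | e | e
        · simp [e] at h7
        · exact ⟨1, by simp [e]⟩
        · exact ⟨n, hn.trans e.symm⟩
      · obtain ⟨l, -, e⟩ := t1 _ _ p ⟨c.ord, h7, h6, h⟩
        exact ⟨l * g, by rw [← e]; group⟩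
    refine ⟨k⁻¹ * l, ?_⟩
    calc _ = k⁻¹ * (l * x * l⁻¹) * k := by group
      _ = _ := by rw [hl]; group
  let ζ : G → G := fun a => if h : ∃ k, k * x * k⁻¹ = a then h.choose * z * h.choose⁻¹ else 1
  have key : ∀ k, ζ (k * x * k⁻¹) = k * z * k⁻¹ := fun k => by
    have h : ∃ l, l * x * l⁻¹ = k * x * k⁻¹ := ⟨k, rfl⟩
    have h3 := h.choose_spec
    simp only [ζ, dif_pos h]
    generalize h.choose = l at h3
    have h4 : Commute (k⁻¹ * l) x := comm_of_conj (by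
      calc _ = k⁻¹ * (l * x * l⁻¹) * k := by group
        _ = _ := by rw [h3]; group)
    calc l * z * l⁻¹ = k * (k⁻¹ * l * z * (k⁻¹ * l)⁻¹) * k⁻¹ := by group
      _ = _ := by rw [conj_of_comm (c.zc _ h4.symm).symm]
  refine ⟨ζ, ⟨fun a ha => ?_, fun a k ha => ?_, fun a ha => ?_, fun a ha => ?_, fun a b a' b' q q' => ?_⟩,
    by simpa using key 1⟩
  · obtain ⟨k, rfl⟩ := t2 a ha
    exact key k ▸ c.fu_conj k
  · obtain ⟨l, rfl⟩ := t2 a ha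
    rw [show k * (l * x * l⁻¹) * k⁻¹ = k * l * x * (k * l)⁻¹ by group, key, key]; group
  · obtain ⟨l, rfl⟩ := t2 a ha
    rw [conj_inv, ← hn, show l * (n * x * n⁻¹) * l⁻¹ = l * n * x * (l * n)⁻¹ by group, key, key]
    conv_rhs => rw [← c.fu_norm hn]
    group
  · obtain ⟨l, rfl⟩ := t2 a ha
    exact ⟨_, p.conj l⟩
  · obtain ⟨l, rfl⟩ := t2 a q.a3
    obtain ⟨l', rfl⟩ := t2 a' q'.a3
    obtain ⟨k, h3, e⟩ := t1 (l⁻¹ * b * l) (l'⁻¹ * b' * l') (by simpa [mul_assoc] using q.conj l⁻¹)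
      (by simpa [mul_assoc] using q'.conj l'⁻¹)
    refine ⟨l' * k * l⁻¹, ?_, ?_⟩
    · calc _ = l' * (k * x * k⁻¹) * l'⁻¹ := by group
        _ = _ := by rw [conj_of_comm h3.symm]
    · calc _ = l' * (k * (l⁻¹ * b * l) * k⁻¹) * l'⁻¹ := by group
        _ = _ := by rw [e]; group

theorem exists_hyp (hf : ∃ g : G, Commute x (g * x * g⁻¹) ∧ g * x * g⁻¹ ∉ zpowers x) :
    (∃ ζ : G → G, Hyp ζ ∧ C6 ζ ∧ ζ x = z) ∨
      ∃ (K : Type u) (_ : Group K) (_ : Finite K) (ζ : K → K) (a b : K), Hyp ζ ∧ C3 ζ ∧ Pr a b := by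
  obtain ⟨ζ, h, hz⟩ := c.exists_hyp0 hf
  by_cases h6 : C6 ζ
  · exact .inl ⟨ζ, ⟨h, .inr h6⟩, h6, hz⟩
  obtain ⟨g, h1, h2⟩ := hf
  have p : Pr x (g * x * g⁻¹) := ⟨c.ord, (ord_conj g x).trans c.ord, h1, h2⟩
  have hg : g ∈ 𝐜[z] := by
    unfold C6 at h6
    push Not at h6
    obtain ⟨a, b, q, e⟩ := h6
    obtain ⟨k, e1, e2⟩ := h.trans a b _ _ q p
    rw [mem_c, ← hz]
    exact (comm_of_conj (by rw [← h.conj x g c.ord, ← e2, h.conj b k q.b3, ← e, ← h.conj a k q.a3, e1])).symm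
  have hL : 𝐜[x] ≤ 𝐜[z] := fun k hk => mem_c.2 (c.zc k (mem_c.1 hk))
  set z' : 𝐜[z] := ⟨z, mem_c.2 rfl⟩ with hz'
  have : (zpowers z').Normal := normal_of_top (norm_of_cent fun k _ => mem_cent.2 fun s hs =>
    (zp_comm (b := k) (Subtype.ext (mem_c.1 k.2).eq) hs).eq)
  have mz : ∀ k : 𝐜[z], k ∈ zpowers z' → (k : G) ∈ zpowers z := fun k ⟨n, hn⟩ => ⟨n, congrArg Subtype.val hn⟩
  set x' : 𝐜[z] := ⟨x, hL (mem_c.2 rfl)⟩ with hx'
  obtain ⟨φ', c'⟩ := c.fu_push ((QuotientGroup.mk' (zpowers z')).comp (inclusion hL)) (x' := (x' : 𝐜[z] ⧸ zpowers z'))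
    (z' := 1) rfl ((QuotientGroup.eq_one_iff _).2 (mem_zpowers z'))
    (fun k hk => mz _ ((QuotientGroup.eq_one_iff _).1 hk)) fun k hk => by
      obtain ⟨k, rfl⟩ := QuotientGroup.mk_surjective k
      have h3 : (x' * k * x'⁻¹ * k⁻¹ : 𝐜[z]) ∈ zpowers z' := (QuotientGroup.eq_one_iff _).1 (by
        rw [QuotientGroup.mk_mul, QuotientGroup.mk_mul, QuotientGroup.mk_mul, QuotientGroup.mk_inv, QuotientGroup.mk_inv,
          hk.eq]; group)
      refine ⟨⟨k, mem_c.2 (comm_of_conj ?_)⟩, rfl⟩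
      rcases (mem_zpowers_iff_of_sq c.zz).1 (mz _ h3) with e | e
      · exact mul_inv_eq_one.1 e
      · have h4 : x * k * x⁻¹ = k * z := by rw [← (mem_c.1 k.2).eq]; exact mul_inv_eq_iff_eq_mul.1 e
        exact h4.trans (mul_eq_left.2 (comm_of_three c.fa_cube c.zz c.za h4))
  set g' : 𝐜[z] ⧸ zpowers z' := ((⟨g, hg⟩ : 𝐜[z]) : 𝐜[z] ⧸ zpowers z') with hg'
  have f : Commute (x' : 𝐜[z] ⧸ zpowers z') (g' * x' * g'⁻¹) ∧ g' * x' * g'⁻¹ ∉ zpowers (x' : 𝐜[z] ⧸ zpowers z') := by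
    refine ⟨Commute.map (x := x') (y := (⟨g, hg⟩ : 𝐜[z]) * x' * (⟨g, hg⟩ : 𝐜[z])⁻¹) (Subtype.ext h1.eq)
      (QuotientGroup.mk' (zpowers z')), fun ⟨n, hn⟩ => h2 ?_⟩
    have h3 := mz _ (QuotientGroup.eq.1 (show ((x' ^ n : 𝐜[z]) : 𝐜[z] ⧸ zpowers z') = ↑(⟨g, hg⟩ * x' * ⟨g, hg⟩⁻¹ : 𝐜[z]) from hn))
    exact c.ker_three (k := 1) ((mul_mem_cancel_left (mem_sup_left (inv_mem (zpow_mem_zpowers x n)))).1 (mem_sup_right h3))
      p.b_cube
  obtain ⟨ζ', h', e⟩ := c'.exists_hyp0 ⟨g', f⟩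
  have p' : Pr _ _ := ⟨c'.ord, (ord_conj g' _).trans c'.ord, f.1, f.2⟩
  have h3 : C3 ζ' := fun a ha => by
    obtain ⟨b, q⟩ := h'.pair a ha
    obtain ⟨k, rfl, -⟩ := h'.trans _ _ a b p' q
    rw [h'.conj _ k c'.ord, e]; group
  exact .inr ⟨_, inferInstance, inferInstance, ζ', _, _, ⟨h', .inl h3⟩, h3, p'⟩

end Cov

end Cfsg.Agent.J3L
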