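import Mathlib
import Cfsg.Agent.J3L.Base
import Cfsg.Agent.J4T.Main
import Cfsg.Agent.Spor.ESDual

/-!
Tables in the centraliser of `z`.
-/

set_option autoImplicit false
set_option linter.unusedSectionVars false

namespace Cfsg.Agent.J3L

open Cfsg Cfsg.Agent.Spor Cfsg.Agent.Spor.MB Cfsg.Agent.Spor.J4C Cfsg.Agent.J4T Cfsg.Agent.J4T.VB Cfsg.Agent.J4T.NI
  Cfsg.Agent.Loc.Mss Subgroup

namespace JT

/-- The code of an element of order 3. -/
def cY : ℕ := nat_lit 0x1800801200700420130006a02f0118048006002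

/-- The letter that moves a vector towards the fixed vectors of `cY`. -/
def stY (a : ℕ) : ℕ := getP 4 15 (nat_lit 0x73685384358a8876a9651a71653286495a51a861489a37a198256986869793a9a28a137633254a6a7622647a86583826373518a576553343648a67a483244137366a355593668596a8738579aa38784783aa88aa3aa6a88794697559a824994949825f89798342978973924827f75849f8392a238429458972a495748a34a42f39269477299222a929a22a29a2aa5679a6a926727446199926742724a944a112a9638a51559a44798a126379762a114452799711283a2a932886a644979634a839799536969515691653731961473393a36996935731aa7a353471719994333339879577357a8639497383596a13659744893475a839589763aa58aaa69953435456951a28817a97627a9aaaaaa4aa9a8963937a782871a9611667298a64997625796a5a7933885522656279915682484958876398566588796448543284a3972386542a416a8879aa39aa3a443a18a2a876366186a14579987aa964a91a98a923299425542284966888822959595a28195595326826255939645685a8244152457984616a2343595773816816aa6a7a598668852459899a19a162846a74744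7a6aa6a739aa6aa59651aaaaa63a7aa27a11a46664a3645333344979a9794124448686478a8327667a1218585a3538a83a81a67aaaaa7685a627457463533411726a6a132329363894a4594a7454885a65981a74a47415687898a9813776a32a1a3a6494aa3a73712a6326a8127a35749379a164a688687a991a49187899a8a39aa61aaaa816aa9aa378a825696831a79599a8871455288777a69a68481663759a769759616252144a683829695485869aa6a93a3574945858589255194743927228895498468962984928266991426894295429232294986689922a4923411429789334883a38477aa85aa363aaa88aa58353895662aa986577489a446599458a7115a6296a5648576a16a4aa35a3a263899533a967873a6976869878295aa99736a8581627287568a13627573353333a71a323528aa268a776432a4484a114724989f27948387597393428983f95749f859489398422947589473844279432f3749746a6a1339936593755156a9a75a53566715973956191731699453743337a2995aaa9aa2675a672a4476572999124799211192762a19725a99a4677412224769628aa282841261a1832387596927a583592a99aa474968265967a6283a383569a193974359684735837249299957279957349837638a7a266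989396a3423258235a31a71a8667a6a8a2387aa886a576883a2864866777456533327641147a7996a17876aa76a7855452998569918458999885849384a2764a76488114477aaaa3967476a92a46146a346a6aa5343a779aa57aaaaa5a97a9a79143434941747977498a476295674a174499851685413a92838744638698793762a9892aa34328a752916219263925a419558aa7749286a98aa76494187945717866a68a34835716a99996373aa716573953377a15946171263a7399333999437547314333347265259726291531aa222967643a627aa2aaa9222a9956a6a9472642a7414173a89884973929287732483977987386916a37493a83996584869a63aa973433359875798187386583a93755956a858855976422876a9182a59a1679455849a47a8617a8963617459643a82666a457889345a96393a2aa137129479871a94a48927885893783a871785815543925a8781aaa4a68aaaaa2aaa68a41666667949392989419839425829244222392945984659899692282869492a24239484649412276553757183733323458a2a713664aa584a2762864a7516583a888a46746117a3a6aa3a788a8a8a6932646a285598a638887a93782943872a266849568a929994aa25aa5a95a376335369a888397a36a6526a7571a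1486a38575985889aa93838493f89a27879598993849385f99427f279489399287589387437948954928f44a6a46a64263a53aaa3aa997aa97aa9a657164aaa4a2a499174a33a99744137aa677a85767a86aa3a82a488884867675a332718282288aa33547624a27654674249859686759a9a2613745958498439aa6a7583691a76aa76a4518186244747447285959864a564932364698a12a23a443847a54847a825678a78942983a32425a634636443835211881a69a6a89999583689989849831599996984689411111a1aa8aa93aaaaaa6aa7788629877a714659a6666a8998962399a9677a94a38978846a99a88a9996953133874538778aa5aa88aaa883aa8a619911a478663a595a62a13844735a785a55738848445aa65a15a784a822a5a854aaa28aa26a5a51313783445371786a7a8a88aa56aaa8a33a69a7aa389499951a16867719699518a6a96a48811399999565845953565185465345633856a5859864896415551111887aaa878a6a87716691a46955498996a2aa3aaaa1aaaaa32aa4a244652438a738788433a555785672a232a7a1555aa818a88743565672a828a323aa1a5a1555a669565989669986a93a11aaaa8aaa2982a786278786778197a4a2348a978a37898a7aaaa8aa8aa81aaa698492599993245137117337877667839617a6165a39418935a6469119159643893961435868a868811199a999999594444486841111278715555a78a758748665675a188a8517875818874875766a2a551a8a2855a53aa35387a11388864aa58337aaa6a6a85a47876583372666571a3766563168833a82a3a6aa556aa876551327a4286656315711a3aa331886533463847154a853256742a2687588661a53a37345378516aaa6a5a5a85aaa683863157a537485a32aaaafa1aaa3135aaaa3a24aaaf15a3af1aa4aa34a2a35aa4aa4a4a4aa54111f)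 (Nat.land a 4095)

/-- The vector reaches a fixed vector in at most `n` steps. -/
noncomputable def redY (n : ℕ) : ℕ → Bool :=
  Nat.rec (fun _ => false) (fun _ ih a => Spor.force (stY a) fun k => bor (band (Nat.beq k 15) (Nat.beq (app cY a) a))
    (band (blt k 11) (Spor.force (app (cL k) a) ih))) n

theorem redY_ok : allRange 0 8192 (redY 7) = true := by decide +kernel

theorem six_ok : allRange 0 8192 (fun a => bor (!Nat.beq (Nat.land (qmul a (app (cL 6) a)) 4095) 0)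
    (Spor.force (cj3 (cL 6) (app (nat_lit 0x6001001a00600280280) a) a) fun x => Nat.beq (app cY x) x)) = true := by
  decide +kernel

/-- Powers of codes. -/
noncomputable def apw (c n : ℕ) : ℕ := Nat.rec aid (fun _ ih => amul ih c) n

theorem fix7 : allRange 0 8192 (fun a => bor (!Nat.beq (app (nat_lit 0x67ba264db6dad46d92b4e6c92d67f91a9990444) a) a)
    (bor (Nat.beq a 0) (Nat.beq a 4096))) = true := by decide +kernel

theorem fix11 : allRange 0 8192 (fun a => bor (!Nat.beq (app (nat_lit 0x67ba265b5ab76840c10ac09b0c67d91999ba47b) a) a)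
    (decide (a ∈ ({0, 1841, 2339, 3602, 4096, 5937, 6435, 7698} : Finset ℕ)))) = true := by decide +kernel

variable {G : Type*} [Group G] [Finite G] {z : G} {g l : ℕ → G} {π : 𝐜[z] →* PG} (s : StX z π g l)
include s

theorem rp_pow {x : G} {c : ℕ} (hx : Rp z g x c) (n : ℕ) : Rp z g (x ^ n) (apw c n) := by
  induction n with
  | zero => rw [pow_zero]; exact s.q.rp_one
  | succ n ih => rw [pow_succ]; exact s.q.rp_mul ih hx

theorem mem_D (t : 𝐜[z]) : π t ∈ D22 := s.st.range ▸ ⟨t, rfl⟩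

theorem mem_iff {t : 𝐜[z]} {c : ℕ} (h : Pc π t c) : π t ∈ Spor.M22 ↔ ap c 23 = 23 := by
  obtain ⟨_, rfl⟩ := h
  have e0 : ix none = 23 := by decide +kernel
  rw [← e0, ap_code_ix, HypA.mem_M22]
  obtain ⟨h1, ⟨h2, h3⟩ | ⟨h2, h3⟩⟩ := HypA.mem_D22.1 (mem_D s t)
  · rw [h2]; exact iff_of_true ⟨h1, rfl, h3⟩ rfl
  · rw [h2]; exact iff_of_false (fun k => by simp at k) (by decide +kernel)

/-- An element of odd order from a word. -/
theorem exists_odd {w : List ℕ} {r c : ℕ} (hr : Odd r)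
    (h : band (lettersLt 11 w) (band (Nat.beq (aev cL w) c) (Nat.beq (apw c r) aid)) = true) :
    ∃ y : G, (y = evalW l w ∨ y = evalW l w * z) ∧ y ^ r = 1 ∧ Rp z g y c ∧ Pc π y (pev w) := by
  rw [band_iff, band_iff, nbeq_iff, nbeq_iff] at h
  obtain ⟨h1, rfl, h3⟩ := h
  have h4 := VB.rw s h1
  rcases s.st.rp_eq_one_or s.q (h3 ▸ rp_pow s h4 r) with e | e
  · exact ⟨_, .inl rfl, e, h4, pc_w s h1⟩
  · refine ⟨_, .inr rfl, ?_, s.q.rp_mul_z h4, h4.1 ▸ pc_Q_mul s s.q.z_mem (pc_w s h1)⟩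
    obtain ⟨m, rfl⟩ := hr
    rw [Commute.mul_pow h4.1, e, pow_succ, pow_mul, sq, s.q.z_sq, one_pow, one_mul, s.q.z_sq]

theorem comm_of_code {x y : G} {a b : ℕ} (hx : Rp z g x a) (hy : Rp z g y b) (h3 : y ^ 3 = 1)
    (e : amul b a = amul a b) : Commute y x := by
  rcases s.st.rp_eq_or s.q (s.q.rp_mul hx hy) (e ▸ s.q.rp_mul hy hx) with k | k
  · exact k
  · refine absurd (comm_of_three (s := x) h3 s.q.z_sq hy.1 ?_) s.q.z_ne
    rw [k, mul_assoc x, hy.1]; group

theorem exists_y : ∃ y : G, (y = l 4 * l 5 ∨ y = l 4 * l 5 * z) ∧ orderOf y = 3 ∧ Rp z g y cY ∧ Pc π y (pev [4, 5]) := by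
  obtain ⟨y, h1, h2, h3, h4⟩ := exists_odd s (w := [4, 5]) (r := 3) (c := cY) (by decide) (by decide +kernel)
  refine ⟨y, by simpa only [evalW_cons, evalW_nil, mul_one] using h1, orderOf_eq_prime h2 fun e => ?_, h3, h4⟩
  exact absurd (s.q.rp_unique h3 (e ▸ s.q.rp_one)) (by decide +kernel)

omit s in
theorem conj_back {x t : G} (hx : x * z = z * x) (h : ∃ a : G, Commute z a ∧ orderOf a = 3 ∧ Commute a (x * t * x⁻¹)) :
    ∃ a : G, Commute z a ∧ orderOf a = 3 ∧ Commute a t := by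
  obtain ⟨a, h1, h2, h3⟩ := h
  have h4 : Commute z x := hx.symm
  refine ⟨x⁻¹ * a * x⁻¹⁻¹, (h4.inv_right.mul_right h1).mul_right h4.inv_right.inv_right, (ord_conj _ _).trans h2, ?_⟩
  have := comm_conj h3 x⁻¹
  rwa [show x⁻¹ * (x * t * x⁻¹) * x⁻¹⁻¹ = t by group] at this

theorem inner_Q {q : G} (hq : q ∈ QG g) : ∃ a : G, Commute z a ∧ orderOf a = 3 ∧ Commute a q := by
  obtain ⟨y, -, y3, hy, -⟩ := exists_y s
  have key : ∀ n, ∀ a < 8192, redY n a = true → ∃ b : G, Commute z b ∧ orderOf b = 3 ∧ Commute b (qv z g a) := by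
    intro n
    induction n with
    | zero => exact fun a _ h => absurd h Bool.false_ne_true
    | succ n ih =>
      intro a ha h
      have h1 : bor (band (Nat.beq (stY a) 15) (Nat.beq (app cY a) a))
        (band (blt (stY a) 11) (redY n (app (cL (stY a)) a))) = true := h
      rw [bor_iff, band_iff, band_iff, blt_iff, nbeq_iff, nbeq_iff] at h1
      rcases h1 with ⟨-, h1⟩ | ⟨h1, h3⟩
      · exact ⟨y, hy.1.symm, y3, mul_inv_eq_iff_eq_mul.1 (by rw [s.q.rp_app hy ha, h1])⟩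
      · refine conj_back (lz s h1) ?_
        rw [s.q.rp_app (s.rp _ h1) ha]
        exact ih _ (app_lt _ _) h3
  obtain ⟨a, ha, rfl⟩ := s.q.mem_QG.1 hq
  exact key 7 a ha (allRange_zero redY_ok a ha)

theorem inner_six {a : ℕ} (ha : a < 8192) (h : qv z g a * l 6 * (qv z g a * l 6) = 1 ∨
    qv z g a * l 6 * (qv z g a * l 6) = z) : ∃ b : G, Commute z b ∧ orderOf b = 3 ∧ Commute b (qv z g a * l 6) := by
  obtain ⟨y, -, y3, hy, -⟩ := exists_y s
  have hr := s.rp 6 (by norm_num)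
  have e3 : l 6 * l 6 = 1 := s.vg_sq (i := 6) (by norm_num)
  have h1 : qv z g (qmul a (app (cL 6) a)) = qv z g a * l 6 * (qv z g a * l 6) := by
    rw [s.q.qv_mul ha (app_lt _ _), ← s.q.rp_app hr ha, inv_eq_of_mul_eq_one_right e3]; group
  have h2 : Nat.land (qmul a (app (cL 6) a)) 4095 = 0 := by
    rcases h with e | e <;> rw [e] at h1
    · rw [s.q.qv_inj (qmul_lt ha (app_lt _ _)) (by norm_num) (h1.trans s.q.qv_zero.symm)]; rfl
    · rw [s.q.qv_inj (qmul_lt ha (app_lt _ _)) (by norm_num) (h1.trans s.q.qv_z.symm)]; rfl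
  have h3 := allRange_zero six_ok a ha
  rw [h2, Spor.force_eq, bor_iff, nbeq_iff] at h3
  have h4 := h3.resolve_left (by decide)
  refine conj_back (s.q.z_qv (app (nat_lit 0x6001001a00600280280) a)).symm ⟨y, hy.1.symm, y3, ?_⟩
  rw [conj_cj3 s.q hr (app_lt _ _) ha]
  refine Commute.mul_right (mul_inv_eq_iff_eq_mul.1 ?_)
    (comm_of_code s hr hy (y3 ▸ pow_orderOf_eq_one y) (by decide +kernel))
  exact (s.q.rp_app hy (qmul_lt (qmul_lt (app_lt _ _) ha) (app_lt _ _))).trans (congrArg _ h4)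

theorem comm_two {i j : ℕ} (h : 1 ≤ i ∧ i < 6 ∧ 1 ≤ j ∧ j < 6) : Commute (l 0) (l i * l j) := by
  refine (mul_inv_eq_iff_eq_mul.1 ?_).symm
  rw [show l i * l j * l 0 * (l i * l j)⁻¹ = l i * (l j * l 0 * (l j)⁻¹) * (l i)⁻¹ by group,
    l0_inv s h.2.2.1 h.2.2.2, ← conj_inv, l0_inv s h.1 h.2.1, inv_inv]

theorem fix_code {x q : G} {c : ℕ} (hx : Rp z g x c) (hq : q ∈ QG g) (h : x * q = q * x) :
    ∃ a < 8192, qv z g a = q ∧ app c a = a := by
  obtain ⟨a, ha, rfl⟩ := s.q.mem_QG.1 hq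
  exact ⟨a, ha, rfl, s.q.qv_inj (app_lt _ _) ha (by rw [← s.q.rp_app hx ha, h, mul_inv_cancel_right])⟩

end JT

open JT

variable {G : Type*} [Group G] [Finite G] {z : G} {g l : ℕ → G} {π : 𝐜[z] →* PG} (s : StX z π g l)
include s

theorem jt_inner {t : 𝐜[z]} (h1 : π t ∈ Spor.M22) (h2 : (t : G) * t = 1 ∨ (t : G) * t = z) :
    ∃ a : G, Commute z a ∧ orderOf a = 3 ∧ Commute a t := by
  have hS : Inv.Fz.IsSylIn 2 (TG g l) 𝐜[z] :=
    ⟨s.T_le_A.trans inf_le_left, s.syl_T.2.1, fun Q hQ _ h => s.syl_T.2.2 Q hQ le_top h⟩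
  have sq : ∀ x : G, x * z = z * x → x * t * x⁻¹ * (x * t * x⁻¹) = 1 ∨ x * t * x⁻¹ * (x * t * x⁻¹) = z := fun x hx => by
    rw [conj_mul]
    exact h2.imp (fun e => by rw [e]; group) fun e => by rw [e, hx, mul_inv_cancel_right]
  obtain ⟨x, hx, h3⟩ := Rec.exists_conj_mem_syl hS t.2 (k := 2) (by
    rw [show 2 ^ 2 = 2 * 2 from rfl, pow_mul, pow_two (t : G)]
    rcases h2 with e | e <;> rw [e]
    exacts [one_pow 2, (pow_two z).trans s.q.z_sq])
  obtain ⟨q, hq, u, j, hj, hu, e⟩ := s.ni_T h3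
  have hx := mem_centralizer_singleton_iff.1 hx
  obtain ⟨b, hb, h7⟩ := (s.st.rp_mem_iff s.q (s.q.rp_mul hu hu)).1 (by
    have k := mul_mem hq (s.st.nQ u hu.1 q hq)
    have k2 : x * t * x⁻¹ * (x * t * x⁻¹) ∈ QG g := by
      rcases sq x hx with f | f <;> rw [f]
      exacts [one_mem _, s.q.z_mem]
    rwa [e, show q * u * (q * u) = q * (u * q * u⁻¹) * (u * u) by group, mul_mem_cancel_left k] at k2)
  rcases tL_inv j hj (h7 ▸ lin_inn b hb) with e1 | ⟨k, hk, w, hw, e1⟩
  · refine conj_back hx (inner_Q s ?_)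
    rcases s.st.rp_eq_one_or s.q (e1 ▸ hu) with e2 | e2 <;> rw [e, e2]
    exacts [mul_mem hq (one_mem _), mul_mem hq s.q.z_mem]
  have hW := s.q.rp_word s.rp hw
  generalize evalW l w = W at hW
  have hy : W * x * z = z * (W * x) := by rw [mul_assoc, hx, ← mul_assoc, hW.1, mul_assoc]
  have nf : ∀ r, Rp z g r (rep k) → ∃ a < 8192, W * x * t * (W * x)⁻¹ = qv z g a * r := fun r hr => by
    have e2 : W * x * t * (W * x)⁻¹ = W * q * W⁻¹ * (W * u * W⁻¹) := by
      calc _ = W * (x * t * x⁻¹) * W⁻¹ := by group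
        _ = _ := by rw [e]; group
    have h8 := s.st.nQ W hW.1 q hq
    rcases s.st.rp_eq_or s.q (s.q.rp_mul hr hW) (e1 ▸ s.q.rp_mul hW hu) with e3 | e3
    · obtain ⟨a, ha, e4⟩ := s.q.mem_QG.1 h8
      exact ⟨a, ha, by rw [e2, e3, e4, mul_inv_cancel_right]⟩
    · obtain ⟨a, ha, e4⟩ := s.q.mem_QG.1 (mul_mem h8 s.q.z_mem)
      exact ⟨a, ha, by rw [e2, e3, e4, mul_assoc r, hW.1, ← mul_assoc r, mul_inv_cancel_right, hr.1, ← mul_assoc]⟩
  have out : ∀ r c, Rp z g r (rep k) → Pc π r c → ap c 23 = 23 := fun r c hr hc => by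
    obtain ⟨a, -, e2⟩ := nf r hr
    let v : 𝐜[z] := ⟨W * x, mem_centralizer_singleton_iff.2 hy⟩
    refine (mem_iff s (t := v * t * v⁻¹) (e2 ▸ pc_Q_mul s (s.q.qv_mem a) hc :
      Pc π (W * x * t * (W * x)⁻¹) c)).1 ?_
    rw [map_mul, map_mul, map_inv]
    exact HypA.conj_mem (mem_D s v) h1
  interval_cases k
  · obtain ⟨a, ha, e2⟩ := nf (l 6) (s.rp 6 (by norm_num))
    exact conj_back hy (e2 ▸ inner_six s ha (e2 ▸ sq _ hy))
  · exact absurd (out _ _ (s.rp 1 (by norm_num)) (pc_l s (by norm_num))) (by decide +kernel)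
  · exact absurd (out _ _ (c2C_eq ▸ s.q.rp_mul (s.rp 8 (by norm_num)) (s.rp 1 (by norm_num)))
      ((pc_l s (by norm_num)).mul (pc_l s (by norm_num)))) (by decide +kernel)

theorem jt_outer : ∃ t : 𝐜[z], π t ∉ Spor.M22 ∧ ((t : G) * t = 1 ∨ (t : G) * t = z) ∧
    ∃ a : G, Commute z a ∧ orderOf a = 3 ∧ Commute a t := by
  obtain ⟨y, -, y3, hy, -⟩ := exists_y s
  have hr := s.rp 1 (by norm_num)
  refine ⟨⟨l 1, lH s (by norm_num)⟩, ?_, s.st.rp_eq_one_or s.q (rep_sq.1 ▸ s.q.rp_mul hr hr), y, hy.1.symm, y3,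
    comm_of_code s hr hy (y3 ▸ pow_orderOf_eq_one y) (by decide +kernel)⟩
  rw [mem_iff s (pc_l s (by norm_num))]
  decide +kernel

theorem jt_y : ∃ y : 𝐜[z], π y ∈ Spor.M22 ∧ Pr (l 0) y ∧ (y : G) ∈ 𝐍[VG z g l] := by
  obtain ⟨y, h1, y3, hy, h2⟩ := exists_y s
  have h3 := comm_two s (i := 4) (j := 5) (by norm_num)
  refine ⟨⟨y, h2.1⟩, (mem_iff s (t := ⟨y, h2.1⟩) h2).2 (by decide +kernel), ⟨s.st.p3, y3, ?_, fun k => ?_⟩,
    s.norm_of_rp hy (by decide +kernel)⟩
  · rcases h1 with rfl | rfl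
    exacts [h3, h3.mul_right s.st.pH]
  · exact absurd (h2.unique ((pc_iff s).2 (mem_sup_right k))) (by decide +kernel)

theorem jt_cx (t : 𝐜[z]) : (π t ∈ Spor.M22 → (t : G) * l 0 * (t : G)⁻¹ * (l 0)⁻¹ ∈ QG g) ∧
    (π t ∉ Spor.M22 → (t : G) * l 0 * (t : G)⁻¹ * l 0 ∈ QG g) := by
  have : ((QG g).subgroupOf 𝐜[z]).Normal :=
    ⟨fun q hq x => s.st.nQ x (mem_centralizer_singleton_iff.1 x.2) q hq⟩
  set f := QuotientGroup.mk' ((QG g).subgroupOf 𝐜[z]) with hf
  have hf1 : ∀ x : 𝐜[z], f x = 1 ↔ (x : G) ∈ QG g := fun x => QuotientGroup.eq_one_iff x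
  set p : 𝐜[z] := ⟨l 0, lH s (by norm_num)⟩ with hp
  have hm : ∀ a b : 𝐜[z], π (a * b) ∈ Spor.M22 ↔ (π a ∈ Spor.M22 ↔ π b ∈ Spor.M22) := fun a b => by
    rw [map_mul]
    exact mul_mem_iff_of_index_two (H := Spor.M22.subgroupOf D22) HypA.relIndex_M22 (a := ⟨_, mem_D s a⟩)
      (b := ⟨_, mem_D s b⟩)
  let S : Subgroup 𝐜[z] :=
    { carrier := {t | (π t ∈ Spor.M22 ∧ f t * f p * (f t)⁻¹ = f p) ∨ (π t ∉ Spor.M22 ∧ f t * f p * (f t)⁻¹ = (f p)⁻¹)}
      mul_mem' := fun {a b} ha hb => by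
        have e : f (a * b) * f p * (f (a * b))⁻¹ = f a * (f b * f p * (f b)⁻¹) * (f a)⁻¹ := by rw [map_mul]; group
        rcases ha with ⟨a1, a2⟩ | ⟨a1, a2⟩ <;> rcases hb with ⟨b1, b2⟩ | ⟨b1, b2⟩
        · exact .inl ⟨(hm a b).2 (iff_of_true a1 b1), by rw [e, b2, a2]⟩
        · exact .inr ⟨fun k => b1 (((hm a b).1 k).1 a1), by rw [e, b2, ← conj_inv, a2]⟩
        · exact .inr ⟨fun k => a1 (((hm a b).1 k).2 b1), by rw [e, b2, a2]⟩
        · exact .inl ⟨(hm a b).2 (iff_of_false a1 b1), by rw [e, b2, ← conj_inv, a2, inv_inv]⟩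
      one_mem' := .inl ⟨by rw [map_one]; exact one_mem _, by simp⟩
      inv_mem' := fun {a} ha => by
        rcases ha with ⟨a1, a2⟩ | ⟨a1, a2⟩
        · exact .inl ⟨by rwa [map_inv, inv_mem_iff], by
            rw [map_inv]; nth_rw 1 [← a2]; group⟩
        · exact .inr ⟨by rwa [map_inv, inv_mem_iff], by
            have a3 : f a * (f p)⁻¹ * (f a)⁻¹ = f p := by rw [← conj_inv, a2, inv_inv]
            rw [map_inv]; nth_rw 1 [← a3]; group⟩ }
  have h1 : 𝐜[z] ≤ S.map (Subgroup.subtype _) := s.gen.le.trans (sup_le (fun q hq => ⟨⟨q, Q_le s hq⟩, .inl ⟨by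
      rw [(s.st.ker _).2 (mem_sup_left hq)]; exact one_mem _, by rw [(hf1 _).2 hq]; group⟩, rfl⟩)
    (genLt_le fun i hi => ⟨⟨l i, lH s hi⟩, by
      have k : ∀ i < 11, (ap (pL i) 23 = 23 ↔ i = 0 ∨ 6 ≤ i) := by decide +kernel
      have k1 := (mem_iff s (t := ⟨l i, lH s hi⟩) (pc_l s hi)).trans (k i hi)
      by_cases h : i = 0 ∨ 6 ≤ i
      · refine .inl ⟨k1.2 h, ?_⟩
        rw [← map_inv, ← map_mul, ← map_mul]
        refine congrArg f (Subtype.ext (mul_inv_eq_iff_eq_mul.2 ?_))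
        rcases h with rfl | h
        exacts [rfl, l0_comm s h hi]
      · refine .inr ⟨mt k1.1 h, ?_⟩
        rw [← map_inv, ← map_inv, ← map_mul, ← map_mul]
        exact congrArg f (Subtype.ext (l0_inv s (by omega) (by omega))), rfl⟩))
  obtain ⟨t', ht, e⟩ := h1 t.2
  obtain rfl : t' = t := Subtype.ext e
  rcases ht with ⟨a1, a2⟩ | ⟨a1, a2⟩
  · exact ⟨fun _ => (hf1 (t' * p * t'⁻¹ * p⁻¹)).1 (by
      rw [map_mul, map_mul, map_mul, map_inv, map_inv, a2, mul_inv_cancel]), fun k => absurd a1 k⟩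
  · exact ⟨fun k => absurd k a1, fun _ => (hf1 (t' * p * t'⁻¹ * p)).1 (by
      rw [map_mul, map_mul, map_mul, map_inv, a2, inv_mul_cancel])⟩

theorem jt_cF {t : G} (h1 : Commute z t) (h2 : ∀ f ∈ VG z g l, t * f * t⁻¹ * f⁻¹ ∈ QG g) :
    t ∈ QG g ⊔ VG z g l ⊔ zpowers (l 0) := by
  have h3 : ∀ j < 4, Pc π (t * l (6 + j) * t⁻¹) (pL (6 + j)) := fun j hj => by
    have := pc_Q_mul s (h2 _ (l_mem (k := 6 + j) (by omega) (by omega))) (pc_l s (i := 6 + j) (by omega))
    rwa [inv_mul_cancel_right] at this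
  have hA : t ∈ QG g ⊔ genLt l 10 := by
    obtain ⟨i, hi, y, hy, rfl⟩ := cover_H s h1.eq.symm
    rcases Nat.eq_zero_or_pos i with rfl | h0
    · rwa [show evalW l (rr 0) = 1 from rfl, one_mul]
    exfalso
    obtain ⟨c, hc, e1⟩ := (mem_VG s).1 ((mem_normalizer_iff.1 (A_le_norm s hy) _).1 (l_mem (k := 6) le_rfl (by norm_num)))
    have h4 : c / 64 % 16 ≠ 0 := fun k => by
      have k1 := s.st.nQ y⁻¹ (mem_centralizer_singleton_iff.1 (inv_mem (A_le s hy))) _ ((vv_mem_Q s hc).2 k)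
      rw [e1, show y⁻¹ * (y * l 6 * y⁻¹) * y⁻¹⁻¹ = l 6 by group] at k1
      exact absurd ((pc_Q s k1).unique (pc_l s (by norm_num))) (by decide +kernel)
    have h5 := allRange_spec rr_U i h0 (by omega)
    rw [Spor.force_eq, Spor.force_eq] at h5
    have h6 := allRange_spec h5 (c / 64 % 16) (by omega) (by omega)
    rw [Spor.force_eq, allLt_iff] at h6
    have h7 := h6 1 (by norm_num)
    have e2 : evalW l (rr i) * y * l (6 + 0) * (evalW l (rr i) * y)⁻¹ =
        evalW l (rr i) * vv z g l c * (evalW l (rr i))⁻¹ := by rw [e1]; group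
    rw [(((pc_w s (rr_lt i hi)).mul (pc_vv s hc)).mul (pc_w s (rr_lt i hi)).inv).unique (e2 ▸ h3 0 (by norm_num))] at h7
    exact absurd h7 (by decide +kernel)
  have h4 := (bsgs_enumC ptD (gens_A s) _ _ sg_ok (cover_bar s).1.le).forall sg_cent _
    (mem_map_of_mem π (x := ⟨t, A_le s hA⟩) hA)
  have h5 : Pc π t (code (π ⟨t, A_le s hA⟩)) := ⟨_, rfl⟩
  rw [(allLt_iff _ _).2 fun j hj => (nbeq_iff _ _).2 ((h5.mul (pc_l s (by omega))).unique (by
    have := (h3 j hj).mul h5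
    rwa [inv_mul_cancel_right] at this))] at h4
  obtain ⟨u, hu, e⟩ : ∃ u < 16, code (π ⟨t, A_le s hA⟩) = pev (uw u) := by
    by_contra h
    rw [(allLt_iff _ _).2 fun u hu => by
      rw [Bool.not_eq_true', ← Bool.not_eq_true, nbeq_iff]; exact fun e => h ⟨u, hu, e⟩] at h4
    exact absurd h4 (by decide)
  have h6 : Pc π (vv z g l (64 * u)) (code (π ⟨t, A_le s hA⟩)) := by
    have h7 := pc_vv s (a := 64 * u) (by omega)
    rwa [show 64 * u / 64 % 16 = u by omega, ← e] at h7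
  have h7 := h5.mul h6.inv
  rw [← code_inv, ← code_mul, mul_inv_cancel, code_one, pc_iff s] at h7
  exact (mul_mem_cancel_right (inv_mem (mem_sup_left (mem_sup_right (vv_mem (64 * u)))))).1
    ((sup_le_sup_right le_sup_left _ : QG g ⊔ zpowers (l 0) ≤ _) h7)

theorem jt_irr {N : Subgroup G} (h1 : z ∈ N) (h2 : N ≤ QG g) (h3 : ∀ t : 𝐜[z], π t ∈ Spor.M22 → (t : G) ∈ 𝐍[N]) :
    N = zpowers z ∨ N = QG g := by
  obtain ⟨m, hm, e⟩ := (Nat.dvd_prime_pow Nat.prime_two).1 (s.q.card_QG ▸ card_dvd_of_le h2)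
  have hN : (N : Set G).ncard = 2 ^ m := by rw [← e, ← Nat.card_coe_set_eq]; rfl
  have hn : ∀ x c, Pc π x c → ap c 23 = 23 → ∀ n ∈ (N : Set G), x * n * x⁻¹ ∈ (N : Set G) := fun x c hx k n hn =>
    conj_mem_of_norm (h3 ⟨x, hx.1⟩ ((mem_iff s (t := ⟨x, hx.1⟩) hx).2 k)) hn
  have two : ∀ x : G, x * z = z * x → (∀ q ∈ QG g, x * q = q * x → q = 1 ∨ q = z) →
      {n | n ∈ (N : Set G) ∧ x * n = n * x}.ncard = 2 := fun x hx k => by
    rw [← Set.ncard_pair s.q.z_ne.symm]
    refine congrArg _ (Set.ext fun n => ⟨fun h => k n (h2 h.1) h.2, ?_⟩)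
    rintro (rfl | rfl)
    exacts [⟨one_mem N, by simp⟩, ⟨h1, hx⟩]
  have k3 := HypB.ncard_modEq Nat.prime_three (p3 s) (hn _ _ (pc_l s (i := 0) (by norm_num)) (by decide +kernel))
  rw [two _ s.st.pH s.st.fpf, hN] at k3
  obtain ⟨b, -, b7, hb, pb⟩ := exists_odd s (w := [1, 3, 7, 10]) (r := 7) (c := nat_lit 0x67ba264db6dad46d92b4e6c92d67f91a9990444) (by decide)
    (by decide +kernel)
  have k7 := HypB.ncard_modEq (by norm_num) b7 (hn _ _ pb (by decide +kernel))
  rw [two _ hb.1 fun q hq k => by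
    obtain ⟨a, ha, rfl, k1⟩ := fix_code s hb hq k
    have k2 := allRange_zero fix7 a ha
    rw [k1, bor_iff, bor_iff, nbeq_iff, nbeq_iff] at k2
    rcases k2.resolve_left (by simp) with rfl | rfl
    exacts [.inl s.q.qv_zero, .inr s.q.qv_z], hN] at k7
  have k : m = 1 ∨ m = 7 ∨ m = 13 := by
    interval_cases m <;> simp [Nat.ModEq] at k3 k7 ⊢
  rcases k with rfl | rfl | rfl
  · refine .inl (eq_of_le_of_card_ge (zpowers_le.2 h1) ?_).symm
    rw [e, Nat.card_zpowers, s.q.es2.orderOf_z]; rfl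
  · exfalso
    obtain ⟨a, -, a11, ha, pa⟩ := exists_odd s (w := [1, 2, 8, 10]) (r := 11) (c := nat_lit 0x67ba265b5ab76840c10ac09b0c67d91999ba47b) (by decide)
      (by decide +kernel)
    have k11 := HypB.ncard_modEq (by norm_num) a11 (hn _ _ pa (by decide +kernel))
    have e1 : {n | n ∈ (N : Set G) ∧ a * n = n * a}.ncard = Nat.card ↥(N ⊓ 𝐜[a]) := by
      rw [← Nat.card_coe_set_eq]
      exact Nat.card_congr (Equiv.subtypeEquivRight fun n => and_congr_right fun _ => mem_c.symm)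
    have e2 : {n | n ∈ (N : Set G) ∧ a * n = n * a}.ncard ≤ 8 := by
      classical
      refine (Set.ncard_le_ncard (t := ↑(({0, 1841, 2339, 3602, 4096, 5937, 6435, 7698} : Finset ℕ).image (qv z g)))
        (fun n h => ?_)).trans ?_
      · obtain ⟨c, hc, rfl, k1⟩ := fix_code s ha (h2 h.1) h.2
        have k2 := allRange_zero fix11 c hc
        rw [k1, bor_iff] at k2
        exact Finset.mem_coe.2 (Finset.mem_image_of_mem _ (of_decide_eq_true (k2.resolve_left (by simp))))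
      · rw [Set.ncard_coe_finset]
        exact Finset.card_image_le.trans (by decide)
    have e3 : Nat.card ↥(N ⊓ 𝐜[a]) ∣ 2 ^ 7 := e ▸ card_dvd_of_le inf_le_left
    rw [hN, e1] at k11
    rw [e1] at e2
    generalize Nat.card ↥(N ⊓ 𝐜[a]) = n at *
    interval_cases n <;> simp [Nat.ModEq] at k11 e3
  · exact .inr (eq_of_le_of_card_ge h2 (by rw [e, s.q.card_QG]))

theorem jt_perf : ∃ u v : 𝐜[z], π u ∈ Spor.M22 ∧ π v ∈ Spor.M22 ∧
    (u : G) * v * (u : G)⁻¹ * (v : G)⁻¹ * l 0 ∈ QG g := by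
  have h1 := (pc_l s (i := 1) (by norm_num)).mul (pc_l s (i := 2) (by norm_num))
  have h2 := (pc_l s (i := 4) (by norm_num)).mul (pc_l s (i := 5) (by norm_num))
  refine ⟨⟨_, h1.1⟩, ⟨_, h2.1⟩, (mem_iff s (t := ⟨_, h1.1⟩) h1).2 (by decide +kernel),
    (mem_iff s (t := ⟨_, h2.1⟩) h2).2 (by decide +kernel), ?_⟩
  have h3 := comm_two s (i := 1) (j := 2) (by norm_num)
  have h4 := comm_two s (i := 4) (j := 5) (by norm_num)
  have h5 := eq_or s (v := [4, 5, 1, 2]) (w := [0, 1, 2, 4, 5]) (by decide +kernel)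
  simp only [evalW_cons, evalW_nil, mul_one] at h5
  have h6 : Commute z (l 4 * l 5 * (l 1 * l 2)) := mem_c.1 (mul_mem h2.1 h1.1)
  change l 1 * l 2 * (l 4 * l 5) * (l 1 * l 2)⁻¹ * (l 4 * l 5)⁻¹ * l 0 ∈ _
  rw [← (((h3.mul_right h4).mul_right h3.inv_right).mul_right h4.inv_right).eq,
    show l 0 * (l 1 * l 2 * (l 4 * l 5) * (l 1 * l 2)⁻¹ * (l 4 * l 5)⁻¹) =
      l 0 * (l 1 * (l 2 * (l 4 * l 5))) * (l 4 * l 5 * (l 1 * l 2))⁻¹ by group]
  rw [← mul_assoc (l 4) (l 5)] at h5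
  rcases h5 with e | e <;> rw [e]
  · rw [mul_inv_cancel]; exact one_mem _
  · rw [← h6.eq, mul_inv_cancel_right]; exact s.q.z_mem

theorem jt_cD {t : G} (h1 : Commute z t) (h2 : ∀ q ∈ QG g, t * q * t⁻¹ * q⁻¹ ∈ zpowers z) : t ∈ QG g :=
  s.q.es2.mem_of_triv (fun c hc => s.st.cQ c (mem_centralizer_iff.1 hc z s.q.z_mem).symm
    fun q hq => (mem_centralizer_iff.1 hc q hq).symm) fun q hq =>
      ((Spor.mem_zpowers_iff_of_sq s.q.z_sq).1 (h2 q hq)).imp mul_inv_eq_one.1 mul_inv_eq_iff_eq_mul.1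

end Cfsg.Agent.J3L
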