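import Mathlib
import Cfsg.Agent.J3L.LocA
import Cfsg.Agent.GT.PGroupChain
import Cfsg.Agent.GT.TransferCocycle
import Cfsg.Agent.Loc.CardProd

/-!
Types of involutions, the double cover does not split over the hexad group, double cosets.
-/

set_option autoImplicit false

namespace Cfsg.Agent.J3L

open Cfsg Cfsg.Agent.Spor Cfsg.Agent.Spor.MB Cfsg.Agent.J4T Cfsg.Agent.Loc.Mss Subgroup

theorem lb_isConj {G : Type*} [Group G] (g x : G) : IsConj x (g * x * g⁻¹) := isConj_iff.2 ⟨g, rfl⟩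

theorem lb_isConj' {G : Type*} [Group G] (g x : G) : IsConj x (g⁻¹ * x * g) := isConj_iff.2 ⟨g⁻¹, by rw [inv_inv]⟩

theorem lb_card_sup {G : Type*} [Group G] [Finite G] {H K : Subgroup G} {m n : ℕ} (h : H ≤ 𝐍[K])
    (h1 : Nat.card H ≤ m) (h2 : Nat.card K ≤ n) : Nat.card ↥(H ⊔ K) ≤ m * n := by
  refine le_trans ?_ (Nat.mul_le_mul h1 h2)
  rw [← Loc.card_sup_mul_card_inf_of_le_normalizer h]
  exact Nat.le_mul_of_pos_right _ Nat.card_pos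

theorem lb_card_zpowers {G : Type*} [Group G] {x : G} {n : ℕ} (hn : 0 < n) (h : x ^ n = 1) :
    Nat.card (zpowers x) ≤ n := by
  rw [Nat.card_zpowers]
  exact orderOf_le_of_pow_eq_one hn h

namespace MD

variable (M : MD)

theorem lb_mem {q : PG} (h : In4 M.r1 M.r2 q) : q ∈ M.U := (M.mem_U q).2 ⟨q, 1, h, .inl rfl, (mul_one q).symm⟩

theorem lb_r1 : M.r1 ∈ M.U := M.lb_mem (.inr (.inl rfl))

theorem lb_r2 : M.r2 ∈ M.U := M.lb_mem (.inr (.inr (.inl rfl)))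

theorem lb_v1 : M.v1 ∈ M.U := (M.mem_U _).2 ⟨1, M.v1, .inl rfl, .inr (.inl rfl), (one_mul _).symm⟩

theorem lb_M22 {q : PG} (h : q ∈ M.U) : q ∈ Spor.M22 := M.B_le (M.U_le h)

theorem lb_a2 : M.a2 * (M.r1 * M.r2) * M.a2⁻¹ = M.r1 := by
  rw [← conj_mul, M.a2_r.1, M.a2_r.2, ← mul_assoc, (comm_of_sq M.U_sq M.lb_r2 M.lb_r1).eq, mul_assoc,
    M.U_sq _ M.lb_r2, mul_one]

theorem lb_tr : tr3 M.a2 M.r1 = 1 := by
  have : M.a2⁻¹ * M.r1 * M.a2 = M.r1 * M.r2 := by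
    conv_lhs => rw [← M.lb_a2]
    group
  rw [tr3, M.a2_r.1, this]
  exact M.U_sq _ (mul_mem M.lb_r1 M.lb_r2)

end MD

variable {G : Type*} [Group G]

/-- Two lifts of square one differ by the central involution. -/
theorem Cov.lb_eq {a z : G} {φ : 𝐜[a] →* PG} (c : Cov a z φ) {s t : G} {q : PG} (hs : Im φ s q) (ht : Im φ t q)
    (h1 : s * s = 1) (h2 : t * t = 1) : t = s ∨ t = s * z := by
  obtain ⟨k, hk, rfl⟩ := c.eq_mul hs ht
  have h3 : k ^ 2 ^ 1 = 1 := by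
    rw [mul_assoc, ← mul_assoc k, (c.ker_comm hk hs.comm).eq, mul_assoc, ← mul_assoc, h1, one_mul] at h2
    rw [pow_one, sq, h2]
  rcases c.ker_two hk h3 with rfl | rfl
  exacts [.inl (mul_one s), .inr rfl]

theorem Cov.lb_im_ne {a z : G} {φ : 𝐜[a] →* PG} (c : Cov a z φ) {t : G} {q : PG} (ht : Im φ t q) (h1 : t * t = 1)
    (h2 : t ∉ zpowers z) : q ≠ 1 := by
  rintro rfl
  rcases c.lb_eq Im.one ht (one_mul 1) h1 with rfl | rfl
  exacts [h2 (one_mem _), h2 (by rw [one_mul]; exact mem_zpowers _)]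

/-- Transfer: the central involution lies in every subgroup that covers a Sylow 2-subgroup of `M22`. -/
theorem Cov.lb_transfer [Finite G] {a z : G} {φ : 𝐜[a] →* PG} (c : Cov a z φ) {T : Subgroup G} (hT : T ≤ 𝐜[a])
    {S : Subgroup PG} (hS : S ≤ Spor.M22) (h128 : Nat.card S = 128) (h : ∀ q ∈ S, ∃ t ∈ T, Im φ t q) : z ∈ T := by
  by_contra hz
  have hQ : z ∉ T ⊔ zpowers a := fun e => by
    obtain ⟨t, ht, s, hs, e⟩ := (mem_sup_norm (norm_of_cent (zpowers_le.2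
      (mem_cent.2 fun x hx => (mem_c.1 (hT hx)).symm.eq)))).1 e
    have h3 : s ^ 3 = 1 := orderOf_dvd_iff_pow_eq_one.1 (c.ord ▸ orderOf_dvd_of_mem_zpowers hs)
    have h4 : z = t ^ 3 := by
      calc z = z ^ 3 := by rw [pow_succ, sq, c.zz, one_mul]
        _ = _ := by
          rw [← e, (c.ker_comm (mem_sup_left hs) (mem_c.1 (hT ht))).symm.mul_pow, h3, mul_one]
    exact hz (h4 ▸ pow_mem ht 3)
  have hi : ¬ 2 ∣ (S.comap φ).index := by
    rw [index_comap, c.range]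
    have := (S.subgroupOf Spor.M22).card_mul_index
    rw [Nat.card_congr (subgroupOfEquivOfLe hS).toEquiv, h128, Golay.card_M22] at this
    change 128 * S.relIndex _ = _ at this
    omega
  have h2 : ((T ⊔ zpowers a).subgroupOf 𝐜[a]).relIndex (S.comap φ) = 2 := by
    refine relIndex_eq_two_iff.2 ⟨⟨z, mem_c.2 c.za⟩, by rw [mem_comap, c.im_z.2]; exact one_mem _, fun x hx => ?_⟩
    obtain ⟨t, ht, k⟩ := h _ hx
    obtain ⟨u, hu, e⟩ := c.eq_mul k (⟨x.2, rfl⟩ : Im φ x (φ x))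
    obtain ⟨s, hs, e'⟩ := c.mem_ker.1 hu
    have m := mul_mem (mem_sup_left ht : t ∈ T ⊔ zpowers a) (mem_sup_right hs)
    change Xor ((x : G) * z ∈ T ⊔ zpowers a) ((x : G) ∈ T ⊔ zpowers a)
    rw [e]
    rcases e' with rfl | rfl
    · exact .inr ⟨m, fun l => hQ ((mul_mem_cancel_left m).1 l)⟩
    · refine .inl ⟨by rwa [mul_assoc, mul_assoc, c.zz, mul_one], fun l => hQ ((mul_mem_cancel_left m).1 ?_)⟩
      rwa [mul_assoc]
  rcases GT.Tr.thompson_transfer_index_two hi h2 (u := ⟨z, mem_c.2 c.za⟩) (Subtype.ext ((sq z).trans c.zz)) with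
    ⟨N, hN, h3, h4⟩ | ⟨g, hg⟩
  · haveI := Fact.mk Nat.prime_two
    haveI : IsCyclic (𝐜[a] ⧸ N) := isCyclic_of_prime_card (p := 2) h3
    refine h4 ((c.perf ▸ Normal.quotient_commutative_iff_commutator_le.1 inferInstance : ⊤ ≤ N) (mem_top _))
  · refine hQ ?_
    have : (g : G) * z * (g : G)⁻¹ ∈ T ⊔ zpowers a := hg
    rwa [← (c.zc g (mem_c.1 g.2)).eq, mul_inv_cancel_right] at this

variable [Finite G] {ζ : G → G} {a b : G}

namespace Hyp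

variable (h : Hyp ζ)
include h

theorem lb_conj (ha : orderOf a = 3) (hb : orderOf b = 3) : IsConj (ζ a) (ζ b) := by
  obtain ⟨g, rfl⟩ := isConj_iff.1 (h.isConj ha hb)
  exact isConj_iff.2 ⟨g, (h.conj a g ha).symm⟩

theorem lb_ne (h6 : C6 ζ) (ha : orderOf a = 3) : ζ a ≠ 1 := fun e => by
  obtain ⟨b, p⟩ := h.pair a ha
  have := h.lb_conj ha p.b3
  rw [e, isConj_one_right] at this
  exact h6 a b p (e.trans this.symm)

omit [Finite G] in
theorem lb_sq (ha : orderOf a = 3) : ζ a * ζ a = 1 := let ⟨_, c⟩ := h.cov a ha; c.zz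

omit [Finite G] in
theorem lb_zc (ha : orderOf a = 3) {g : G} (hg : Commute a g) : Commute (ζ a) g := let ⟨_, c⟩ := h.cov a ha; c.zc g hg

omit [Finite G] in
theorem lb_zp (ha : orderOf a = 3) {c : G} (hc : c ∈ zpowers a) (h1 : c ≠ 1) : ζ c = ζ a := by
  rcases (mem_zpowers_three ha).1 hc with e | rfl | rfl
  exacts [absurd e h1, rfl, h.inv a ha]

theorem lb_lift {φ : 𝐜[a] →* PG} (c : Cov a (ζ a) φ) {q : PG} (hq : q ∈ Spor.M22) (h2 : q * q = 1) :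
    ∃ t, Im φ t q ∧ t * t = 1 := by
  obtain ⟨t, k, e⟩ := c.lift_two hq h2
  refine ⟨t, k, h.sq_of_im c (k := 2) k h2 ?_⟩
  rw [show t ^ 2 ^ 2 = t * t * (t * t) by rw [← sq, ← sq, ← pow_mul]; rfl]
  rcases e with e | e <;> rw [e]
  exacts [one_mul 1, c.zz]

variable (p : Pr a b)
include p

theorem zeta_nm (h6 : C6 ζ) : ζ b ∉ zpowers (ζ a) := fun e =>
  ((mem_zpowers_iff_of_sq (h.lb_sq p.a3)).1 e).elim (h.lb_ne h6 p.b3) fun e => h6 a b p e.symm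

theorem zeta_not_in4 (h6 : C6 ζ) {c : G} (hc : c ∈ AA a b) (h1 : c ∉ zpowers a) (h2 : c ∉ zpowers b) :
    ¬ In4 (ζ a) (ζ b) (ζ c) := by
  have pa := (p.of_mem hc h1).1
  have pb := (p.symm.of_mem (AA_comm a b ▸ hc) h2).1
  rintro (e | e | e | e)
  · exact h.lb_ne h6 pa.b3 e
  · exact h6 _ _ pa e.symm
  · exact h6 _ _ pb e.symm
  · obtain ⟨g, g1, g2⟩ := h.trans a b a b⁻¹ p p.inv_right
    have e2 : ζ (g * c * g⁻¹) = ζ c := by
      rw [h.conj c g pa.b3, e, ← conj_mul, ← h.conj a g p.a3, ← h.conj b g p.b3, g1, g2, h.inv b p.b3]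
    obtain ⟨s, hs, t, ht, rfl⟩ := p.mem_AA.1 hc
    have e3 : g * s * g⁻¹ = s := by
      obtain ⟨i, rfl⟩ := hs
      rw [← conj_zpow, g1]
    have e4 : g * t * g⁻¹ = t⁻¹ := by
      obtain ⟨i, rfl⟩ := ht
      rw [← conj_zpow, g2, inv_zpow]
    rw [← conj_mul, e3, e4] at e2
    have sA : s ∈ AA a b := mem_sup_left hs
    have tA : t ∈ AA a b := mem_sup_right ht
    have st := p.comm_of_mem sA tA
    have hn : s * t⁻¹ ∉ zpowers (s * t) := fun m => by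
      have m1 : s ∈ zpowers (s * t) := by
        have := pow_mem (mul_mem (mem_zpowers (s * t)) m) 2
        rwa [show s * t * (s * t⁻¹) = s ^ 2 by rw [mul_assoc, ← mul_assoc t, ← st.eq, sq]; group, ← pow_mul,
          show 2 * 2 = 3 + 1 from rfl, pow_succ, p.cube sA, one_mul] at this
      rcases (mem_zpowers_three p.a3).1 hs with rfl | rfl | rfl
      exacts [h2 (by rwa [one_mul]), pa.symm.nm m1, pa.symm.nm (inv_mem_iff.1 m1)]
    have m := mul_mem sA (inv_mem tA)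
    exact h6 _ _ ⟨pa.b3, p.ord m fun e => hn (e ▸ one_mem _), p.comm_of_mem hc m, hn⟩ e2.symm

/-- A 3-element that normalises `A` and centralises an element of `R` outside the groups `⟨ζ c⟩` lies in `A`. -/
theorem lb_norm {w u : G} {k : ℕ} (h1 : w ^ 3 ^ k = 1) (h2 : w ∈ 𝐍[AA a b]) (h3 : u ∈ RR (AA a b)) (h4 : Commute w u)
    (h5 : ∀ c ∈ AA a b, c ≠ 1 → u ∉ zpowers (ζ c)) : w ∈ AA a b := by
  have w3 := h.cube h1
  have hw : IsPGroup 3 (zpowers w) := pg_iff.2 fun x ⟨i, e⟩ => ⟨1, by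
    rw [← e, pow_one, ← zpow_natCast, ← zpow_mul, mul_comm, zpow_mul, zpow_natCast, w3, one_zpow]⟩
  obtain ⟨⟨c, hc, cw⟩, c1⟩ := (ne_bot_iff_exists_ne_one).1 (GT.PG.inf_centralizer_ne_bot_of_isPGroup p.pg hw
    (zpowers_le.2 h2) fun e => p.a_ne (mem_bot.1 (e ▸ left_mem_AA a b)))
  replace c1 : c ≠ 1 := fun e => c1 (Subtype.ext e)
  replace cw : Commute c w := (mem_cent.1 cw w (mem_zpowers w)).symm
  obtain ⟨d, q, e⟩ := p.exists_partner hc c1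
  have hu := h5 c hc c1
  rw [← e] at h2 h3 ⊢
  obtain ⟨s, hs, t, ht, e1⟩ := q.mem_AA.1 (conj_mem_of_norm h2 (right_mem_AA c d))
  have sw : w * s * w⁻¹ = s := by
    obtain ⟨i, rfl⟩ := hs
    rw [← (cw.zpow_left i).eq, mul_inv_cancel_right]
  rcases (mem_zpowers_three q.b3).1 ht with rfl | rfl | rfl
  · rw [mul_one, ← sw] at e1
    exact absurd ((MulAut.conj w).injective e1 ▸ hs) q.nm
  · rcases (mem_zpowers_three q.a3).1 hs with rfl | rfl | rfl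
    · exact h.mem_AA q h1 cw (by rw [one_mul, eq_mul_inv_iff_mul_eq] at e1; exact e1)
    · exact absurd (h.fix_R q cw (.inl e1.symm) h3 h4) hu
    · exact absurd (h.fix_R q cw (.inr e1.symm) h3 h4) hu
  · have e2 : w * w * d * (w * w)⁻¹ = d := by
      calc w * w * d * (w * w)⁻¹ = w * (w * d * w⁻¹) * w⁻¹ := by group
        _ = w * s * w⁻¹ * (w * d * w⁻¹)⁻¹ := by
          conv_lhs => rw [← e1]
          group
        _ = d := by
          rw [sw, ← e1, mul_inv_rev, inv_inv,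
            (q.comm_of_mem (right_mem_AA c d) (inv_mem (mem_sup_left hs))).eq, mul_inv_cancel_left]
    have e3 : Commute d (w * w) := (mul_inv_eq_iff_eq_mul.1 e2).symm
    refine h.mem_AA q h1 cw ?_
    have := e3.pow_right 2
    rwa [← sq, ← pow_mul, show 2 * 2 = 3 + 1 from rfl, pow_succ, w3, one_mul] at this

theorem not_conj (h6 : C6 ζ) : ¬ IsConj (ζ a) (ζ a * ζ b) := fun e => by
  obtain ⟨g, e⟩ := isConj_iff.1 e
  have uR : ζ a * ζ b ∈ RR (AA a b) :=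
    mul_mem (h.zeta_mem p (left_mem_AA a b) p.a_ne) (h.zeta_mem p (right_mem_AA a b) p.b_ne)
  obtain ⟨u1, u2, -⟩ := (h.mem_RR p).1 uR
  have hS : Syl 3 (AA a b) 𝐜[ζ a * ζ b] := by
    refine Syl.of_norm p.pg (AA_le (mem_c.2 u1.symm) (mem_c.2 u2.symm)) fun P hP _ h2 h3 w hw => ?_
    obtain ⟨k, hk⟩ := pg_iff.1 hP w hw
    refine h.lb_norm p hk (h3 hw) uR (mem_c.1 (h2 hw)).symm fun c hc c1 m => ?_
    rcases (mem_zpowers_iff_of_sq (h.lb_sq (p.ord hc c1))).1 m with m | m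
    · rw [mul_eq_one_iff_eq_inv, inv_eq_of_mul_eq_one_right (h.lb_sq p.b3)] at m
      exact h6 a b p m
    · by_cases k1 : c ∈ zpowers a
      · rw [h.lb_zp p.a3 k1 c1, mul_eq_left] at m
        exact h.lb_ne h6 p.b3 m
      by_cases k2 : c ∈ zpowers b
      · rw [h.lb_zp p.b3 k2 c1, mul_eq_right] at m
        exact h.lb_ne h6 p.a3 m
      exact h.zeta_not_in4 p h6 hc k1 k2 (.inr (.inr (.inr m.symm)))
  rw [← h.conj a g p.a3] at e
  have q := p.conj g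
  generalize g * a * g⁻¹ = a' at e q
  generalize g * b * g⁻¹ = b' at q
  obtain ⟨s, s3, s1, s2, -⟩ := h.exists_s q
  have sa : s * a' * s⁻¹ = a' := by rw [← s1.eq, mul_inv_cancel_right]
  have hn : s ∈ 𝐍[AA a' b'] := cj_eq_iff.1 (by rw [cj_AA, sa, s2, q.mul_left.2])
  have hc : ∀ x, Commute a' x → x ∈ 𝐜[ζ a * ζ b] := fun x hx => mem_c.2 (e ▸ h.lb_zc q.a3 hx)
  obtain ⟨n, -, hn⟩ := hS.conj_le (pg_sup' q.pg (pg_zpowers s3) (zpowers_le.2 hn))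
    (sup_le (AA_le (hc _ (Commute.refl _)) (hc _ q.comm)) (zpowers_le.2 (hc _ s1)))
  have := p.comm_of_mem (hn (conj_mem_cj (mem_sup_right (mem_zpowers s))))
    (hn (conj_mem_cj (mem_sup_left (right_mem_AA a' b'))))
  have sb : Commute s b' := by simpa [mul_assoc] using comm_conj this n⁻¹
  rw [sb.eq, mul_inv_cancel_right, eq_comm, mul_eq_right] at s2
  exact q.a_ne s2

theorem gd_zeta (h6 : C6 ζ) : Gd ζ a b (ζ b) :=
  ⟨h.zeta_mem p (right_mem_AA a b) p.b_ne, h.zeta_nm p h6, .inr (h.lb_conj p.a3 p.b3)⟩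

omit p in
/-- Exactly one of the two lifts of an involution is conjugate to the central involution. -/
theorem type_lift (h6 : C6 ζ) (ha : orderOf a = 3) {t : G} (h1 : Commute a t) (h2 : t * t = 1)
    (h3 : t ∉ zpowers (ζ a)) : IsConj (ζ a) t ↔ ¬ IsConj (ζ a) (t * ζ a) := by
  obtain ⟨M⟩ := exists_MD
  obtain ⟨b, p⟩ := h.pair a ha
  have g := h.gd_zeta p h6
  obtain ⟨φ, c, -, kr⟩ := h.exists_fr' M p g.mem g.nm
  obtain ⟨q, k⟩ := Im.of_comm (φ := φ) h1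
  obtain ⟨m, hm, rfl⟩ := M.conj2 q (c.mem k) ((k.mul k).unique (h2 ▸ Im.one)) (c.lb_im_ne k h2 h3)
  obtain ⟨n, kn⟩ := c.lift hm
  have e1 : IsConj (ζ a) (n * ζ b * n⁻¹) := (h.lb_conj ha p.b3).trans (lb_isConj n _)
  have e2 : ¬ IsConj (ζ a) (n * ζ b * n⁻¹ * ζ a) := fun e => h.not_conj p h6 (e.trans (IsConj.symm (by
    rw [(c.zc _ kr.comm).eq, mul_assoc (n * ζ b), ← (c.zc _ kn.inv.comm).eq, ← mul_assoc, mul_assoc n]
    exact lb_isConj n _)))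
  rcases c.lb_eq (kn.conj kr) k (by rw [conj_mul, h.lb_sq p.b3]; group) h2 with rfl | rfl
  · exact iff_of_true e1 e2
  · exact iff_of_false e2 (by rw [mul_assoc, c.zz, mul_one]; exact not_not.2 e1)

/-- A lift of order 3 of the second generator. -/
theorem lb_s (M : MD) {φ : 𝐜[a] →* PG} (c : Cov a (ζ a) φ) (hb : Im φ b M.a1) :
    ∃ s, Im φ s M.a2 ∧ s ^ 3 = 1 ∧ ∃ k ∈ zpowers a, k ≠ 1 ∧ s * b * s⁻¹ = b * k ∧ s⁻¹ * b * s = b * k⁻¹ := by
  obtain ⟨s, ks, s9⟩ := c.lift_three (M.B_le M.memB.2.1) (M.a2_ord ▸ pow_orderOf_eq_one _)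
  have s3 := h.cube (k := 2) s9
  have k1 : Im φ (s * b * s⁻¹) M.a1 := by
    have := ks.conj hb
    rwa [← M.a12.eq, mul_inv_cancel_right] at this
  obtain ⟨k, hk, e⟩ := c.eq_mul hb k1
  have k3 : k ^ 3 ^ 1 = 1 := by
    have : (b * k) ^ 3 = 1 := by rw [← e, conj_pow, p.b_cube]; group
    rwa [(c.ker_comm hk p.comm).symm.mul_pow, p.b_cube, one_mul] at this
  refine ⟨s, ks, s3, k, c.ker_three hk k3, ?_, e, ?_⟩
  · rintro rfl
    rw [mul_one, mul_inv_eq_iff_eq_mul] at e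
    obtain ⟨t, kt, t2⟩ := h.lb_lift c (M.lb_M22 M.lb_r1) (M.U_sq _ M.lb_r1)
    obtain ⟨t1, t3, -⟩ := (h.mem_RR p).1 ((h.mem_RR_im M p c hb).2 ⟨t2, _, .inr (.inl rfl), kt⟩)
    have := ks.commute kt (mem_cent.1 (mem_cent_AA.2 ⟨t1, t3⟩) s (h.mem_AA p (k := 1) s3 ks.comm e.symm))
    exact M.r_ne.2.2 (by rw [← M.a2_r.1, this.eq, mul_inv_cancel_right])
  · rw [eq_mul_inv_iff_mul_eq, mul_assoc, ← (c.ker_comm hk ks.comm).eq, ← mul_assoc, mul_assoc s⁻¹, ← e]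
    group

/-- The product of the three conjugates of `ζ b` is `ζ a`. -/
theorem lb_tr (h6 : C6 ζ) (M : MD) {φ : 𝐜[a] →* PG} (c : Cov a (ζ a) φ) (hr : Im φ (ζ b) M.r1) {s k : G}
    (ks : Im φ s M.a2) (hk : k ∈ zpowers a) (k1 : k ≠ 1) (e1 : s * b * s⁻¹ = b * k) (e2 : s⁻¹ * b * s = b * k⁻¹) :
    tr3 s (ζ b * ζ a) = 1 := by
  have kA : k ∈ AA b a := mem_sup_right hk
  have kb : k ∉ zpowers b := fun m => by
    rcases (mem_zpowers_three p.a3).1 hk with rfl | rfl | rfl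
    exacts [k1 rfl, p.symm.nm m, p.symm.nm (inv_mem_iff.1 m)]
  have m1 := mul_mem (left_mem_AA b a) kA
  have m2 := mul_mem (left_mem_AA b a) (inv_mem kA)
  have n1 : b * k ∉ zpowers b := fun m => kb ((mul_mem_cancel_left (mem_zpowers b)).1 m)
  have n2 : b * k⁻¹ ∉ zpowers b := fun m => kb (inv_mem_iff.1 ((mul_mem_cancel_left (mem_zpowers b)).1 m))
  obtain ⟨q, eq⟩ := p.symm.of_mem m1 n1
  have f1 : s * ζ b * s⁻¹ = ζ (b * k) := by rw [← e1, h.conj b s p.b3]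
  have f2 : s⁻¹ * ζ b * s = ζ (b * k⁻¹) := by
    have := h.conj b s⁻¹ p.b3
    rw [inv_inv] at this
    rw [← e2, this]
  have hR : tr3 s (ζ b) ∈ RR (AA b a) := by
    rw [tr3, f1, f2]
    exact mul_mem (mul_mem (h.zeta_mem p.symm (left_mem_AA b a) p.b_ne) (h.zeta_mem p.symm m1 q.b_ne))
      (h.zeta_mem p.symm m2 fun e => n2 (e ▸ one_mem _))
  have e3 : tr3 s (ζ b) = ζ a := by
    rcases c.lb_eq Im.one (M.lb_tr ▸ ks.tr hr) (one_mul 1) ((h.mem_RR p.symm).1 hR).2.2 with e | e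
    · refine h.zeta_not_in4 q h6 (eq ▸ m2) n2 (fun m => q.symm.nm ?_) (.inr (.inr (.inr ?_))) |>.elim
      swap
      · rw [tr3, f1, f2, mul_eq_one_iff_eq_inv,
          inv_eq_of_mul_eq_one_right (h.lb_sq (p.symm.ord m2 fun e => n2 (e ▸ one_mem _)))] at e
        exact e.symm
      · have := pow_mem (mul_mem (inv_mem m) (mem_zpowers (b * k))) 2
        rw [show (b * k⁻¹)⁻¹ * (b * k) = k ^ 2 by rw [sq]; group, ← pow_mul, show 2 * 2 = 3 + 1 from rfl, pow_succ,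
          p.symm.cube kA, one_mul] at this
        exact (mul_mem_cancel_right this).1 (mem_zpowers _)
    · rwa [one_mul] at e
  have zc := fun g (l : Commute a g) x => (c.zc g l).symm.left_comm x
  have : tr3 s (ζ b * ζ a) = ζ a * (ζ a * (ζ a * tr3 s (ζ b))) := by
    simp only [tr3, mul_assoc, ← zc _ ks.comm, ← zc _ ks.inv.comm, ← zc _ hr.comm, (c.zc _ ks.comm).symm.eq]
  rw [this, e3, c.zz, mul_one, c.zz]

theorem lb_v (h6 : C6 ζ) (M : MD) {φ : 𝐜[a] →* PG} (c : Cov a (ζ a) φ) (kb : Im φ b M.a1)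
    (kr : Im φ (ζ b) M.r1) : ∃ t ∈ VV (AA a b) a, Im φ t M.v1 ∧ ¬ IsConj (ζ a) t := by
  obtain ⟨s, ks, s3, k, hk, k1, e1, e2⟩ := h.lb_s p M c kb
  have e3 := h.lb_tr p h6 M c kr ks hk k1 e1 e2
  obtain ⟨m, km⟩ := c.lift (M.B_le M.memB.2.2.2.2.1)
  have kρ : Im φ (ζ b * ζ a) M.r1 := by simpa using kr.mul c.im_z
  have zb := (c.zc _ kr.comm).symm
  have kv : Im φ (m * (ζ b * ζ a) * m⁻¹) M.v1 := M.m10.2.1 ▸ km.conj kρ
  obtain ⟨l, hl, e4⟩ := c.eq_mul kb (M.m10.1 ▸ km.conj ks)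
  have e5 : tr3 b (m * (ζ b * ζ a) * m⁻¹) = 1 := by
    have := tr3_conj m s (ζ b * ζ a)
    rw [e3, e4] at this
    generalize m * (ζ b * ζ a) * m⁻¹ = t at kv this
    have lt := c.ker_comm hl kv.comm
    have lb := c.ker_comm hl p.comm
    rw [tr3, show b * l * t * (b * l)⁻¹ = b * t * b⁻¹ by rw [mul_assoc b, lt.eq]; group,
      show (b * l)⁻¹ * t * (b * l) = b⁻¹ * t * b by rw [← lb.eq, mul_assoc, ← mul_assoc t, ← lt.eq]; group] at this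
    rw [tr3, this]; group
  have sq : m * (ζ b * ζ a) * m⁻¹ * (m * (ζ b * ζ a) * m⁻¹) = 1 := by
    rw [conj_mul, ← sq, zb.mul_pow, sq, sq, h.lb_sq p.b3, c.zz]; group
  exact ⟨_, (h.mem_VV p).2 ⟨(h.mem_UU_im M p c kb).2 ⟨sq, _, M.lb_v1, kv⟩, e5⟩, kv, fun e =>
    h.not_conj p h6 (zb.eq ▸ e.trans (lb_isConj m _).symm)⟩

theorem lb_third {v : G} (hv : v ∈ VV (AA a b) a) : v * (b * v * b⁻¹) = b⁻¹ * v * b := by
  obtain ⟨h1, h2⟩ := (h.mem_VV p).1 hv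
  rwa [tr3, mul_eq_one_iff_eq_inv, show (b⁻¹ * v * b)⁻¹ = b⁻¹ * v⁻¹ * b by group,
    inv_eq_of_mul_eq_one_right ((h.mem_UU p).1 h1).2.2] at h2

theorem VV_type (h6 : C6 ζ) {v : G} (hv : v ∈ VV (AA a b) a) : ¬ IsConj (ζ a) v := by
  obtain ⟨M⟩ := exists_MD
  have g := h.gd_zeta p h6
  obtain ⟨φ, c, kb, kr⟩ := h.exists_fr' M p g.mem g.nm
  obtain ⟨t, hw, kv, nc⟩ := h.lb_v p h6 M c kb kr
  rcases (h.VV_gen p hw (by rintro rfl; exact M.v_ne (kv.unique Im.one))).1 hv with rfl | rfl | rfl | rfl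
  · exact fun e => h.lb_ne h6 p.a3 (isConj_one_left.1 e)
  · exact nc
  · exact fun e => nc (e.trans (lb_isConj b t).symm)
  · exact fun e => nc ((h.lb_third p hw ▸ e).trans (lb_isConj' b t).symm)

/-- Conjugates of `ζ a` are determined by their images. -/
theorem lb_eq_of_im (h6 : C6 ζ) {φ : 𝐜[a] →* PG} (c : Cov a (ζ a) φ) {s t : G} {q : PG} (hs : Im φ s q)
    (ht : Im φ t q) (h1 : IsConj (ζ a) s) (h2 : IsConj (ζ a) t) (h3 : s ∉ zpowers (ζ a)) : t = s := by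
  have sq : ∀ x, IsConj (ζ a) x → x * x = 1 := fun x hx => by
    obtain ⟨g, rfl⟩ := isConj_iff.1 hx
    rw [conj_mul, c.zz]; group
  refine (c.lb_eq hs ht (sq s h1) (sq t h2)).resolve_right ?_
  rintro rfl
  exact (h.type_lift h6 p.a3 hs.comm (sq s h1) h3).1 h1 h2

theorem lb_gd (h6 : C6 ζ) {r : G} (g : Gd ζ a b r) : ∃ b', Pr a b' ∧ AA a b' = AA a b ∧ r = ζ b' := by
  obtain ⟨M⟩ := exists_MD
  obtain ⟨φ, c, kb, kr⟩ := h.exists_fr' M p g.mem g.nm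
  obtain ⟨s, ks, -, k, hk, -, e1, e2⟩ := h.lb_s p M c kb
  have g' := h.gd_zeta p h6
  obtain ⟨z2, q, hq, kq⟩ := (h.mem_RR_im M p c kb).1 g'.mem
  have key : ∀ n : G, n * b * n⁻¹ ∈ AA a b → Commute a n → Im φ (n * ζ b * n⁻¹) M.r1 →
      ∃ b', Pr a b' ∧ AA a b' = AA a b ∧ r = ζ b' := fun n h1 h2 h3 => by
    have q := p.conj n
    rw [← h2.eq, mul_inv_cancel_right] at q
    refine ⟨_, q, (p.of_mem h1 q.nm).2, ?_⟩
    rw [← h.conj b n p.b3] at h3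
    exact h.lb_eq_of_im p h6 c h3 kr (h.lb_conj p.a3 q.b3) (g.ty.resolve_left (h.lb_ne h6 p.a3)) (h.zeta_nm q h6)
  have kA : k ∈ AA a b := mem_sup_left hk
  rcases hq with rfl | rfl | rfl | rfl
  · exact absurd rfl (c.lb_im_ne kq z2 g'.nm)
  · exact key 1 (by simpa using right_mem_AA a b) (Commute.one_right a) (by simpa using kq)
  · refine key s⁻¹ (by rw [inv_inv, e2]; exact mul_mem (right_mem_AA a b) (inv_mem kA)) ks.inv.comm ?_
    have := ks.inv.conj kq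
    rwa [← M.a2_r.1, show M.a2⁻¹ * (M.a2 * M.r1 * M.a2⁻¹) * M.a2⁻¹⁻¹ = M.r1 by group] at this
  · exact key s (e1 ▸ mul_mem (right_mem_AA a b) kA) ks.comm (M.lb_a2 ▸ ks.conj kq)

/-- There is no complement to `⟨ζ a⟩` in the preimage of the hexad group that is defined by fusion. -/
theorem lb_split (h6 : C6 ζ) (M : MD) {φ : 𝐜[a] →* PG} (c : Cov a (ζ a) φ) (kb : Im φ b M.a1) {U : Subgroup G}
    (h1 : U ≤ UU (AA a b) a) (h2 : ∀ u ∈ U, ¬ IsConj (ζ a) u)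
    (h3 : ∀ u ∈ UU (AA a b) a, ∃ w ∈ U, u = w ∨ u = w * ζ a) : False := by
  have mU := fun t => h.mem_UU_im M p c kb (t := t)
  have Uc : ∀ u ∈ U, Commute a u := fun u hu => ((h.mem_UU p).1 (h1 hu)).1
  have hm : ∀ u ∈ UU (AA a b) a, ¬ IsConj (ζ a) u → u ∈ U := fun u hu hn => by
    obtain ⟨w, hw, rfl | rfl⟩ := h3 u hu
    · exact hw
    · refine absurd ((h.type_lift h6 p.a3 (Uc w hw) ((mU w).1 (h1 hw)).1 fun m => ?_).2 hn) (h2 w hw)
      rcases (mem_zpowers_iff_of_sq c.zz).1 m with rfl | rfl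
      exacts [hn (by rw [one_mul]), h2 _ hw (IsConj.refl _)]
  have hn : ∀ n q, Im φ n q → q ∈ M.B → n ∈ 𝐍[U] := fun n q k hq => mem_norm_of_cj_le (cj_le_iff.2 fun u hu => by
    refine hm _ (conj_mem_of_norm (h.norm_UU_im M p c kb k hq) (h1 hu)) fun e => h2 u hu ?_
    exact e.trans (lb_isConj n u).symm)
  obtain ⟨d1, d2, d3, -, -, -, d4⟩ := M.d8
  obtain ⟨-, -, -, -, -, -, b1, b2⟩ := M.memB
  obtain ⟨x, kx, x2⟩ := h.lb_lift c (M.B_le b1) d1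
  obtain ⟨y, ky, y2⟩ := h.lb_lift c (M.B_le b2) d2
  have kγ := kx.mul ky
  have xi : x * (x * y) * x⁻¹ = (x * y)⁻¹ := by
    rw [← mul_assoc, x2, one_mul, mul_inv_rev, inv_eq_of_mul_eq_one_right y2]
  have γ4 : (x * y) ^ 4 = 1 := by
    have k4 : (x * y) ^ 2 * (x * y) ^ 2 ∈ zpowers a ⊔ zpowers (ζ a) :=
      c.im_one.1 (d3 ▸ (kγ.pow 2).mul (kγ.pow 2))
    rw [← pow_add] at k4
    have e1 : (x * y) ^ (2 + 2) = ((x * y) ^ (2 + 2))⁻¹ := by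
      rw [← inv_pow, ← xi, conj_pow, ← (c.ker_comm k4 kx.comm).eq, mul_inv_cancel_right]
    rw [show 4 = 2 + 2 from rfl, pow_add]
    refine h.sq_of_im c (k := 2) (kγ.pow 2) d3 ?_
    rw [← pow_mul, show 2 * 2 ^ 2 = (2 + 2) + (2 + 2) from rfl, pow_add]
    exact mul_eq_one_iff_eq_inv.2 e1
  have c16 : Nat.card U ≤ 16 := by
    have f : ∀ u : U, ∃ q : M.U, Im φ u q := fun u => let ⟨q, hq, k⟩ := ((mU u).1 (h1 u.2)).2; ⟨⟨q, hq⟩, k⟩
    choose f hf using f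
    refine M.card_U ▸ Nat.card_le_card_of_injective f fun u w e => Subtype.ext ?_
    refine ((c.lb_eq (hf u) (e ▸ hf w) ((mU u).1 (h1 u.2)).1 ((mU w).1 (h1 w.2)).1).resolve_right fun l => ?_).symm
    exact h2 _ ((mul_mem_cancel_left u.2).1 (l ▸ w.2)) (IsConj.refl _)
  have c128 := lb_card_sup (H := zpowers x) (K := zpowers (x * y) ⊔ U)
    (norm_sup (zpowers_le.2 (cj_eq_iff.1 (by rw [cj_zpowers, xi, zpowers_inv]))) (zpowers_le.2 (hn _ _ kx b1)))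
    (lb_card_zpowers two_pos ((sq x).trans x2))
    (lb_card_sup (zpowers_le.2 (hn _ _ kγ (mul_mem b1 b2))) (lb_card_zpowers four_pos γ4) c16)
  have hx : x ∈ zpowers x ⊔ (zpowers (x * y) ⊔ U) := mem_sup_left (mem_zpowers x)
  have hy : y ∈ zpowers x ⊔ (zpowers (x * y) ⊔ U) :=
    (mul_mem_cancel_left hx).1 (mem_sup_right (mem_sup_left (mem_zpowers _)))
  have hU : U ≤ zpowers x ⊔ (zpowers (x * y) ⊔ U) := le_sup_right.trans le_sup_right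
  have hT : zpowers x ⊔ (zpowers (x * y) ⊔ U) ≤ 𝐜[a] :=
    sup_le (zpowers_le.2 kx.1) (sup_le (zpowers_le.2 kγ.1) fun u hu => mem_c.2 (Uc u hu))
  generalize zpowers x ⊔ (zpowers (x * y) ⊔ U) = T at c128 hx hy hU hT
  have hS : M.U ⊔ closure {M.α, M.β} ≤ (φ.comp (inclusion hT)).range := by
    refine sup_le (fun q hq => ?_) ((closure_le _).2 ?_)
    · obtain ⟨t, kt, t2⟩ := h.lb_lift c (M.lb_M22 hq) (M.U_sq q hq)
      obtain ⟨w, hw, rfl | rfl⟩ := h3 t ((mU t).2 ⟨t2, q, hq, kt⟩)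
      · exact ⟨⟨t, hU hw⟩, kt.2⟩
      · exact ⟨⟨w, hU hw⟩, (show Im φ w q by simpa using kt.mul c.im_z.inv).2⟩
    · rintro _ (rfl | rfl)
      exacts [⟨⟨x, hx⟩, kx.2⟩, ⟨⟨y, hy⟩, ky.2⟩]
  have hz : ζ a ∈ T := c.lb_transfer hT (sup_le (M.U_le.trans M.B_le) ((closure_le _).2 (by
    rintro _ (rfl | rfl)
    exacts [M.B_le b1, M.B_le b2]))) d4 fun q hq => let ⟨t, e⟩ := hS hq; ⟨t, t.2, hT t.2, e⟩
  have e1 := (φ.comp (inclusion hT)).ker.card_mul_index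
  rw [index_ker] at e1
  have e2 := d4 ▸ card_le_of_le hS
  have e3 : 1 < Nat.card (φ.comp (inclusion hT)).ker := (one_lt_card_iff_ne_bot _).2
    (ne_bot_iff_exists_ne_one.2 ⟨⟨⟨ζ a, hz⟩, c.im_z.2⟩, fun e =>
      h.lb_ne h6 p.a3 (congrArg (fun x => (x.1.1 : G)) e)⟩)
  have := Nat.mul_le_mul (show 2 ≤ _ from e3) e2
  omega

theorem nonsplit (h6 : C6 ζ) {r v : G} (g : Gd ζ a b r) (hv : v ∈ VV (AA a b) a) (h1 : v ≠ 1) :
    ¬ IsConj (ζ a) (r * v) := fun hc => by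
  obtain ⟨b, p, e, rfl⟩ := h.lb_gd p h6 g
  rw [← e] at hv
  replace g := h.gd_zeta p h6
  obtain ⟨M⟩ := exists_MD
  obtain ⟨φ, c, kb, kr⟩ := h.exists_fr' M p g.mem g.nm
  obtain ⟨s, ks, s3, k, hk, k1, e1, e2⟩ := h.lb_s p M c kb
  have e3 := h.lb_tr p h6 M c kr ks hk k1 e1 e2
  have VU : VV (AA a b) a ≤ UU (AA a b) a := fun t ht => ((h.mem_VV p).1 ht).1
  have Usq : ∀ t ∈ UU (AA a b) a, t * t = 1 := fun t ht => ((h.mem_UU p).1 ht).2.2
  have Uc : ∀ t ∈ UU (AA a b) a, Commute a t := fun t ht => ((h.mem_UU p).1 ht).1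
  have zR := h.zeta_mem p (left_mem_AA a b) p.a_ne
  have sA : s ∈ 𝐍[AA a b] := cj_eq_iff.1 (by
    have q := p.conj s
    rw [cj_AA]
    rw [← ks.comm.eq, mul_inv_cancel_right] at q ⊢
    exact (p.of_mem (e1 ▸ mul_mem (right_mem_AA a b) (mem_sup_left hk)) q.nm).2)
  have Ucomm : ∀ {x y}, x ∈ UU (AA a b) a → y ∈ UU (AA a b) a → Commute x y := comm_of_sq Usq
  have RU := h.RR_le_UU p
  -- the element `s` centralises the four-group
  have sV : ∀ t ∈ VV (AA a b) a, Commute s t := by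
    have key : ∀ t ∈ VV (AA a b) a, ∀ q, Im φ t q → Commute M.a2 q → Commute s t := fun t ht q kq hq => by
      have t' := conj_mem_of_norm (norm_VV sA ks.comm) ht
      refine mul_inv_eq_iff_eq_mul.1 ((c.lb_eq kq (by simpa [hq.eq] using ks.conj kq) (Usq _ (VU ht))
        (Usq _ (VU t'))).resolve_right fun l => ?_)
      exact h.VV_type p h6 ((mul_mem_cancel_left ht).1 (l ▸ t')) (IsConj.refl _)
    obtain ⟨w, hw, kw, -⟩ := h.lb_v p h6 M c kb kr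
    have w1 : w ≠ 1 := by rintro rfl; exact M.v_ne (kw.unique Im.one)
    have c1 := key w hw _ kw M.a2_v
    have c2 := key _ ((h.VV_gen p hw w1).2 (.inr (.inr (.inl rfl)))) _ (kb.conj kw)
      ((M.a12.symm.mul_right M.a2_v).mul_right M.a12.symm.inv_right)
    intro t ht
    rcases (h.VV_gen p hw w1).1 ht with rfl | rfl | rfl | rfl
    exacts [Commute.one_right s, c1, c2, c1.mul_right c2]
  have n0 : ¬ IsConj (ζ a) (ζ b * ζ a * v) := by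
    have m := mul_mem (RU g.mem) (VU hv)
    rw [mul_assoc, (Ucomm (RU zR) (VU hv)).eq, ← mul_assoc]
    refine (h.type_lift h6 p.a3 (Uc _ m) (Usq _ m) fun l => h1 (h.VV_fpf p hv ?_)).1 hc
    exact ((h.mem_RR p).1 ((mul_mem_cancel_left g.mem).1 (zpowers_le.2 zR l))).2.1
  have n1 : ¬ IsConj (ζ a) (ζ b * ζ a) := (Ucomm (RU zR) (RU g.mem)).eq ▸ h.not_conj p h6
  have kρ : Im φ (ζ b * ζ a) M.r1 := by simpa using kr.mul c.im_z
  have ρR := mul_mem g.mem zR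
  generalize ζ b * ζ a = ρ at n0 n1 kρ ρR e3
  have bρ := ((h.mem_RR p).1 ρR).2.1
  have K1 : ∀ t ∈ VV (AA a b) a, ¬ IsConj (ζ a) (ρ * t) := fun t ht => by
    rcases (h.VV_gen p hv h1).1 ht with rfl | rfl | rfl | rfl
    · rwa [mul_one]
    · exact n0
    · rw [show ρ * (b * v * b⁻¹) = b * (ρ * v) * b⁻¹ by rw [← mul_assoc, ← mul_assoc, ← bρ.eq]; group]
      exact fun e => n0 (e.trans (lb_isConj b _).symm)
    · rw [h.lb_third p hv,
        show ρ * (b⁻¹ * v * b) = b⁻¹ * (ρ * v) * b by rw [← mul_assoc, ← mul_assoc, ← bρ.inv_left.eq]; group]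
      exact fun e => n0 (e.trans (lb_isConj' b _).symm)
  have σR := conj_mem_of_norm (norm_RR sA) ρR
  have kσ : Im φ (s * ρ * s⁻¹) M.r2 := M.a2_r.1 ▸ ks.conj kρ
  have e4 : ρ * (s * ρ * s⁻¹) = s⁻¹ * ρ * s := by
    rwa [tr3, mul_eq_one_iff_eq_inv, show (s⁻¹ * ρ * s)⁻¹ = s⁻¹ * ρ⁻¹ * s by group,
      inv_eq_of_mul_eq_one_right (Usq _ (RU ρR))] at e3
  have HU : zpowers ρ ⊔ zpowers (s * ρ * s⁻¹) ≤ UU (AA a b) a :=
    sup_le (zpowers_le.2 (RU ρR)) (zpowers_le.2 (RU σR))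
  refine h.lb_split p h6 M c kb (U := zpowers ρ ⊔ zpowers (s * ρ * s⁻¹) ⊔ VV (AA a b) a) (sup_le HU VU)
    (fun u hu => ?_) fun u hu => ?_
  · obtain ⟨x, hx, t, ht, rfl⟩ := (mem_sup_norm' (norm_of_cent fun x hx =>
      mem_cent.2 fun y hy => Ucomm (VU hy) (HU hx))).1 hu
    obtain ⟨x1, hx1, x2, hx2, rfl⟩ := (mem_sup_norm (norm_of_cent fun x hx =>
      mem_cent.2 fun y hy => Ucomm (HU (mem_sup_left hy)) (HU (mem_sup_right hx)))).1 hx
    rcases (mem_zpowers_iff_of_sq (Usq _ (RU ρR))).1 hx1 with rfl | rfl <;>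
      rcases (mem_zpowers_iff_of_sq (Usq _ (RU σR))).1 hx2 with rfl | rfl
    · rw [one_mul, one_mul]; exact h.VV_type p h6 ht
    · rw [one_mul, show s * ρ * s⁻¹ * t = s * (ρ * t) * s⁻¹ by rw [mul_assoc, (sV t ht).inv_left.eq]; group]
      exact fun e => K1 t ht (e.trans (lb_isConj s _).symm)
    · rw [mul_one]; exact K1 t ht
    · rw [e4, show s⁻¹ * x1 * s * t = s⁻¹ * (x1 * t) * s by rw [mul_assoc, (sV t ht).eq]; group]
      exact fun e => K1 t ht (e.trans (lb_isConj' s _).symm)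
  · obtain ⟨r, hr, t, ht, rfl⟩ := h.UU_fac p hu
    obtain ⟨r2, q, hq, kq⟩ := (h.mem_RR_im M p c kb).1 hr
    obtain ⟨w, hw, kw⟩ : ∃ w ∈ zpowers ρ ⊔ zpowers (s * ρ * s⁻¹), Im φ w q := by
      have m1 : ρ ∈ zpowers ρ ⊔ zpowers (s * ρ * s⁻¹) := mem_sup_left (mem_zpowers _)
      have m2 : s * ρ * s⁻¹ ∈ zpowers ρ ⊔ zpowers (s * ρ * s⁻¹) := mem_sup_right (mem_zpowers _)
      rcases hq with rfl | rfl | rfl | rfl
      exacts [⟨1, one_mem _, Im.one⟩, ⟨_, m1, kρ⟩, ⟨_, m2, kσ⟩, ⟨_, mul_mem m1 m2, kρ.mul kσ⟩]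
    refine ⟨w * t, mul_mem (mem_sup_left hw) (mem_sup_right ht), ?_⟩
    rcases c.lb_eq kw kq (Usq _ (HU hw)) r2 with rfl | rfl
    · exact .inl rfl
    · exact .inr (by rw [mul_assoc, mul_assoc, (Ucomm (RU zR) (VU ht)).eq])

theorem gd_comm {r t : G} (g : Gd ζ a b r) (h1 : Commute a t)
    (h2 : t * r * t⁻¹ * r⁻¹ ∈ zpowers a ⊔ zpowers (ζ a)) : Commute r t := by
  obtain ⟨φ, c⟩ := h.cov a p.a3
  obtain ⟨r1, -, r2⟩ := (h.mem_RR p).1 g.mem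
  obtain ⟨q, kq⟩ := Im.of_comm (φ := φ) r1
  have k : Im φ (t * r * t⁻¹) q := by simpa using (c.im_one.2 h2).mul kq
  rcases c.lb_eq kq k r2 (by rw [conj_mul, r2]; group) with e | e
  · exact (mul_inv_eq_iff_eq_mul.1 e).symm
  · rcases h.sep with h3 | h6
    · rw [h3 a p.a3, mul_one] at e
      exact (mul_inv_eq_iff_eq_mul.1 e).symm
    · have := g.ty.resolve_left (h.lb_ne h6 p.a3)
      exact absurd (e ▸ this.trans (lb_isConj t r)) ((h.type_lift h6 p.a3 r1 r2 g.nm).1 this)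

theorem dc : ∃ d ρ s : G, Commute a d ∧ ρ ∈ RR (AA a b) ∧ Commute a s ∧ s * b * s⁻¹ = a * b ∧
    d⁻¹ * b * d ∈ 𝐍[UU (AA a b) a] ∧ d⁻¹ * s * d ∈ 𝐍[UU (AA a b) a] ∧
    (∃ u ∈ UU (AA a b) a, ∃ u' ∈ UU (AA a b) a, 3 ∣ orderOf (u * (d * u' * d⁻¹))) ∧
    ∀ c, Commute a c → ∃ m n : G, Commute a m ∧ Commute a n ∧ m ∈ 𝐍[UU (AA a b) a] ∧ n ∈ 𝐍[UU (AA a b) a] ∧
      (c = m * n ∨ c = m * d * n ∨ c = m * (d⁻¹ * ρ * d) * n) := by
  obtain ⟨M⟩ := exists_MD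
  obtain ⟨φ, c, kb⟩ := h.exists_fr M p
  have nU := fun n q => h.norm_UU_im M p c kb (n := n) (q := q)
  obtain ⟨s, ks, -, k, hk, k1, e1, e2⟩ := h.lb_s p M c kb
  obtain ⟨d, kd⟩ := c.lift M.d1_mem
  obtain ⟨ρ, kρ, ρ2⟩ := h.lb_lift c (M.lb_M22 M.lb_r1) (M.U_sq _ M.lb_r1)
  have s1 := nU _ _ ((kd.inv.mul ks).mul kd) M.d1_a.2
  obtain ⟨s', s2, s3, s4⟩ : ∃ s' : G, Commute a s' ∧ s' * b * s'⁻¹ = a * b ∧ d⁻¹ * s' * d ∈ 𝐍[UU (AA a b) a] := by
    rcases (mem_zpowers_three p.a3).1 hk with rfl | rfl | rfl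
    · exact absurd rfl k1
    · exact ⟨s, ks.comm, e1.trans p.comm.eq.symm, s1⟩
    · refine ⟨s⁻¹, ks.inv.comm, by rw [inv_inv, e2, inv_inv, p.comm.eq], ?_⟩
      rw [show d⁻¹ * s⁻¹ * d = (d⁻¹ * s * d)⁻¹ by group]
      exact inv_mem s1
  refine ⟨d, ρ, s', kd.comm, (h.mem_RR_im M p c kb).2 ⟨ρ2, _, .inr (.inl rfl), kρ⟩, s2, s3,
    nU _ _ ((kd.inv.mul kb).mul kd) M.d1_a.1, s4, ?_, fun x hx => ?_⟩
  · obtain ⟨q, hq, q', hq', e⟩ := M.m8
    obtain ⟨u, ku, u2⟩ := h.lb_lift c (M.lb_M22 hq) (M.U_sq _ hq)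
    obtain ⟨u', ku', u2'⟩ := h.lb_lift c (M.lb_M22 hq') (M.U_sq _ hq')
    refine ⟨u, (h.mem_UU_im M p c kb).2 ⟨u2, _, hq, ku⟩, u', (h.mem_UU_im M p c kb).2 ⟨u2', _, hq', ku'⟩,
      e.trans ?_⟩
    obtain ⟨m, e'⟩ := ku.mul (kd.conj ku')
    rw [← e', ← orderOf_mk _ m]
    exact orderOf_map_dvd φ _
  · obtain ⟨q, kq⟩ := Im.of_comm (φ := φ) hx
    obtain ⟨m0, hm, n0, hn, e⟩ := M.dc q (c.mem kq)
    obtain ⟨m, km⟩ := c.lift (M.B_le hm)
    have key : ∀ y y0, Im φ y y0 → q = m0 * y0 * n0 → ∃ n, Commute a n ∧ n ∈ 𝐍[UU (AA a b) a] ∧ x = m * y * n :=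
      fun y y0 ky e => by
        have kn : Im φ ((m * y)⁻¹ * x) n0 := by
          have := (km.mul ky).inv.mul kq
          rwa [e, inv_mul_cancel_left] at this
        exact ⟨_, kn.comm, nU _ _ kn hn, by group⟩
    rcases e with e | e | e
    · obtain ⟨n, n1, n2, n3⟩ := key 1 1 Im.one (by rwa [mul_one])
      exact ⟨m, n, km.comm, n1, nU _ _ km hm, n2, .inl (by rwa [mul_one] at n3)⟩
    · obtain ⟨n, n1, n2, n3⟩ := key _ _ kd e
      exact ⟨m, n, km.comm, n1, nU _ _ km hm, n2, .inr (.inl n3)⟩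
    · obtain ⟨n, n1, n2, n3⟩ := key _ _ ((kd.inv.mul kρ).mul kd) e
      exact ⟨m, n, km.comm, n1, nU _ _ km hm, n2, .inr (.inr n3)⟩

end Hyp

end Cfsg.Agent.J3L
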