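import Mathlib
import Cfsg.Agent.J3L.LocB

/-!
The extraspecial group of order 32 generated by `Es a b r`.
-/

set_option autoImplicit false
set_option linter.unusedSectionVars false

namespace Cfsg.Agent.J3L

open Cfsg Cfsg.Agent.Spor Cfsg.Agent.Spor.MB Cfsg.Agent.J4T Cfsg.Agent.Loc.Mss Subgroup

variable {G : Type*} [Group G] [Finite G] {ζ : G → G} {a b : G}

namespace LocE

variable {r t u v ρ x y : G}

/-- The four-group generated by `t` and its conjugate. -/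
def F4 (b t : G) : Subgroup G := zpowers t ⊔ zpowers (b * t * b⁻¹)

theorem le_norm_zp (h : Commute x y) : zpowers y ≤ 𝐍[zpowers x] :=
  norm_of_cent (zpowers_le.2 (by rw [mem_cent]; rintro _ ⟨k, rfl⟩; exact (h.zpow_left k).eq))

theorem mem_two (hx : x * x = 1) (hy : y * y = 1) (h : Commute x y) :
    t ∈ zpowers x ⊔ zpowers y ↔ In4 x y t := by
  rw [mem_sup_norm (le_norm_zp h)]
  simp only [mem_zpowers_iff_of_sq hx, mem_zpowers_iff_of_sq hy, In4]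
  constructor
  · rintro ⟨_, rfl | rfl, _, rfl | rfl, rfl⟩ <;> simp
  · rintro (rfl | rfl | rfl | rfl)
    exacts [⟨1, .inl rfl, 1, .inl rfl, mul_one 1⟩, ⟨t, .inr rfl, 1, .inl rfl, mul_one t⟩,
      ⟨1, .inl rfl, t, .inr rfl, one_mul t⟩, ⟨x, .inr rfl, y, .inr rfl, rfl⟩]

theorem sq_conj (h : t * t = 1) (g : G) : g * t * g⁻¹ * (g * t * g⁻¹) = 1 := by rw [conj_mul, h]; group

theorem mem_F4 (h : t ∈ Es a b r) : x ∈ F4 b t ↔ In4 t (b * t * b⁻¹) x :=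
  mem_two h.2.2.1 (sq_conj h.2.2.1 b) h.2.2.2.1

theorem third (h : t ∈ Es a b r) : t * (b * t * b⁻¹) = b⁻¹ * t * b := by
  rw [eq_inv_of_mul_eq_one_left h.2.2.2.2]
  simpa using inv_eq_of_mul_eq_one_right (sq_conj h.2.2.1 b⁻¹)

theorem Es_cj (h : t ∈ Es a b r) (h1 : Commute a x) (h2 : Commute b x) (h3 : Commute r x) :
    x * t * x⁻¹ ∈ Es a b r := by
  have := Es_conj h x
  rwa [← h1.eq, ← h2.eq, ← h3.eq, mul_inv_cancel_right, mul_inv_cancel_right, mul_inv_cancel_right] at this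

theorem one_Es : (1 : G) ∈ Es a b r :=
  ⟨Commute.one_right _, Commute.one_right _, mul_one 1, Commute.one_left _, by simp [tr3]⟩

theorem F4_sub (h : t ∈ Es a b r) (h1 : Commute a b) (h3 : Commute r b) (hx : x ∈ F4 b t) : x ∈ Es a b r := by
  rcases (mem_F4 h).1 hx with rfl | rfl | rfl | rfl
  · exact one_Es
  · exact h
  · exact Es_cj h h1 (Commute.refl b) h3
  · rw [third h]
    simpa using Es_cj h h1.inv_right (Commute.refl b).inv_right h3.inv_right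

theorem F4_le (h : t ∈ Es a b r) {D : Subgroup G} (hb : b ∈ 𝐍[D]) (hx : x ∈ F4 b t) (h1 : x ≠ 1) (hD : x ∈ D) :
    F4 b t ≤ D := by
  have : t ∈ D := by
    rcases (mem_F4 h).1 hx with rfl | rfl | rfl | rfl
    · exact absurd rfl h1
    · exact hD
    · simpa [mul_assoc] using conj_mem_of_norm' hb hD
    · rw [third h] at hD
      simpa [mul_assoc] using conj_mem_of_norm hb hD
  exact sup_le (zpowers_le.2 this) (zpowers_le.2 (conj_mem_of_norm hb this))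

theorem cj_F4 (h : Commute b x) (t : G) : cj(x, F4 b t) = F4 b (x * t * x⁻¹) := by
  rw [F4, cj_sup, cj_zpowers, cj_zpowers, F4]
  congr 2
  calc x * (b * t * b⁻¹) * x⁻¹ = x * b * t * (x * b)⁻¹ := by group
    _ = _ := by rw [← h.eq]; group

theorem left_F4 (b t : G) : t ∈ F4 b t := mem_sup_left (mem_zpowers t)

theorem right_F4 (b t : G) : b * t * b⁻¹ ∈ F4 b t := mem_sup_right (mem_zpowers _)

theorem card_F4 (h : t ∈ Es a b r) (h1 : t ≠ 1) : Nat.card (F4 b t) = 4 := by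
  have h2 : b * t * b⁻¹ ≠ 1 := by simpa using h1
  have h3 := sq_conj h.2.2.1 b
  rw [F4, GT.CopAct.card_sup_of_inf_eq_bot (le_norm_zp h.2.2.2.1), card_zpowers_of_sq h1 h.2.2.1,
    card_zpowers_of_sq h2 h3]
  refine eq_bot_iff.2 fun x hx => ?_
  rcases (mem_zpowers_iff_of_sq h.2.2.1).1 hx.1 with e | rfl
  · exact e
  · refine ((mem_zpowers_iff_of_sq h3).1 hx.2).elim id fun e => ?_
    have := third h
    rw [← e, h.2.2.1] at this
    exact absurd (by simpa [mul_assoc] using congrArg (fun y => b * y * b⁻¹) this.symm) h1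

theorem tr3_mul_cent (h1 : Commute b x) (h2 : Commute t x) : tr3 b (t * x) = tr3 b t * x ^ 3 := by
  have e1 : b * (t * x) * b⁻¹ = b * t * b⁻¹ * x := by rw [mul_assoc (b * t), h1.inv_left.eq]; group
  have e2 : b⁻¹ * (t * x) * b = b⁻¹ * t * b * x := by rw [mul_assoc (b⁻¹ * t), h1.eq]; group
  have c1 : Commute x (b * t * b⁻¹) := (h1.symm.mul_right h2.symm).mul_right h1.symm.inv_right
  have c2 : Commute x (b⁻¹ * t * b) := (h1.symm.inv_right.mul_right h2.symm).mul_right h1.symm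
  rw [tr3, tr3, e1, e2]
  generalize b * t * b⁻¹ = s at c1
  generalize b⁻¹ * t * b = w at c2
  calc t * x * (s * x) * (w * x) = t * (x * s) * (x * w) * x := by group
    _ = t * s * (x * w) * x * x := by rw [c1.eq, c2.eq]; simp only [mul_assoc, c2.left_comm]
    _ = _ := by rw [c2.eq, pow_three']; group

variable {φ : 𝐜[a] →* PG} {q w : PG}

theorem im_Es (hb : Im φ b w) {r1 : PG} (hr : Im φ r r1) (h : t ∈ Es a b r) (k : Im φ t q) : q ∈ Es 1 w r1 :=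
  ⟨Commute.one_left _, hr.commute k h.2.1, (k.mul k).unique (h.2.2.1 ▸ Im.one), k.commute (hb.conj k) h.2.2.2.1,
    (hb.tr k).unique (h.2.2.2.2 ▸ Im.one)⟩

theorem eq_or {z : G} (c : Cov a z φ) (k : Im φ x q) (l : Im φ y q) (hx : x * x = 1) (hy : y * y = 1) :
    y = x ∨ y = x * z := by
  obtain ⟨s, hs, rfl⟩ := c.eq_mul k l
  rw [(c.ker_comm hs k.comm).mul_mul_mul_comm, hx, one_mul] at hy
  rcases c.ker_two (k := 1) hs (by rw [pow_one, sq, hy]) with rfl | rfl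
  exacts [.inl (mul_one x), .inr rfl]

theorem Es_uniq {z : G} (c : Cov a z φ) (hab : Commute a b) (hx : x ∈ Es a b r) (hy : y ∈ Es a b r) (k : Im φ x q)
    (l : Im φ y q) : y = x := by
  refine (eq_or c k l hx.2.2.1 hy.2.2.1).elim id fun e => ?_
  have := hy.2.2.2.2
  rw [e, tr3_mul_cent (c.zc b hab).symm (c.zc x hx.1).symm, hx.2.2.2.2, one_mul, pow_three, c.zz, mul_one] at this
  rw [e, this, mul_one]

theorem in4_im {q1 q2 : PG} (k : Im φ x q1) (l : Im φ y q2) (h : In4 q1 q2 q) : ∃ s, In4 x y s ∧ Im φ s q := by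
  rcases h with rfl | rfl | rfl | rfl
  exacts [⟨1, .inl rfl, Im.one⟩, ⟨x, .inr (.inl rfl), k⟩, ⟨y, .inr (.inr (.inl rfl)), l⟩,
    ⟨_, .inr (.inr (.inr rfl)), k.mul l⟩]

theorem im_in4 {q1 q2 : PG} (k : Im φ x q1) (l : Im φ y q2) (h : In4 x y t) : ∃ s, In4 q1 q2 s ∧ Im φ t s := by
  rcases h with rfl | rfl | rfl | rfl
  exacts [⟨1, .inl rfl, Im.one⟩, ⟨q1, .inr (.inl rfl), k⟩, ⟨q2, .inr (.inr (.inl rfl)), l⟩,
    ⟨_, .inr (.inr (.inr rfl)), k.mul l⟩]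

theorem lift_inv (h : Hyp ζ) (c : Cov a (ζ a) φ) (hq : q ∈ Spor.M22) (h2 : q * q = 1) :
    ∃ t, Im φ t q ∧ t * t = 1 := by
  obtain ⟨t, k, e⟩ := c.lift_two hq h2
  refine ⟨t, k, h.sq_of_im c (k := 2) k h2 ?_⟩
  rw [show 2 ^ 2 = 2 * 2 from rfl, pow_mul, sq t, sq]
  rcases e with e | e <;> rw [e]
  exacts [mul_one 1, c.zz]

theorem lift_Es (h : Hyp ζ) (p : Pr a b) (g : Gd ζ a b r) (c : Cov a (ζ a) φ) (hb : Im φ b w) {r1 : PG}
    (hr : Im φ r r1) (hq : q ∈ Spor.M22) (e : q ∈ Es 1 w r1) : ∃ t ∈ Es a b r, Im φ t q := by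
  obtain ⟨-, e1, e2, e3, e4⟩ := e
  obtain ⟨t, k, tt⟩ := lift_inv h c hq e2
  have k' := k.mul (hb.conj k)
  have s1 := sq_conj tt b
  have q2 : q * (w * q * w⁻¹) * (q * (w * q * w⁻¹)) = 1 := by
    rw [e3.symm.mul_mul_mul_comm, e2, conj_mul, e2]; group
  have c1 : Commute t (b * t * b⁻¹) := by
    have f := (c.ker_comm (c.im_one.1 (q2 ▸ k'.mul k')) k.comm).eq
    generalize b * t * b⁻¹ = s at k' s1 f
    have t2 : ∀ y, t * (t * y) = y := fun y => by rw [← mul_assoc, tt, one_mul]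
    have s2 : ∀ y, s * (s * y) = y := fun y => by rw [← mul_assoc, s1, one_mul]
    have f4 : (t * s) ^ 2 ^ 2 = 1 := by
      calc (t * s) ^ 2 ^ 2 = t * s * (t * s) * t * (s * (t * s)) := by
            rw [show 2 ^ 2 = 2 * 2 from rfl, pow_mul, sq, sq]; simp only [mul_assoc]
        _ = 1 := by rw [f]; simp only [mul_assoc, t2, s2, s1]
    have := h.sq_of_im c k' q2 f4
    calc t * s = (t * s)⁻¹ := eq_inv_of_mul_eq_one_left this
      _ = s * t := by rw [mul_inv_rev, inv_eq_of_mul_eq_one_right tt, inv_eq_of_mul_eq_one_right s1]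
  have c0 : Commute r t := h.gd_comm p g k.comm (c.im_one.1 (by
    have := ((k.mul hr).mul k.inv).mul hr.inv
    rwa [← e1.eq, mul_inv_cancel_right, mul_inv_cancel] at this))
  have b3 : b * b = b⁻¹ := eq_inv_of_mul_eq_one_left (by rw [← p.b_cube, pow_three'])
  have c2 : Commute (b * t * b⁻¹) (b⁻¹ * t * b) := by
    have := comm_conj c1 b
    rwa [show b * (b * t * b⁻¹) * b⁻¹ = b * b * t * (b * b)⁻¹ by group, b3, inv_inv] at this
  have c3 : Commute (b⁻¹ * t * b) t := by simpa [mul_assoc] using comm_conj c1 b⁻¹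
  have s3 : b⁻¹ * t * b * (b⁻¹ * t * b) = 1 := by simpa using sq_conj tt b⁻¹
  have zt := c.zc t k.comm
  have zb := c.zc b p.comm
  rcases c.ker_two (k := 1) (c.im_one.1 (e4 ▸ hb.tr k)) (by
    rw [pow_one, sq, tr3, (c3.mul_right c2.symm).mul_mul_mul_comm, c1.symm.mul_mul_mul_comm, tt, s1, s3]
    simp) with e | e
  · exact ⟨t, ⟨k.comm, c0, tt, c1, e⟩, k⟩
  · refine ⟨t * ζ a, ⟨k.comm.mul_right c.za, c0.mul_right (c.zc r hr.comm).symm, ?_, ?_, ?_⟩,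
      by simpa using k.mul c.im_z⟩
    · rw [zt.mul_mul_mul_comm, tt, c.zz, mul_one]
    · have z1 : Commute (ζ a) (b * t * b⁻¹) := (zb.mul_right zt).mul_right zb.inv_right
      rw [show b * (t * ζ a) * b⁻¹ = b * t * b⁻¹ * ζ a by rw [mul_assoc (b * t), ← zb.inv_right.eq]; group]
      exact (c1.mul_right zt.symm).mul_left (z1.mul_right (Commute.refl _))
    · rw [tr3_mul_cent zb.symm zt.symm, e, pow_three, c.zz, mul_one, c.zz]

/-- A frame. -/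
structure Fr (ζ : G → G) (a b r : G) (M : MD) (φ : 𝐜[a] →* PG) (v u ρ : G) : Prop where
  h : Hyp ζ
  p : Pr a b
  g : Gd ζ a b r
  c : Cov a (ζ a) φ
  ib : Im φ b M.a1
  ir : Im φ r M.r1
  vE : v ∈ Es a b r
  iv : Im φ v M.v1
  uE : u ∈ Es a b r
  iu : Im φ u M.p1
  rR : ρ ∈ RR (AA a b)
  iρ : Im φ ρ M.r2

theorem v_U (M : MD) {w : PG} (h : In4 M.v1 (M.a1 * M.v1 * M.a1⁻¹) w) : w ∈ M.U :=
  (M.mem_U _).2 ⟨1, w, .inl rfl, h, (one_mul _).symm⟩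

theorem r_U (M : MD) {w : PG} (h : In4 M.r1 M.r2 w) : w ∈ M.U :=
  (M.mem_U _).2 ⟨w, 1, h, .inl rfl, (mul_one _).symm⟩

theorem exists_Fr (h : Hyp ζ) (p : Pr a b) (g : Gd ζ a b r) : ∃ M φ v u ρ, Fr ζ a b r M φ v u ρ := by
  obtain ⟨M⟩ := exists_MD
  obtain ⟨φ, c, ib, ir⟩ := h.exists_fr' M p g.mem g.nm
  have h1 := M.B_le (M.U_le (v_U M (.inr (.inl rfl))))
  have h2 := M.B_le M.memB.2.2.1
  have h3 := r_U M (.inr (.inr (.inl rfl)))
  obtain ⟨v, vE, iv⟩ := lift_Es h p g c ib ir h1 ((M.mem_E _ h1).2 (.inl (.inr (.inl rfl))))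
  obtain ⟨u, uE, iu⟩ := lift_Es h p g c ib ir h2 ((M.mem_E _ h2).2 (.inr (.inl (.inr (.inl rfl)))))
  obtain ⟨ρ, iρ, e⟩ := lift_inv h c (M.B_le (M.U_le h3)) (M.U_sq _ h3)
  exact ⟨M, φ, v, u, ρ, h, p, g, c, ib, ir, vE, iv, uE, iu,
    (h.mem_RR_im M p c ib).2 ⟨e, _, .inr (.inr (.inl rfl)), iρ⟩, iρ⟩

namespace Fr

variable {M : MD} (f : Fr ζ a b r M φ v u ρ)
include f

theorem rr : r * r = 1 := ((f.h.mem_RR f.p).1 f.g.mem).2.2

theorem br : Commute b r := ((f.h.mem_RR f.p).1 f.g.mem).2.1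

theorem R_comm (hx : x ∈ RR (AA a b)) (hy : y ∈ RR (AA a b)) : Commute x y :=
  comm_of_sq (fun _ ht => ((f.h.mem_RR f.p).1 ht).2.2) hx hy

theorem R_Es (hx : x ∈ RR (AA a b)) (ht : t ∈ Es a b r) : x * t * x⁻¹ ∈ Es a b r :=
  Es_cj ht ((f.h.mem_RR f.p).1 hx).1 ((f.h.mem_RR f.p).1 hx).2.1 (f.R_comm f.g.mem hx)

theorem u2E : ρ * u * ρ⁻¹ ∈ Es a b r := f.R_Es f.rR f.uE

theorem sub (ht : t ∈ Es a b r) (hx : x ∈ F4 b t) : x ∈ Es a b r := F4_sub ht f.p.comm f.br.symm hx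

theorem uniq (hx : x ∈ Es a b r) (hy : y ∈ Es a b r) (k : Im φ x q) (l : Im φ y q) : y = x :=
  Es_uniq f.c f.p.comm hx hy k l

theorem ne_one (k : Im φ x q) (h : q ≠ 1) : x ≠ 1 := fun e => h (k.unique (e ▸ Im.one))

theorem V_eq : VV (AA a b) a = F4 b v := by
  ext t
  rw [mem_F4 f.vE]
  exact f.h.VV_gen f.p ((f.h.mem_VV f.p).2 ⟨(f.h.mem_UU_im M f.p f.c f.ib).2
    ⟨f.vE.2.2.1, _, v_U M (.inr (.inl rfl)), f.iv⟩, f.vE.2.2.2.2⟩) (f.ne_one f.iv M.v_ne)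

theorem lift (ht : t ∈ Es a b r) (k : Im φ t w) (h : In4 w (M.a1 * w * M.a1⁻¹) q) : ∃ s ∈ F4 b t, Im φ s q :=
  let ⟨s, h1, h2⟩ := in4_im k (f.ib.conj k) h
  ⟨s, (mem_F4 ht).2 h1, h2⟩

theorem down (ht : t ∈ Es a b r) (k : Im φ t w) (h : x ∈ F4 b t) : ∃ q, In4 w (M.a1 * w * M.a1⁻¹) q ∧ Im φ x q :=
  im_in4 k (f.ib.conj k) ((mem_F4 ht).1 h)

theorem cj_u : cj(ρ, F4 b u) = F4 b (ρ * u * ρ⁻¹) := cj_F4 ((f.h.mem_RR f.p).1 f.rR).2.1 u

theorem mem_Es : t ∈ Es a b r ↔ t ∈ F4 b v ∨ t ∈ F4 b u ∨ t ∈ F4 b (ρ * u * ρ⁻¹) := by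
  refine ⟨fun ht => ?_, fun ht => ht.elim (f.sub f.vE) fun ht => ht.elim (f.sub f.uE) (f.sub f.u2E)⟩
  obtain ⟨q, k⟩ := Im.of_comm (φ := φ) ht.1
  rcases (M.mem_E q (f.c.mem k)).1 (im_Es f.ib f.ir ht k) with e | e | e
  · obtain ⟨s, h1, h2⟩ := f.lift f.vE f.iv e
    exact .inl (f.uniq (f.sub f.vE h1) ht h2 k ▸ h1)
  · obtain ⟨s, h1, h2⟩ := f.lift f.uE f.iu e
    exact .inr (.inl (f.uniq (f.sub f.uE h1) ht h2 k ▸ h1))
  · obtain ⟨s, h1, h2⟩ := f.lift f.uE f.iu e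
    have e1 := inv_eq_of_mul_eq_one_right ((f.h.mem_RR f.p).1 f.rR).2.2
    refine .inr (.inr ?_)
    rw [← f.cj_u, mem_cj, e1]
    have := f.uniq (f.sub f.uE h1) (f.R_Es f.rR ht) h2 (f.iρ.conj k)
    rw [e1] at this
    exact this ▸ h1

theorem V_UU (hx : x ∈ F4 b v) : x ∈ UU (AA a b) a := ((f.h.mem_VV f.p).1 (f.V_eq ▸ hx)).1

theorem R_V (hx : x ∈ F4 b v) (hy : y ∈ RR (AA a b)) : Commute y x :=
  mem_cent.1 ((f.h.mem_UU f.p).1 (f.V_UU hx)).2.1 y hy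

theorem EV (ht : t ∈ Es a b r) (hx : x ∈ F4 b v) (k : Im φ t q) (l : Im φ x w) :
    (Commute q w → Commute t x) ∧ (q * w = M.r1 * (w * q) → t * x = r * (x * t)) := by
  have xE := f.sub f.vE hx
  have s1 := sq_conj xE.2.2.1 t
  have ty : ∀ y, t * x * t⁻¹ = y * ζ a → Commute a y → y * y = 1 → (C6 ζ → ¬ IsConj (ζ a) y) →
      t * x * t⁻¹ = y := fun y e h1 h2 h3 => by
    rcases f.h.sep with h6 | h6
    · rw [e, h6 a f.p.a3, mul_one]
    · have n := f.h.VV_type f.p h6 (f.V_eq ▸ hx)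
      have n2 : ¬ IsConj (ζ a) (y * ζ a) := fun k => n (k.trans (e ▸ (isConj_iff.2 ⟨t, rfl⟩ :
        IsConj x (t * x * t⁻¹)).symm))
      by_cases hy : y ∈ zpowers (ζ a)
      · rcases (mem_zpowers_iff_of_sq f.c.zz).1 hy with rfl | rfl
        · exact absurd (by rw [one_mul]) n2
        · exact absurd (IsConj.refl _) (h3 h6)
      · exact absurd ((f.h.type_lift h6 f.p.a3 h1 h2 hy).2 n2) (h3 h6)
  refine ⟨fun e => ?_, fun e => ?_⟩
  · have l' : Im φ (t * x * t⁻¹) w := by simpa [e.eq] using k.conj l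
    refine mul_inv_eq_iff_eq_mul.1 ((eq_or f.c l l' xE.2.2.1 s1).elim id fun e' => ?_)
    exact ty x e' xE.1 xE.2.2.1 fun h6 => f.h.VV_type f.p h6 (f.V_eq ▸ hx)
  · have l' : Im φ (t * x * t⁻¹) (M.r1 * w) := by simpa [e, mul_assoc] using k.conj l
    have s2 : r * x * (r * x) = 1 := by rw [xE.2.1.symm.mul_mul_mul_comm, f.rr, xE.2.2.1, mul_one]
    rw [← mul_assoc]
    refine mul_inv_eq_iff_eq_mul.1 ((eq_or f.c (f.ir.mul l) l' s2 s1).elim id fun e' => ?_)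
    refine ty _ e' (f.ir.comm.mul_right xE.1) s2 fun h6 => f.h.nonsplit f.p h6 f.g (f.V_eq ▸ hx) fun e1 => ?_
    rw [l.unique (e1 ▸ Im.one)] at e
    exact M.r_ne.1 (by simpa using e)

theorem EV' (ht : t ∈ Es a b r) (hx : x ∈ F4 b v) : Commute t x ∨ t * x = r * (x * t) := by
  obtain ⟨q, k⟩ := Im.of_comm (φ := φ) ht.1
  obtain ⟨w, l⟩ := Im.of_comm (φ := φ) (f.sub f.vE hx).1
  exact (M.E_comm q (f.c.mem k) w (f.c.mem l) (im_Es f.ib f.ir ht k) (im_Es f.ib f.ir (f.sub f.vE hx) l)).imp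
    (f.EV ht hx k l).1 (f.EV ht hx k l).2

theorem not_comm (ht : t ∈ Es a b r) (hx : x ∈ F4 b v) (k : Im φ t q) (l : Im φ x w) (h : ¬ Commute q w) :
    t * x = r * (x * t) := (f.EV' ht hx).resolve_left fun e => h (k.commute l e)

theorem uv : Commute u v := (f.EV f.uE (left_F4 b v) f.iu f.iv).1 M.pv.1

theorem uv' : u * (b * v * b⁻¹) = r * (b * v * b⁻¹ * u) :=
  f.not_comm f.uE (right_F4 b v) f.iu (f.ib.conj f.iv) M.pv.2.1

theorem u2 : ρ * u * ρ⁻¹ = u * v * r := by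
  have c1 : Commute (u * v) r := (f.uE.2.1.mul_right f.vE.2.1).symm
  have k : Im φ (u * v * r) (M.r2 * M.p1 * M.r2⁻¹) := by
    rw [M.pw, (f.ir.commute f.iv f.vE.2.1).eq, ← mul_assoc]; exact (f.iu.mul f.iv).mul f.ir
  have s : u * v * (u * v) = 1 := by rw [f.uv.symm.mul_mul_mul_comm, f.uE.2.2.1, f.vE.2.2.1, mul_one]
  refine (eq_or f.c k (f.iρ.conj f.iu) (by rw [c1.symm.mul_mul_mul_comm, s, f.rr, mul_one])
    f.u2E.2.2.1).elim id fun e => ?_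
  have e1 := f.u2E.2.2.2.2
  have e2 : tr3 b (u * v) = r := by
    have h1 := f.uv'
    have h2 := f.not_comm (f.sub f.uE (right_F4 b u)) (left_F4 b v) (f.ib.conj f.iu) f.iv M.pv.2.2
    have h3 := comm_conj f.uv b
    have h4 := f.uE.2.2.2.1
    have h5 := sq_conj f.uE.2.2.1 b
    have h6 := sq_conj f.vE.2.2.1 b
    have h7 := (f.sub f.uE (right_F4 b u)).2.1
    have h8 := (f.sub f.vE (right_F4 b v)).2.1
    have h9 := f.vE.2.2.2.1
    rw [tr3, ← conj_mul, show b⁻¹ * (u * v) * b = b⁻¹ * u * b * (b⁻¹ * v * b) by group, ← third f.uE, ← third f.vE]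
    generalize b * u * b⁻¹ = u' at h1 h2 h3 h4 h5 h7
    generalize b * v * b⁻¹ = v' at h1 h3 h6 h8 h9
    have g1 : v' * u = r * (u * v') := by rw [h1, ← mul_assoc, f.rr, one_mul]
    calc u * v * (u' * v') * (u * u' * (v * v')) = u * v * u' * (v' * u) * u' * (v * v') := by group
      _ = r * (u * v * (u' * u) * (v' * u') * (v * v')) := by
        rw [g1, ← mul_assoc (u * v * u') r, ← ((f.uE.2.1.mul_right f.vE.2.1).mul_right h7).eq]; group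
      _ = r * (u * (v * u) * (u' * u') * (v' * v) * v') := by rw [← h4.eq, ← h3.eq]; group
      _ = r * (u * u * (v * v) * (v' * v')) := by rw [← f.uv.eq, h5, ← h9.eq]; group
      _ = r := by rw [f.uE.2.2.1, f.vE.2.2.1, h6]; simp
  rw [e, tr3_mul_cent (f.c.zc b f.p.comm).symm (f.c.zc _ k.comm).symm, tr3_mul_cent f.br c1, e2, pow_three,
    pow_three, f.rr, f.c.zz, mul_one, f.rr, one_mul, mul_one] at e1
  rw [e, e1, mul_one]

theorem u2' : b * (ρ * u * ρ⁻¹) * b⁻¹ = b * u * b⁻¹ * (b * v * b⁻¹) * r := by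
  rw [f.u2, conj_mul, mul_assoc _ b⁻¹, f.br.inv_left.eq]; group

theorem R_cj (hx : x ∈ RR (AA a b)) (n : ¬ In4 (ζ a) r x) : x * u * x⁻¹ = ρ * u * ρ⁻¹ := by
  obtain ⟨xx, q, hq, k⟩ := (f.h.mem_RR_im M f.p f.c f.ib).1 hx
  have c := (im_Es f.ib f.ir f.u2E (f.iρ.conj f.iu)).2.1
  rcases hq with rfl | rfl | rfl | rfl
  · exact absurd ((eq_or f.c Im.one k (mul_one 1) xx).imp id fun e => .inl (e.trans (one_mul _))) n
  · exact absurd (.inr (.inr ((eq_or f.c f.ir k f.rr xx).imp id fun e => e.trans (f.c.zc r f.ir.comm).eq.symm))) n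
  · exact f.uniq f.u2E (f.R_Es hx f.uE) (f.iρ.conj f.iu) (k.conj f.iu)
  · refine f.uniq f.u2E (f.R_Es hx f.uE) (f.iρ.conj f.iu) ?_
    have := k.conj f.iu
    rwa [show M.r1 * M.r2 * M.p1 * (M.r1 * M.r2)⁻¹ = M.r1 * (M.r2 * M.p1 * M.r2⁻¹) * M.r1⁻¹ by group, c.eq,
      mul_inv_cancel_right] at this

theorem r_ne : r ≠ 1 := f.ne_one f.ir M.r_ne.1

theorem cases {D : Subgroup G} (hD : ∀ t ∈ D, t ∈ Es a b r) (hb : b ∈ 𝐍[D]) (hx : x ∈ D) (h1 : x ≠ 1) :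
    (x ∈ F4 b v ∧ F4 b v ≤ D) ∨ (x ∈ F4 b u ∧ F4 b u ≤ D) ∨
      (x ∈ F4 b (ρ * u * ρ⁻¹) ∧ F4 b (ρ * u * ρ⁻¹) ≤ D) :=
  (f.mem_Es.1 (hD x hx)).imp (fun e => ⟨e, F4_le f.vE hb e h1 hx⟩) (Or.imp (fun e => ⟨e, F4_le f.uE hb e h1 hx⟩)
    fun e => ⟨e, F4_le f.u2E hb e h1 hx⟩)

theorem sub_eq {D : Subgroup G} (h0 : D ≠ ⊥) (hD : ∀ t ∈ D, t ∈ Es a b r) (hb : b ∈ 𝐍[D]) :
    D = F4 b v ∨ D = F4 b u ∨ D = F4 b (ρ * u * ρ⁻¹) := by
  have cm : ∀ {s t}, s ∈ D → t ∈ D → Commute s t := comm_of_sq fun t ht => (hD t ht).2.2.1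
  have n0 : ¬ Commute u (b * v * b⁻¹) := fun e => M.pv.2.1 (f.iu.commute (f.ib.conj f.iv) e)
  have n1 : F4 b v ≤ D → F4 b u ≤ D → False := fun h1 h2 => n0 (cm (h2 (left_F4 _ _)) (h1 (right_F4 _ _)))
  have n2 : F4 b v ≤ D → F4 b (ρ * u * ρ⁻¹) ≤ D → False := fun h1 h2 => n0 (by
    have := comm_conj (cm (h2 (left_F4 _ _)) (h1 (right_F4 _ _))) ρ⁻¹
    rwa [(f.R_V (right_F4 b v) f.rR).inv_left.eq, mul_inv_cancel_right, show ρ⁻¹ * (ρ * u * ρ⁻¹) * ρ⁻¹⁻¹ = u by group]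
      at this)
  have n3 : F4 b u ≤ D → F4 b (ρ * u * ρ⁻¹) ≤ D → False := fun h1 h2 => by
    have e := (hD _ (mul_mem (h1 (left_F4 _ _)) (h2 (left_F4 _ _)))).2.2.2.2
    rw [f.u2, ← mul_assoc, ← mul_assoc, f.uE.2.2.1, one_mul, tr3_mul_cent f.br f.vE.2.1.symm, f.vE.2.2.2.2,
      pow_three, f.rr, mul_one, one_mul] at e
    exact f.r_ne e
  obtain ⟨⟨x, hx⟩, h1⟩ := ne_bot_iff_exists_ne_one.1 h0
  have key : ∀ F : Subgroup G, F ≤ D → (∀ y ∈ D, y ≠ 1 → y ∈ F) → D = F := fun F h1 h2 =>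
    le_antisymm (fun y hy => (em (y = 1)).elim (fun e => e ▸ one_mem F) (h2 y hy)) h1
  rcases f.cases hD hb hx (fun e => h1 (Subtype.ext e)) with ⟨-, e⟩ | ⟨-, e⟩ | ⟨-, e⟩
  · exact .inl (key _ e fun y hy y1 => (f.cases hD hb hy y1).elim And.left fun k =>
      k.elim (fun k => (n1 e k.2).elim) fun k => (n2 e k.2).elim)
  · exact .inr (.inl (key _ e fun y hy y1 => (f.cases hD hb hy y1).elim (fun k => (n1 k.2 e).elim) fun k =>
      k.elim And.left fun k => (n3 e k.2).elim))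
  · exact .inr (.inr (key _ e fun y hy y1 => (f.cases hD hb hy y1).elim (fun k => (n2 k.2 e).elim) fun k =>
      k.elim (fun k => (n3 k.2 e).elim) And.left))

theorem r_norm : zpowers r ≤ 𝐍[F4 b v] :=
  norm_of_cent (zpowers_le.2 (mem_cent.2 fun _ hx => (f.sub f.vE hx).2.1.symm))

theorem u_norm : F4 b u ≤ 𝐍[F4 b v ⊔ zpowers r] := fun t ht => mem_norm_of_cj_le (by
  have tE := f.sub f.uE ht
  rw [cj_sup, cj_zpowers, ← tE.2.1.eq, mul_inv_cancel_right]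
  refine sup_le (cj_le_iff.2 fun x hx => ?_) le_sup_right
  rcases f.EV' tE hx with e | e
  · rw [e.eq, mul_inv_cancel_right]; exact mem_sup_left hx
  · rw [e, ← mul_assoc, mul_inv_cancel_right]
    exact mul_mem (mem_sup_right (mem_zpowers r)) (mem_sup_left hx))

theorem r_mem : r ∈ closure (Es a b r) := by
  have h1 : u ∈ closure (Es a b r) := subset_closure f.uE
  have h2 : b * v * b⁻¹ ∈ closure (Es a b r) := subset_closure (f.sub f.vE (right_F4 b v))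
  exact (mul_mem_cancel_right (mul_mem h2 h1)).1 (f.uv' ▸ mul_mem h1 h2)

theorem clo : closure (Es a b r) = F4 b u ⊔ (F4 b v ⊔ zpowers r) := by
  refine le_antisymm ((closure_le _).2 fun t ht => ?_) (sup_le (fun t ht => subset_closure (f.sub f.uE ht))
    (sup_le (fun t ht => subset_closure (f.sub f.vE ht)) (zpowers_le.2 f.r_mem)))
  rcases f.mem_Es.1 ht with e | e | e
  · exact mem_sup_right (mem_sup_left e)
  · exact mem_sup_left e
  · refine (sup_le (zpowers_le.2 ?_) (zpowers_le.2 ?_) : F4 b (ρ * u * ρ⁻¹) ≤ _) e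
    · rw [f.u2]
      exact mul_mem (mul_mem (mem_sup_left (left_F4 _ _)) (mem_sup_right (mem_sup_left (left_F4 _ _))))
        (mem_sup_right (mem_sup_right (mem_zpowers r)))
    · rw [f.u2']
      exact mul_mem (mul_mem (mem_sup_left (right_F4 _ _)) (mem_sup_right (mem_sup_left (right_F4 _ _))))
        (mem_sup_right (mem_sup_right (mem_zpowers r)))

theorem nf (hx : x ∈ closure (Es a b r)) : ∃ s ∈ F4 b u, ∃ t ∈ F4 b v, ∃ k ∈ zpowers r, x = s * t * k := by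
  rw [f.clo, mem_sup_norm' f.u_norm] at hx
  obtain ⟨s, hs, y, hy, rfl⟩ := hx
  obtain ⟨t, ht, k, hk, rfl⟩ := (mem_sup_norm f.r_norm).1 hy
  exact ⟨s, hs, t, ht, k, hk, (mul_assoc _ _ _).symm⟩

theorem zp_comm (hx : x ∈ zpowers r) (ht : t ∈ Es a b r) : Commute x t := by
  obtain ⟨k, rfl⟩ := hx
  exact ht.2.1.zpow_left k

theorem card : Nat.card (closure (Es a b r)) = 32 := by
  rw [f.clo, sup_comm, GT.CopAct.card_sup_of_inf_eq_bot f.u_norm, GT.CopAct.card_sup_of_inf_eq_bot f.r_norm,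
    card_F4 f.uE (f.ne_one f.iu M.p_ne), card_F4 f.vE (f.ne_one f.iv M.v_ne), card_zpowers_of_sq f.r_ne f.rr]
  · refine eq_bot_iff.2 fun x hx => ((mem_zpowers_iff_of_sq f.rr).1 hx.2).elim id fun e => ?_
    have := (f.sub f.vE hx.1).2.2.2.2
    rw [e, tr3_of_comm f.br, pow_three, f.rr, mul_one] at this
    exact absurd this f.r_ne
  · refine eq_bot_iff.2 fun x hx => ?_
    obtain ⟨q, h1, k⟩ := f.down f.uE f.iu hx.2
    have h2 : F4 b v ⊔ zpowers r ≤ UU (AA a b) a :=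
      sup_le (fun _ => f.V_UU) (zpowers_le.2 (f.h.RR_le_UU f.p f.g.mem))
    obtain ⟨-, w, h3, l⟩ := (f.h.mem_UU_im M f.p f.c f.ib).1 (h2 hx.1)
    rw [M.p_notU q h1 (k.unique l ▸ h3)] at k
    exact f.uniq one_Es (f.sub f.uE hx.2) Im.one k

theorem lift_pv {q1 q2 : PG} (h1 : In4 M.p1 (M.a1 * M.p1 * M.a1⁻¹) q1) (h2 : In4 M.v1 (M.a1 * M.v1 * M.a1⁻¹) q2) :
    ∃ e ∈ closure (Es a b r), Im φ e (q1 * q2) := by
  obtain ⟨s, hs, k⟩ := f.lift f.uE f.iu h1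
  obtain ⟨t, ht, l⟩ := f.lift f.vE f.iv h2
  exact ⟨s * t, mul_mem (subset_closure (f.sub f.uE hs)) (subset_closure (f.sub f.vE ht)), k.mul l⟩

end Fr

theorem alt_mul (hr : r * r = 1) (c1 : Commute r x) (h1 : Commute x t ∨ x * t = r * (t * x))
    (h2 : Commute y t ∨ y * t = r * (t * y)) : Commute (x * y) t ∨ x * y * t = r * (t * (x * y)) := by
  rcases h1 with h1 | h1 <;> rcases h2 with h2 | h2
  · exact .inl (h1.mul_left h2)
  · exact .inr (by rw [mul_assoc, h2, ← c1.left_comm, ← mul_assoc x, h1.eq, mul_assoc])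
  · exact .inr (by rw [mul_assoc, h2.eq, ← mul_assoc, h1]; simp only [mul_assoc])
  · refine .inl ?_
    change x * y * t = t * (x * y)
    rw [mul_assoc, h2, ← c1.left_comm, ← mul_assoc x, h1, ← mul_assoc, ← mul_assoc, hr, one_mul, mul_assoc]

theorem alt_symm (hr : r * r = 1) (h : Commute x t ∨ x * t = r * (t * x)) : Commute t x ∨ t * x = r * (x * t) :=
  h.imp Commute.symm fun e => by rw [e, ← mul_assoc, hr, one_mul]

end LocE

open LocE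

namespace Hyp

variable (h : Hyp ζ) (p : Pr a b) {r : G} (g : Gd ζ a b r)
include h p g

theorem VV_sub {v : G} (hv : v ∈ VV (AA a b) a) : v ∈ Es a b r := by
  obtain ⟨M, φ, v, u, ρ, f⟩ := exists_Fr h p g
  exact f.sub f.vE (f.V_eq ▸ hv)

theorem E_comm {t t' : G} (h1 : t ∈ Es a b r) (h2 : t' ∈ Es a b r) : Commute t t' ∨ t * t' = r * (t' * t) := by
  obtain ⟨M, φ, v, u, ρ, f⟩ := exists_Fr h p g
  have key : ∀ y, (∀ s ∈ F4 b u, Commute s y ∨ s * y = r * (y * s)) → (∀ s ∈ F4 b v, Commute s y ∨ s * y = r * (y * s)) →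
      Commute r y → ∀ x ∈ Es a b r, Commute x y ∨ x * y = r * (y * x) := fun y k1 k2 k3 x hx => by
    obtain ⟨s, hs, t, ht, _, ⟨k, rfl⟩, rfl⟩ := f.nf (subset_closure hx)
    exact alt_mul f.rr ((f.sub f.uE hs).2.1.mul_right (f.sub f.vE ht).2.1)
      (alt_mul f.rr (f.sub f.uE hs).2.1 (k1 s hs) (k2 t ht)) (.inl (k3.zpow_left k))
  refine key t' (fun s hs => alt_symm f.rr (key s (fun y hy => .inl ?_) (fun y hy => ?_) (f.sub f.uE hs).2.1 t' h2))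
    (fun s hs => alt_symm f.rr (f.EV' h2 hs)) h2.2.1 t h1
  · exact comm_of_sq (fun _ k => (f.sub f.uE k).2.2.1) hy hs
  · exact alt_symm f.rr (f.EV' (f.sub f.uE hs) hy)

theorem E_struct : ∃ P1 P2 : Subgroup G, (∀ t, t ∈ Es a b r ↔ t ∈ VV (AA a b) a ∨ t ∈ P1 ∨ t ∈ P2) ∧
    (∀ D : Subgroup G, D ≠ ⊥ → (∀ t ∈ D, t ∈ Es a b r) → b ∈ 𝐍[D] → D = VV (AA a b) a ∨ D = P1 ∨ D = P2) ∧
    (∀ ρ ∈ RR (AA a b), ¬ In4 (ζ a) r ρ → cj(ρ, P1) = P2 ∧ cj(ρ, P2) = P1) ∧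
    VV (AA a b) a ≤ P1 ⊔ P2 ⊔ zpowers r := by
  obtain ⟨M, φ, v, u, ρ, f⟩ := exists_Fr h p g
  rw [f.V_eq]
  refine ⟨F4 b u, F4 b (ρ * u * ρ⁻¹), fun t => f.mem_Es, fun D => f.sub_eq, fun x hx n => ?_,
    sup_le (zpowers_le.2 ?_) (zpowers_le.2 ?_)⟩
  · have e : cj(x, F4 b u) = F4 b (ρ * u * ρ⁻¹) := by rw [cj_F4 ((h.mem_RR p).1 hx).2.1, f.R_cj hx n]
    exact ⟨e, by rw [← e, cj_cj, ((h.mem_RR p).1 hx).2.2, cj_one]⟩
  · refine (mul_mem_cancel_left (mem_sup_left (mem_sup_left (left_F4 b u)))).1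
      ((mul_mem_cancel_right (mem_sup_right (mem_zpowers r))).1 ?_)
    exact f.u2 ▸ mem_sup_left (mem_sup_right (left_F4 _ _))
  · refine (mul_mem_cancel_left (mem_sup_left (mem_sup_left (right_F4 b u)))).1
      ((mul_mem_cancel_right (mem_sup_right (mem_zpowers r))).1 ?_)
    exact f.u2' ▸ mem_sup_left (mem_sup_right (right_F4 _ _))

theorem card_E : Nat.card (closure (Es a b r)) = 32 := by
  obtain ⟨M, φ, v, u, ρ, f⟩ := exists_Fr h p g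
  exact f.card

theorem r_mem_E : r ∈ closure (Es a b r) := by
  obtain ⟨M, φ, v, u, ρ, f⟩ := exists_Fr h p g
  exact f.r_mem

theorem E_cent {e : G} (h1 : e ∈ closure (Es a b r)) (h2 : ∀ t ∈ Es a b r, Commute t e) : e ∈ zpowers r := by
  obtain ⟨M, φ, v, u, ρ, f⟩ := exists_Fr h p g
  obtain ⟨s, hs, t, ht, k, hk, rfl⟩ := f.nf h1
  obtain ⟨q, q1, q2⟩ := f.down f.uE f.iu hs
  obtain ⟨w, w1, w2⟩ := f.down f.vE f.iv ht
  have c : ∀ y ∈ Es a b r, ∀ l, Im φ y l → Commute l (q * w) := fun y hy l k' => k'.commute (q2.mul w2) (by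
    simpa using (h2 y hy).mul_right (f.zp_comm hk hy).symm.inv_right)
  obtain ⟨rfl, rfl⟩ := M.E_cent q w q1 w1 (c v f.vE _ f.iv) (c _ (f.sub f.vE (right_F4 _ _)) _ (f.ib.conj f.iv))
    (c u f.uE _ f.iu) (c _ (f.sub f.uE (right_F4 _ _)) _ (f.ib.conj f.iu))
  rwa [f.uniq one_Es (f.sub f.uE hs) Im.one q2, f.uniq one_Es (f.sub f.vE ht) Im.one w2, one_mul, one_mul]

theorem E_move : ∃ t ∈ Es a b r, ∃ n : G, Commute a n ∧ n ∈ 𝐍[UU (AA a b) a] ∧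
    3 ∣ orderOf (t * (n * t * n⁻¹)) := by
  obtain ⟨M, φ, v, u, ρ, f⟩ := exists_Fr h p g
  obtain ⟨n, k⟩ := f.c.lift (M.B_le M.memB.2.2.2.2.2.1)
  refine ⟨u, f.uE, n, k.comm, h.norm_UU_im M p f.c f.ib k M.memB.2.2.2.2.2.1, ?_⟩
  obtain ⟨h1, h2⟩ := f.iu.mul (k.conj f.iu)
  rw [← M.m6, ← h2, ← Subgroup.orderOf_mk _ h1]
  exact orderOf_map_dvd φ _

theorem cent_fac {c : G} (h1 : Commute a c) (h2 : Commute r c) :
    ∃ e ∈ closure (Es a b r), ∃ n ∈ 𝐍[AA a b], c = e * n := by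
  obtain ⟨M, φ, v, u, ρ, f⟩ := exists_Fr h p g
  obtain ⟨q, k⟩ := Im.of_comm (φ := φ) h1
  obtain ⟨q1, q2, n, e1, e2, rfl, e3⟩ := M.cent_r_fac q (f.c.mem k) (f.ir.commute k h2)
  obtain ⟨e, he, l⟩ := f.lift_pv e1 e2
  have k' : Im φ (e⁻¹ * c) n := by simpa only [inv_mul_cancel_left] using l.inv.mul k
  refine ⟨e, he, e⁻¹ * c, mem_norm_of_cj_le ?_, by group⟩
  rw [cj_AA, ← k'.comm.eq, mul_inv_cancel_right]
  refine AA_le (left_mem_AA a b) (h.mem_AA p (k := 1) ?_ (k'.conj f.ib).comm ?_)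
  · rw [pow_one, conj_pow, p.b_cube]; group
  · rcases e3 with e3 | e3
    · obtain ⟨s, hs, e4⟩ := f.c.eq_mul f.ib (e3 ▸ k'.conj f.ib)
      exact e4 ▸ (Commute.refl b).mul_right (f.c.ker_comm hs p.comm).symm
    · obtain ⟨s, hs, e4⟩ := f.c.eq_mul f.ib.inv (e3 ▸ k'.conj f.ib)
      exact e4 ▸ (Commute.refl b).inv_right.mul_right (f.c.ker_comm hs p.comm).symm

theorem cent_tr {t : G} (h1 : Commute a t) (h2 : Commute r t) (h3 : t ^ 4 = 1) (h4 : tr3 b t ∈ zpowers r) :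
    ∃ e ∈ closure (Es a b r), e⁻¹ * t ∈ zpowers a ⊔ zpowers (ζ a) := by
  obtain ⟨M, φ, v, u, ρ, f⟩ := exists_Fr h p g
  obtain ⟨q, k⟩ := Im.of_comm (φ := φ) h1
  obtain ⟨q1, q2, e1, e2, e3⟩ := M.cent_r_tr q (f.c.mem k) (f.ir.commute k h2) ((k.pow 4).unique (h3 ▸ Im.one))
    (((mem_zpowers_iff_of_sq f.rr).1 h4).imp (fun e => (f.ib.tr k).unique (by rw [e]; exact Im.one))
      fun e => (f.ib.tr k).unique (by rw [e]; exact f.ir))
  obtain ⟨e, he, l⟩ := f.lift_pv e1 e2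
  rcases e3 with rfl | rfl
  · exact ⟨e, he, f.c.im_one.1 (by simpa only [inv_mul_cancel] using l.inv.mul k)⟩
  · exact ⟨e * r, mul_mem he f.r_mem, f.c.im_one.1 (by simpa only [inv_mul_cancel] using (l.mul f.ir).inv.mul k)⟩

end Hyp

end Cfsg.Agent.J3L
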