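import Mathlib
import Cfsg.Agent.J3L.VApi
import Cfsg.Agent.J3L.LocE

/-!
The generators of `Q` commute modulo `z`.
-/

set_option autoImplicit false

namespace Cfsg.Agent.J3L

open Cfsg Cfsg.Agent.Spor Cfsg.Agent.Spor.MB Cfsg.Agent.J4T Cfsg.Agent.Loc.Mss Subgroup
open scoped commutatorElement

variable {G : Type*} [Group G]

namespace QA

theorem conj_eq {g x : G} (h : Commute x g) : g * x * g⁻¹ = x := by
  rw [← h.eq, mul_inv_cancel_right]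

theorem Es_inv_left {y a z t : G} : t ∈ Es y⁻¹ a z ↔ t ∈ Es y a z := by
  simp only [Es, Set.mem_setOf_eq, Commute.inv_left_iff]

theorem Es_conj' {y a z t g : G} (h : t ∈ Es y a z) (h1 : Commute y g) (h2 : Commute a g) (h3 : Commute z g) :
    g * t * g⁻¹ ∈ Es y a z := by
  have := Es_conj h g
  rwa [conj_eq h1, conj_eq h2, conj_eq h3] at this

/-- An elementary abelian group on which `a` acts without fixed points. -/
structure WD (a b z : G) (X : Subgroup G) : Prop where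
  sq : ∀ w ∈ X, w * w = 1
  cz : ∀ w ∈ X, Commute z w
  tr : ∀ w ∈ X, tr3 a w = 1
  nA : AA a b ≤ 𝐍[X]
  card : Nat.card X = 64

theorem WD.mem_Es {a b z y t : G} {X : Subgroup G} (w : WD a b z X) (ht : t ∈ X ⊓ 𝐜[y]) : t ∈ Es y a z := by
  obtain ⟨h1, h2⟩ := mem_inf.1 ht
  exact ⟨mem_c.1 h2, w.cz t h1, w.sq t h1,
    comm_of_sq w.sq h1 (conj_mem_of_norm (w.nA (left_mem_AA a b)) h1), w.tr t h1⟩

theorem WD.gen [Finite G] {a b z : G} {X L : Subgroup G} (w : WD a b z X) (p : Pr a b)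
    (hL : ∀ y ∈ AA a b, y ∉ zpowers a → X ⊓ 𝐜[y] ≤ L) : X ≤ L := by
  refine p.gen w.nA (by rw [w.card]; decide) fun c hc h1 => ?_
  by_cases hca : c ∈ zpowers a
  · intro t ht
    obtain ⟨h2, h3⟩ := mem_inf.1 ht
    have h4 : Commute a t := by
      rcases (mem_zpowers_three p.a3).1 hca with e | e | e
      · exact absurd e h1
      · exact e ▸ mem_c.1 h3
      · have := mem_c.1 h3
        rw [e] at this
        exact Commute.inv_left_iff.1 this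
    have h5 := w.tr t h2
    rw [tr3_of_comm h4, pow_succ, _root_.sq, w.sq t h2, one_mul] at h5
    exact h5 ▸ one_mem L
  · exact hL c hc hca

/-- A property which is invariant under inversion and under `s` does not depend on the element outside `⟨a⟩`. -/
theorem all_iff {a b s : G} (p : Pr a b) (h1 : Commute a s) (h2 : s * b * s⁻¹ = a * b) {Φ : G → Prop}
    (hi : ∀ y, Φ y⁻¹ ↔ Φ y) (hs : ∀ y, Φ (s * y * s⁻¹) ↔ Φ y) {y : G} (hy : y ∈ AA a b) (hn : y ∉ zpowers a) :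
    Φ y ↔ Φ b := by
  have e1 : Φ (a * b) ↔ Φ b := by rw [← h2, hs]
  have e2 : Φ (a⁻¹ * b) ↔ Φ b := by
    have e3 : s * (a * b) * s⁻¹ = a⁻¹ * b := by
      have e4 : a⁻¹ = a * a := by
        rw [inv_eq_iff_mul_eq_one, ← p.a_cube, pow_three]
      calc s * (a * b) * s⁻¹ = (s * a * s⁻¹) * (s * b * s⁻¹) := by group
        _ = a⁻¹ * b := by rw [conj_eq h1, h2, e4, mul_assoc]
    rw [← e3, hs, e1]
  rcases p.cases hy (fun e => hn (e ▸ one_mem _)) with (e | e) | (e | e) | (e | e) | (e | e)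
  · exact absurd (e ▸ mem_zpowers a) hn
  · exact absurd (e ▸ inv_mem (mem_zpowers a)) hn
  · rw [e]
  · rw [e, hi]
  · rw [e, e1]
  · rw [e, hi, e1]
  · rw [e, e2]
  · rw [e, hi, e2]

theorem norm_AA {a b s : G} (p : Pr a b) (h1 : Commute a s) (h2 : s * b * s⁻¹ = a * b) : s ∈ 𝐍[AA a b] :=
  cj_eq_iff.1 (by rw [cj_AA, conj_eq h1, h2, p.mul_left.2])

theorem not_mem_pr {a b : G} (p : Pr a b) :
    a * b ∉ zpowers b ∧ a⁻¹ * b ∉ zpowers b ∧ b ∉ zpowers (a * b) ∧ b ∉ zpowers (a⁻¹ * b) ∧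
      a⁻¹ * b ∉ zpowers (a * b) ∧ a * b ∉ zpowers (a⁻¹ * b) := by
  have k1 : a * b ∉ zpowers b := fun h => p.symm.nm ((mul_mem_cancel_right (mem_zpowers b)).1 h)
  have k2 : a⁻¹ * b ∉ zpowers b := fun h =>
    p.symm.nm (inv_mem_iff.1 ((mul_mem_cancel_right (mem_zpowers b)).1 h))
  have m1 : a * b ∈ AA b a := AA_comm a b ▸ mul_mem (left_mem_AA a b) (right_mem_AA a b)
  have m2 : a⁻¹ * b ∈ AA b a := AA_comm a b ▸ mul_mem (inv_mem (left_mem_AA a b)) (right_mem_AA a b)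
  have k3 : a⁻¹ * b ∉ zpowers (a * b) := fun h => by
    have h1 := mul_mem (mem_zpowers (a * b)) (inv_mem h)
    have e : a * b * (a⁻¹ * b)⁻¹ = a⁻¹ := by
      rw [eq_inv_iff_mul_eq_one, ← p.a_cube, pow_three']; group
    rw [e] at h1
    exact p.mul_left.1.symm.nm (inv_mem_iff.1 h1)
  refine ⟨k1, k2, (p.symm.of_mem m1 k1).1.symm.nm, (p.symm.of_mem m2 k2).1.symm.nm, k3, ?_⟩
  have m3 : a⁻¹ * b ∈ AA (a * b) a := by
    rw [AA_comm, p.mul_left.2]; exact AA_comm b a ▸ m2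
  exact (p.mul_left.1.symm.of_mem m3 k3).1.symm.nm

theorem comm_mem {z t t' : G} (hz : z * z = 1) : ⁅t, t'⁆ ∈ zpowers z ↔ Commute t t' ∨ t * t' = z * (t' * t) := by
  rw [Spor.mem_zpowers_iff_of_sq hz, commutatorElement_eq_one_iff_commute, commutatorElement_def]
  refine or_congr Iff.rfl ⟨fun e => ?_, fun e => ?_⟩
  · rw [← e]; group
  · rw [e]; group

end QA

open QA

variable [Finite G] {ζ : G → G} {a b : G}

namespace Hyp

variable (h : Hyp ζ)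
include h

omit [Finite G] in
theorem qa_zc {y t : G} (hy : orderOf y = 3) (ht : Commute y t) : Commute (ζ y) t := by
  obtain ⟨φ, c⟩ := h.cov y hy
  exact c.zc t ht

omit [Finite G] in
theorem qa_zz {y : G} (hy : orderOf y = 3) : ζ y * ζ y = 1 := by
  obtain ⟨φ, c⟩ := h.cov y hy
  exact c.zz

theorem qa_wd (hI : CaseI G) (p : Pr a b) {d : G} (hd : Commute a d) (hb : d⁻¹ * b * d ∈ 𝐍[UU (AA a b) a]) :
    WD a b (ζ a) cj(d, WW (AA a b) a) := by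
  have hz : ζ a ∈ VA (AA a b) := UU_le_VA (left_mem_AA a b) p.a_ne
    (h.RR_le_UU p (h.zeta_mem p (left_mem_AA a b) p.a_ne))
  have key : ∀ w ∈ cj(d, WW (AA a b) a), ∃ w0 ∈ WW (AA a b) a, w = d * w0 * d⁻¹ := fun w hw =>
    ⟨_, mem_cj.1 hw, by group⟩
  have hn : ∀ g, Commute a g → d⁻¹ * g * d ∈ 𝐍[UU (AA a b) a] → g ∈ 𝐍[cj(d, WW (AA a b) a)] := fun g h1 h2 => by
    rw [← cj_norm, mem_cj]
    exact h.norm_WW hI p ((hd.inv_right.mul_right h1).mul_right hd) h2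
  refine ⟨fun w hw => ?_, fun w hw => ?_, fun w hw => ?_, AA_le (hn a (Commute.refl a) ?_) (hn b p.comm hb), ?_⟩
  · obtain ⟨w0, h0, rfl⟩ := key w hw
    rw [conj_mul, h.VA_sq hI p (h.WW_le hI p h0)]; group
  · obtain ⟨w0, h0, rfl⟩ := key w hw
    have := comm_conj (h.VA_comm hI p hz (h.WW_le hI p h0)) d
    rwa [conj_eq (h.qa_zc p.a3 hd)] at this
  · obtain ⟨w0, h0, rfl⟩ := key w hw
    have := tr3_conj d a w0
    rw [conj_eq hd, h.tr_WW hI p h0] at this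
    rw [this]; group
  · have e : d⁻¹ * a * d = a := by
      have := conj_eq hd.inv_right
      rwa [inv_inv] at this
    rw [e]
    exact norm_UU (norm_of_le le_rfl (left_mem_AA a b)) (Commute.refl a)
  · rw [card_cj, h.card_WW hI p]

theorem qa_VV_le (hI : CaseI G) (p : Pr a b) {y : G} (hy : y ∈ AA a b) (hn : y ∉ zpowers a) :
    VV (AA a b) y ≤ WW (AA a b) a := by
  have k1 : VV (AA a b) b ≤ WW (AA a b) a := fun v hv =>
    (h.mem_WW hI p).2 ⟨v, hv, 1, one_mem _, 1, one_mem _, by group⟩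
  have k2 : VV (AA a b) (a * b) ≤ WW (AA a b) a := fun v hv =>
    (h.mem_WW hI p).2 ⟨1, one_mem _, v, hv, 1, one_mem _, by group⟩
  have k3 : VV (AA a b) (a⁻¹ * b) ≤ WW (AA a b) a := fun v hv =>
    (h.mem_WW hI p).2 ⟨1, one_mem _, 1, one_mem _, v, hv, by group⟩
  rcases p.cases hy (fun e => hn (e ▸ one_mem _)) with (e | e) | (e | e) | (e | e) | (e | e)
  · exact absurd (e ▸ mem_zpowers a) hn
  · exact absurd (e ▸ inv_mem (mem_zpowers a)) hn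
  all_goals (rw [e]; try rw [VV_inv]); assumption

/-- The fixed points in the conjugate of `W` are nontrivial and differ from the four-groups `V`. -/
theorem qa_ne (hI : CaseI G) (p : Pr a b) {d s : G} (hd : Commute a d) (hb : d⁻¹ * b * d ∈ 𝐍[UU (AA a b) a])
    (s1 : Commute a s) (s2 : s * b * s⁻¹ = a * b) (s3 : d⁻¹ * s * d ∈ 𝐍[UU (AA a b) a])
    (hu : ∃ u ∈ UU (AA a b) a, ∃ u' ∈ UU (AA a b) a, 3 ∣ orderOf (u * (d * u' * d⁻¹))) {y : G} (hy : y ∈ AA a b)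
    (hn : y ∉ zpowers a) : cj(d, WW (AA a b) a) ⊓ 𝐜[y] ≠ ⊥ ∧ cj(d, WW (AA a b) a) ⊓ 𝐜[y] ≠ VV (AA a b) y := by
  have w := h.qa_wd hI p hd hb
  have hs : s ∈ 𝐍[cj(d, WW (AA a b) a)] := by
    rw [← cj_norm, mem_cj]
    exact h.norm_WW hI p ((hd.inv_right.mul_right s1).mul_right hd) s3
  generalize hX : cj(d, WW (AA a b) a) = X at w hs
  have e1 : ∀ y, X ⊓ 𝐜[s * y * s⁻¹] = cj(s, X ⊓ 𝐜[y]) := fun y => by rw [cj_inf, cj_c, cj_of_norm hs]
  have e2 : ∀ y, VV (AA a b) (s * y * s⁻¹) = cj(s, VV (AA a b) y) := fun y => by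
    rw [cj_VV, cj_of_norm (norm_AA p s1 s2)]
  refine ⟨fun e => ?_, fun e => ?_⟩
  · have k : ∀ y ∈ AA a b, y ∉ zpowers a → (X ⊓ 𝐜[y] = ⊥ ↔ X ⊓ 𝐜[b] = ⊥) := fun y hy hn =>
      all_iff (Φ := fun y => X ⊓ 𝐜[y] = ⊥) p s1 s2 (fun y => by rw [c_inv]) (fun y => by rw [e1, cj_eq_bot]) hy hn
    have : X ≤ ⊥ := w.gen p fun c hc hcn => ((k c hc hcn).2 ((k y hy hn).1 e)).le
    have h64 := w.card
    rw [le_bot_iff.1 this, card_bot] at h64
    omega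
  · have k : ∀ y ∈ AA a b, y ∉ zpowers a → (X ⊓ 𝐜[y] = VV (AA a b) y ↔ X ⊓ 𝐜[b] = VV (AA a b) b) := fun y hy hn =>
      all_iff (Φ := fun y => X ⊓ 𝐜[y] = VV (AA a b) y) p s1 s2 (fun y => by rw [c_inv, VV_inv])
        (fun y => by rw [e1, e2, cj_eq_cj]) hy hn
    have h1 : X ≤ WW (AA a b) a := w.gen p fun c hc hcn =>
      ((k c hc hcn).2 ((k y hy hn).1 e)).le.trans (h.qa_VV_le hI p hc hcn)
    have h2 : X = WW (AA a b) a := eq_of_le_of_card_ge h1 (by rw [w.card, h.card_WW hI p])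
    obtain ⟨u, hu1, u', hu2, h3⟩ := hu
    have hc : ∀ u ∈ UU (AA a b) a, u ∈ 𝐂[WW (AA a b) a] := fun u hu => mem_cent.2 fun v hv =>
      (h.VA_comm hI p (h.WW_le hI p hv) (UU_le_VA (left_mem_AA a b) p.a_ne hu)).eq
    refine h.not_cent_WW hI p h3 (mul_mem (hc u hu1) ?_)
    have := conj_mem_cj (g := d) (hc u' hu2)
    rwa [cj_cent, hX, h2] at this

/-- The structure of `Es y a z` in terms of the fixed points of `y` in the conjugate of `W`. -/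
theorem qa_struct (h6 : C6 ζ) (p : Pr a b) {X : Subgroup G} (w : WD a b (ζ a) X) {y : G} (hy : y ∈ AA a b)
    (hn : y ∉ zpowers a) (h1 : X ⊓ 𝐜[y] ≠ ⊥) (h2 : X ⊓ 𝐜[y] ≠ VV (AA a b) y) :
    ∃ D : Subgroup G, (∀ c ∈ AA a b, c ∉ zpowers a → c ∉ zpowers y → cj(ζ c, X ⊓ 𝐜[y]) = D) ∧
      (∀ t ∈ D, t ∈ Es y a (ζ a)) ∧ (∀ t ∈ Es y a (ζ a), t ∈ X ⊓ 𝐜[y] ⊔ D ⊔ zpowers (ζ a)) ∧
      ∀ t ∈ Es y a (ζ a), t ∈ VV (AA a b) y ∨ t ∈ X ⊓ 𝐜[y] ∨ t ∈ D := by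
  have q : Pr y a := (p.of_mem hy hn).1.symm
  have e : AA y a = AA a b := (AA_comm y a).trans (p.of_mem hy hn).2
  obtain ⟨P1, P2, k1, k2, k3, k4⟩ := h.E_struct q (h.gd_zeta q h6)
  rw [e] at k1 k2 k3 k4
  have hr : ∀ c ∈ AA a b, c ∉ zpowers a → c ∉ zpowers y → cj(ζ c, P1) = P2 ∧ cj(ζ c, P2) = P1 :=
    fun c hc c1 c2 => k3 _ (h.zeta_mem p hc fun e => c1 (e ▸ one_mem _))
      (h.zeta_not_in4 q h6 (e ▸ hc) c2 c1)
  have hna : a ∈ 𝐍[X ⊓ 𝐜[y]] := cj_eq_iff.1 (by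
    rw [cj_inf, cj_c, cj_of_norm (w.nA (left_mem_AA a b)), conj_eq q.comm])
  rcases k2 _ h1 (fun t ht => w.mem_Es ht) hna with e' | e' | e'
  · exact absurd e' h2
  · rw [e']
    refine ⟨P2, fun c hc c1 c2 => (hr c hc c1 c2).1, fun t ht => (k1 t).2 (.inr (.inr ht)), fun t ht => ?_,
      fun t ht => (k1 t).1 ht⟩
    rcases (k1 t).1 ht with k | k | k
    exacts [k4 k, mem_sup_left (mem_sup_left k), mem_sup_left (mem_sup_right k)]
  · rw [e']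
    refine ⟨P1, fun c hc c1 c2 => (hr c hc c1 c2).2, fun t ht => (k1 t).2 (.inr (.inl ht)), fun t ht => ?_,
      fun t ht => ((k1 t).1 ht).imp_right Or.symm⟩
    rw [sup_comm P2]
    rcases (k1 t).1 ht with k | k | k
    exacts [k4 k, mem_sup_left (mem_sup_left k), mem_sup_left (mem_sup_right k)]

theorem qa_EE (h6 : C6 ζ) (p : Pr a b) {X : Subgroup G} (w : WD a b (ζ a) X)
    (hX : ∀ y ∈ AA a b, y ∉ zpowers a → X ⊓ 𝐜[y] ≠ ⊥ ∧ X ⊓ 𝐜[y] ≠ VV (AA a b) y) {y y' y'' : G}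
    (m1 : y ∈ AA a b) (m2 : y' ∈ AA a b) (m3 : y'' ∈ AA a b) (n1 : y ∉ zpowers a) (n2 : y' ∉ zpowers a)
    (n3 : y'' ∉ zpowers a) (l1 : y' ∉ zpowers y) (l2 : y ∉ zpowers y') (l3 : y'' ∉ zpowers y) (l4 : y'' ∉ zpowers y')
    {t t' : G} (h1 : t ∈ Es y a (ζ a)) (h2 : t' ∈ Es y' a (ζ a)) : Commute t t' := by
  obtain ⟨D, d1, d2, d3, -⟩ := h.qa_struct h6 p w m1 n1 (hX y m1 n1).1 (hX y m1 n1).2
  obtain ⟨D', d1', d2', d3', -⟩ := h.qa_struct h6 p w m2 n2 (hX y' m2 n2).1 (hX y' m2 n2).2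
  have fx : ∀ c ∈ AA a b, c ∉ zpowers a → cj(ζ c, X ⊓ 𝐜[c]) = X ⊓ 𝐜[c] := fun c hc hn =>
    cj_of_cent (mem_cent.2 fun v hv =>
      (h.qa_zc (p.ord hc fun e => hn (e ▸ one_mem _)) (mem_c.1 (mem_inf.1 hv).2)).symm.eq)
  have c0 : X ⊓ 𝐜[y] ≤ 𝐂[X ⊓ 𝐜[y']] := fun v hv => mem_cent.2 fun v' hv' =>
    (comm_of_sq w.sq (mem_inf.1 hv').1 (mem_inf.1 hv).1).eq
  have c1 : D ≤ 𝐂[X ⊓ 𝐜[y']] := by
    have := cj_mono (ζ y') c0
    rwa [cj_cent, d1 y' m2 n2 l1, fx y' m2 n2] at this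
  have c2 : X ⊓ 𝐜[y] ≤ 𝐂[D'] := by
    have := cj_mono (ζ y) c0
    rwa [cj_cent, d1' y m1 n1 l2, fx y m1 n1] at this
  have c3 : D ≤ 𝐂[D'] := by
    have := cj_mono (ζ y'') c0
    rwa [cj_cent, d1 y'' m3 n3 l3, d1' y'' m3 n3 l4] at this
  have cz : ∀ {Y : Subgroup G} {c : G}, (∀ t ∈ Y, t ∈ Es c a (ζ a)) → zpowers (ζ a) ≤ 𝐂[Y] := fun hY =>
    zpowers_le.2 (mem_cent.2 fun v hv => (hY v hv).2.1.symm.eq)
  have c4 : X ⊓ 𝐜[y] ⊔ D ⊔ zpowers (ζ a) ≤ 𝐂[X ⊓ 𝐜[y'] ⊔ D' ⊔ zpowers (ζ a)] := by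
    refine le_cent_sup (le_cent_sup (sup_le (sup_le c0 c1) (cz fun t ht => w.mem_Es ht))
      (sup_le (sup_le c2 c3) (cz d2'))) (sup_le (sup_le (cent_comm (cz fun t ht => w.mem_Es ht))
        (cent_comm (cz d2))) (zpowers_le.2 (mem_cent.2 ?_)))
    rintro _ ⟨k, rfl⟩
    exact ((Commute.refl (ζ a)).zpow_left k).eq
  exact (mem_cent.1 (c4 (d3 t h1)) t' (d3' t' h2)).symm

variable (h6 : C6 ζ) (hI : CaseI G)
include h6 hI

theorem E_E (p : Pr a b) {c t t' : G} (hc : c = a * b ∨ c = a⁻¹ * b) (h1 : t ∈ Es b a (ζ a)) (h2 : t' ∈ Es c a (ζ a)) :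
    Commute t t' := by
  obtain ⟨d, ρ, s, hd, -, s1, s2, hb, s3, hu, -⟩ := h.dc p
  have w := h.qa_wd hI p hd hb
  have hX := fun y hy hn => h.qa_ne hI p hd hb s1 s2 s3 hu (y := y) hy hn
  obtain ⟨k1, k2, k3, k4, k5, k6⟩ := not_mem_pr p
  have m1 : a * b ∈ AA a b := mul_mem (left_mem_AA a b) (right_mem_AA a b)
  have m2 : a⁻¹ * b ∈ AA a b := mul_mem (inv_mem (left_mem_AA a b)) (right_mem_AA a b)
  rcases hc with rfl | rfl
  · exact h.qa_EE h6 p w hX (right_mem_AA a b) m1 m2 p.nm p.mul_left.1.nm p.inv_mul_left.1.nm k1 k3 k2 k5 h1 h2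
  · exact h.qa_EE h6 p w hX (right_mem_AA a b) m2 m1 p.nm p.inv_mul_left.1.nm p.mul_left.1.nm k2 k4 k1 k6 h1 h2

/-- The group generated by the sets `Es y a z`, `y ∈ A`, has its commutators in `⟨z⟩`. -/
theorem qa_QA (p : Pr a b) : ⁅closure {t | ∃ y ∈ AA a b, y ∉ zpowers a ∧ t ∈ Es y a (ζ a)},
    closure {t | ∃ y ∈ AA a b, y ∉ zpowers a ∧ t ∈ Es y a (ζ a)}⁆ ≤ zpowers (ζ a) := by
  have hz := h.qa_zz p.a3
  have hn : ∀ s ∈ {t | ∃ y ∈ AA a b, y ∉ zpowers a ∧ t ∈ Es y a (ζ a)}, s ∈ 𝐍[zpowers (ζ a)] := by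
    rintro s ⟨y, -, -, hs⟩
    exact cj_eq_iff.1 (by rw [cj_zpowers, conj_eq hs.2.1])
  refine comm_closure_le hn fun s hs v hv => ?_
  have : ⁅zpowers s, closure {t | ∃ y ∈ AA a b, y ∉ zpowers a ∧ t ∈ Es y a (ζ a)}⁆ ≤ zpowers (ζ a) := by
    refine comm_closure_le hn fun s' hs' v' hv' => ?_
    obtain ⟨y, y1, y2, y3⟩ := hs
    obtain ⟨c, c1, c2, c3⟩ := hs'
    rcases (Spor.mem_zpowers_iff_of_sq y3.2.2.1).1 hv' with rfl | rfl
    · simp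
    rw [comm_mem hz]
    have q := p.of_mem y1 y2
    have g := h.gd_zeta q.1.symm h6
    rcases q.1.cases (c := c) (q.2 ▸ c1) (fun e => c2 (e ▸ one_mem _)) with (e | e) | (e | e) | (e | e) | (e | e)
    · exact absurd (e ▸ mem_zpowers a) c2
    · exact absurd (e ▸ inv_mem (mem_zpowers a)) c2
    · exact h.E_comm q.1.symm g y3 (e ▸ c3)
    · exact h.E_comm q.1.symm g y3 (Es_inv_left.1 (e ▸ c3))
    · exact .inl (h.E_E h6 hI q.1 (.inl rfl) y3 (e ▸ c3))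
    · exact .inl (h.E_E h6 hI q.1 (.inl rfl) y3 (Es_inv_left.1 (e ▸ c3)))
    · exact .inl (h.E_E h6 hI q.1 (.inr rfl) y3 (e ▸ c3))
    · exact .inl (h.E_E h6 hI q.1 (.inr rfl) y3 (Es_inv_left.1 (e ▸ c3)))
  rw [← commutatorElement_inv]
  exact inv_mem (this (commutator_mem_commutator (mem_zpowers s) hv))

/-- `W` commutes with its conjugates under `C(a)` modulo `z`, and these contain the generators. -/
theorem qa_W (p : Pr a b) : (∀ c, Commute a c → ⁅WW (AA a b) a, cj(c, WW (AA a b) a)⁆ ≤ zpowers (ζ a)) ∧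
    ∀ t ∈ Es b a (ζ a), ∃ c, Commute a c ∧ t ∈ cj(c, WW (AA a b) a) := by
  obtain ⟨d, ρ, s, hd, hρ, s1, s2, hb, s3, hu, hdc⟩ := h.dc p
  have w := h.qa_wd hI p hd hb
  have hQ := h.qa_QA h6 hI p
  generalize hS : {t | ∃ y ∈ AA a b, y ∉ zpowers a ∧ t ∈ Es y a (ζ a)} = S at hQ
  have hE : ∀ y ∈ AA a b, y ∉ zpowers a → ∀ t ∈ Es y a (ζ a), t ∈ closure S := fun y y1 y2 t ht =>
    subset_closure (hS ▸ ⟨y, y1, y2, ht⟩)
  obtain ⟨ρ1, ρ2, -⟩ := (h.mem_RR p).1 hρ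
  have w0 : WW (AA a b) a ≤ closure S := fun v hv => by
    obtain ⟨v1, k1, v2, k2, v3, k3, rfl⟩ := (h.mem_WW hI p).1 hv
    have key : ∀ y ∈ AA a b, y ∉ zpowers a → ∀ v ∈ VV (AA a b) y, v ∈ closure S := fun y y1 y2 v hv => by
      have q := p.of_mem y1 y2
      refine hE y y1 y2 v (h.VV_sub q.1.symm (h.gd_zeta q.1.symm h6) ?_)
      rwa [AA_comm, q.2]
    exact mul_mem (mul_mem (key b (right_mem_AA a b) p.nm v1 k1)
      (key _ (mul_mem (left_mem_AA a b) (right_mem_AA a b)) p.mul_left.1.nm v2 k2))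
      (key _ (mul_mem (inv_mem (left_mem_AA a b)) (right_mem_AA a b)) p.inv_mul_left.1.nm v3 k3)
  have w1 : cj(d, WW (AA a b) a) ≤ closure S := w.gen p fun y y1 y2 t ht => hE y y1 y2 t (w.mem_Es ht)
  have w2 : cj(ρ, cj(d, WW (AA a b) a)) ≤ closure S := by
    rw [cj_le_iff_le_inv]
    refine w.gen p fun y y1 y2 => ?_
    rw [← cj_le_iff_le_inv, cj_le_iff]
    exact fun t ht => hE y y1 y2 _ (Es_conj' (w.mem_Es ht) (mem_cent.1 (mem_cent_AA.2 ⟨ρ1, ρ2⟩) y y1) ρ1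
      (h.qa_zc p.a3 ρ1))
  have fz : ∀ c, Commute a c → cj(c, zpowers (ζ a)) = zpowers (ζ a) := fun c hc => by
    rw [cj_zpowers, conj_eq (h.qa_zc p.a3 hc)]
  refine ⟨fun c hc => ?_, fun t ht => ?_⟩
  · obtain ⟨m, n, m1, n1, m2, n2, e⟩ := hdc c hc
    have m3 := cj_of_norm (h.norm_WW hI p m1 m2)
    have n3 := cj_of_norm (h.norm_WW hI p n1 n2)
    rcases e with rfl | rfl | rfl
    · rw [← cj_cj, n3, m3]
      exact (commutator_mono w0 w0).trans hQ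
    · have := cj_mono m ((commutator_mono w0 w1).trans hQ)
      rw [cj_comm, m3, fz m m1, cj_cj] at this
      rwa [← cj_cj, n3]
    · have := cj_mono (m * d⁻¹) ((commutator_mono w1 w2).trans hQ)
      rw [cj_comm, fz _ (m1.mul_right hd.inv_right), cj_cj, cj_cj, cj_cj, inv_mul_cancel_right, m3] at this
      rw [← cj_cj, n3]
      simpa only [mul_assoc] using this
  · have hX := h.qa_ne hI p hd hb s1 s2 s3 hu (right_mem_AA a b) p.nm
    obtain ⟨D, d1, -, -, d4⟩ := h.qa_struct h6 p w (right_mem_AA a b) p.nm hX.1 hX.2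
    have m1 : a * b ∈ AA a b := mul_mem (left_mem_AA a b) (right_mem_AA a b)
    rcases d4 t ht with k | k | k
    · exact ⟨1, Commute.one_right a, by rw [cj_one]; exact h.qa_VV_le hI p (right_mem_AA a b) p.nm k⟩
    · exact ⟨d, hd, (mem_inf.1 k).1⟩
    · rw [← d1 _ m1 p.mul_left.1.nm (not_mem_pr p).1] at k
      refine ⟨ζ (a * b) * d, ((h.mem_RR p).1 (h.zeta_mem p m1 p.mul_left.1.b_ne)).1.mul_right hd, ?_⟩
      rw [← cj_cj]
      exact cj_mono _ inf_le_left k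

theorem EE_comm (ha : orderOf a = 3) {t t' : G} (h1 : t ∈ EE a (ζ a)) (h2 : t' ∈ EE a (ζ a)) :
    Commute t t' ∨ t * t' = ζ a * (t' * t) := by
  obtain ⟨b, p⟩ := h.pair a ha
  obtain ⟨k1, k2⟩ := h.qa_W h6 hI p
  have key : ∀ t ∈ EE a (ζ a), ∃ c, Commute a c ∧ t ∈ cj(c, WW (AA a b) a) := by
    rintro t ⟨y, q, ht⟩
    obtain ⟨g, g1, g2⟩ := h.trans a y a b q p
    have g3 : Commute a g := by
      have : g * a = a * g := by rw [← mul_inv_eq_iff_eq_mul, g1]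
      exact this.symm
    have := Es_conj ht g
    rw [g1, g2, conj_eq (h.qa_zc ha g3)] at this
    obtain ⟨c, c1, c2⟩ := k2 _ this
    refine ⟨g⁻¹ * c, g3.inv_right.mul_right c1, ?_⟩
    rw [← cj_cj, mem_cj, inv_inv]
    exact c2
  obtain ⟨c, c1, c2⟩ := key t h1
  obtain ⟨c', c1', c2'⟩ := key t' h2
  have := cj_mono c (k1 (c⁻¹ * c') (c1.inv_right.mul_right c1'))
  rw [cj_comm, cj_cj, mul_inv_cancel_left, cj_zpowers, conj_eq (h.qa_zc ha c1)] at this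
  exact (comm_mem (h.qa_zz ha)).1 (this (commutator_mem_commutator c2 c2'))

end Hyp

end Cfsg.Agent.J3L
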