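import Mathlib
import Cfsg.Agent.J3L.QA

/-!
The extraspecial group `Q` of order `2 ^ 13`; strong 3-embedding.
-/

set_option autoImplicit false

namespace Cfsg.Agent.J3L

open Cfsg Cfsg.Agent.Spor Cfsg.Agent.Spor.MB Cfsg.Agent.J4T Cfsg.Agent.Loc.Mss Subgroup

variable {G : Type*} [Group G] [Finite G] {ζ : G → G} {a b : G}

namespace QB

omit [Finite G] in
theorem EE_inv {x z t : G} (h : t ∈ EE x⁻¹ z) : t ∈ EE x z := by
  obtain ⟨y, p, h⟩ := h
  exact ⟨y, by simpa using p.inv_left, by simpa using Es_inv h⟩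

omit [Finite G] in
theorem tr3_mul_mod {K Z : Subgroup G} (hn : K ≤ 𝐍[Z]) (hc : ∀ s ∈ K, ∀ t ∈ K, s * t * s⁻¹ * t⁻¹ ∈ Z)
    {c s t : G} (hb : c ∈ 𝐍[K]) (hs : s ∈ K) (ht : t ∈ K) (h1 : tr3 c s ∈ Z) (h2 : tr3 c t ∈ Z) :
    tr3 c (s * t) ∈ Z := by
  have a1 := conj_mem_of_norm hb hs
  have a2 := conj_mem_of_norm' hb hs
  have a3 := conj_mem_of_norm hb ht
  have k1 := conj_mem_of_norm (hn hs) (hc _ ht _ a1)
  have k2 := conj_mem_of_norm (hn (mul_mem (mul_mem hs a1) ht)) (hc _ a3 _ a2)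
  have k3 := conj_mem_of_norm (hn (mul_mem hs a1)) (hc _ ht _ a2)
  convert mul_mem (mul_mem (mul_mem (mul_mem k1 k2) k3) h1) h2 using 1
  unfold tr3; group

omit [Finite G] in
theorem sq_mul_mod {K Z : Subgroup G} (hn : K ≤ 𝐍[Z]) (hc : ∀ s ∈ K, ∀ t ∈ K, s * t * s⁻¹ * t⁻¹ ∈ Z)
    {s t : G} (hs : s ∈ K) (ht : t ∈ K) (h1 : s * s ∈ Z) (h2 : t * t ∈ Z) : s * t * (s * t) ∈ Z := by
  convert mul_mem (mul_mem (conj_mem_of_norm (hn hs) (hc _ ht _ hs)) h1) h2 using 1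
  group

omit [Finite G] in
theorem comm_closure_one {S : Set G} {Z : Subgroup G} (hn : closure S ≤ 𝐍[Z]) {t : G}
    (hc : ∀ s ∈ S, s * t * s⁻¹ * t⁻¹ ∈ Z) {s : G} (hs : s ∈ closure S) : s * t * s⁻¹ * t⁻¹ ∈ Z := by
  induction hs using closure_induction with
  | mem s hs => exact hc s hs
  | one => simpa using one_mem Z
  | mul s s' hs _ h1 h2 =>
    convert mul_mem (conj_mem_of_norm (hn hs) h2) h1 using 1
    group
  | inv s hs h1 =>
    convert conj_mem_of_norm' (hn hs) (inv_mem h1) using 1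
    group

omit [Finite G] in
theorem comm_closure_mod {S : Set G} {Z : Subgroup G} (hn : closure S ≤ 𝐍[Z])
    (hc : ∀ s ∈ S, ∀ t ∈ S, s * t * s⁻¹ * t⁻¹ ∈ Z) {s t : G} (hs : s ∈ closure S) (ht : t ∈ closure S) :
    s * t * s⁻¹ * t⁻¹ ∈ Z := by
  refine comm_closure_one hn (fun u hu => ?_) hs
  convert inv_mem (comm_closure_one hn (fun w hw => hc w hw u hu) ht) using 1
  group

omit [Finite G] in
theorem closure_cent {S T : Set G} (h : ∀ s ∈ S, ∀ t ∈ T, Commute s t) : closure S ≤ 𝐂[closure T] :=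
  (closure_le _).2 fun s hs => cent_comm (A := closure T) (B := zpowers s) ((closure_le _).2 fun t ht => by
    rw [SetLike.mem_coe, mem_cent]; rintro _ ⟨k, rfl⟩; exact ((h s hs t ht).zpow_left k).eq) (mem_zpowers s)

omit [Finite G] in
theorem c_le_norm (z : G) : 𝐜[z] ≤ 𝐍[zpowers z] := fun g hg =>
  cent_le_norm _ (by rw [mem_cent]; rintro _ ⟨k, rfl⟩; exact ((mem_c.1 hg).zpow_left k).eq)

omit [Finite G] in
theorem QQ_le (x z : G) : QQ x z ≤ 𝐜[z] := (closure_le _).2 fun _ ⟨_, _, h⟩ => mem_c.2 h.2.1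

omit [Finite G] in
theorem E_le {x y : G} (p : Pr x y) (z : G) : closure (Es y x z) ≤ QQ x z :=
  closure_mono fun _ ht => ⟨y, p, ht⟩

omit [Finite G] in
theorem conj_cases {x n : G} (hx : orderOf x = 3) (h1 : n ∈ 𝐍[zpowers x]) : n * x * n⁻¹ = x ∨ n * x * n⁻¹ = x⁻¹ := by
  rcases (mem_zpowers_three hx).1 (conj_mem_of_norm h1 (mem_zpowers x)) with e | e | e
  · exact absurd hx (by rw [← ord_conj n x, e]; simp)
  · exact .inl e
  · exact .inr e

theorem norm_of_conj {x g : G} (h : g * x * g⁻¹ ∈ zpowers x) : g ∈ 𝐍[zpowers x] :=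
  mem_norm_of_cj_le (by rw [cj_zpowers]; exact zpowers_le.2 h)

end QB

open QB

omit [Finite G] in
theorem norm_QQ {x z n : G} (hx : orderOf x = 3) (h1 : n ∈ 𝐍[zpowers x]) (h2 : Commute z n) : n ∈ 𝐍[QQ x z] := by
  refine norm_of_forall_cj_le (X := 𝐍[zpowers x] ⊓ 𝐜[z]) (fun g hg => ?_) ⟨h1, mem_c.2 h2⟩
  rw [cj_le_iff_le_inv]
  refine (closure_le _).2 fun t ht => ?_
  rw [SetLike.mem_coe, mem_cj, inv_inv]
  have h3 := EE_conj ht g
  rw [← (mem_c.1 hg.2).eq, mul_inv_cancel_right] at h3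
  refine subset_closure ?_
  rcases conj_cases hx hg.1 with e | e <;> rw [e] at h3
  · exact h3
  · exact EE_inv h3

namespace Hyp

variable (h : Hyp ζ)
include h

theorem norm_zeta (ha : orderOf a = 3) {n : G} (h1 : n ∈ 𝐍[zpowers a]) : Commute (ζ a) n := by
  have h2 := h.conj a n ha
  have h3 : ζ (n * a * n⁻¹) = ζ a := by
    rcases conj_cases ha h1 with e | e <;> rw [e]
    exact h.inv a ha
  exact (mul_inv_eq_iff_eq_mul.1 (h2.symm.trans h3)).symm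

theorem qb_zz (ha : orderOf a = 3) : ζ a * ζ a = 1 := (h.cov a ha).elim fun _ c => c.zz

theorem qb_normN (ha : orderOf a = 3) : 𝐍[zpowers a] ≤ 𝐍[QQ a (ζ a)] := fun _ hn =>
  norm_QQ ha hn (h.norm_zeta ha hn)

theorem qb_H_le (ha : orderOf a = 3) : QQ a (ζ a) ⊔ 𝐍[zpowers a] ≤ 𝐜[ζ a] :=
  sup_le (QQ_le _ _) fun _ hn => mem_c.2 (h.norm_zeta ha hn)

/-- A conjugate of `a` under `C(z)` that commutes with `a`. -/
theorem qb_fus (h6 : C6 ζ) (ha : orderOf a = 3) {g : G} (hg : Commute (ζ a) g) (h1 : Commute a (g * a * g⁻¹)) :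
    g ∈ 𝐍[zpowers a] := by
  refine norm_of_conj (by_contra fun hn => h6 a _ ⟨ha, (ord_conj g a).trans ha, h1, hn⟩ ?_)
  rw [h.conj a g ha, ← hg.eq, mul_inv_cancel_right]

variable (h6 : C6 ζ) (hI : CaseI G) (ha : orderOf a = 3)
include h6 hI ha

theorem qb_comm : ∀ s ∈ QQ a (ζ a), ∀ t ∈ QQ a (ζ a), s * t * s⁻¹ * t⁻¹ ∈ zpowers (ζ a) := fun _ hs _ ht =>
  comm_closure_mod ((QQ_le _ _).trans (c_le_norm _)) (fun s hs t ht => by
    rcases h.EE_comm h6 hI ha hs ht with e | e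
    · rw [e.eq]; simpa using one_mem _
    · rw [e]; simpa [mul_assoc] using mem_zpowers _) hs ht

theorem qb_sq {q : G} (hq : q ∈ QQ a (ζ a)) : q * q ∈ zpowers (ζ a) := by
  induction hq using closure_induction with
  | mem s hs => obtain ⟨_, _, k⟩ := hs; rw [k.2.2.1]; exact one_mem _
  | one => simpa using one_mem _
  | mul s t hs ht h1 h2 => exact sq_mul_mod ((QQ_le _ _).trans (c_le_norm _)) (h.qb_comm h6 hI ha) hs ht h1 h2
  | inv s _ h1 => simpa using inv_mem h1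

theorem qb_tr {q : G} (hq : q ∈ QQ a (ζ a)) : tr3 a q ∈ zpowers (ζ a) := by
  induction hq using closure_induction'' with
  | mem s hs => obtain ⟨_, _, k⟩ := hs; rw [k.2.2.2.2]; exact one_mem _
  | inv_mem s hs => obtain ⟨_, _, k⟩ := hs; rw [inv_eq_self_of_sq k.2.2.1, k.2.2.2.2]; exact one_mem _
  | one => simpa [tr3] using one_mem _
  | mul s t hs ht h1 h2 =>
    exact tr3_mul_mod ((QQ_le _ _).trans (c_le_norm _)) (h.qb_comm h6 hI ha)
      (h.qb_normN ha (le_normalizer (mem_zpowers a))) hs ht h1 h2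

theorem qb_four {q : G} (hq : q ∈ QQ a (ζ a)) : q ^ 4 = 1 := by
  rw [show q ^ 4 = q * q * (q * q) by simp only [pow_succ, pow_zero, one_mul, mul_assoc]]
  rcases (mem_zpowers_iff_of_sq (h.qb_zz ha)).1 (h.qb_sq h6 hI ha hq) with e | e <;> rw [e]
  · simp
  · exact h.qb_zz ha

theorem fpf_QQ {q : G} (hq : q ∈ QQ a (ζ a)) (h1 : Commute a q) : q = 1 ∨ q = ζ a := by
  have h2 := h.qb_tr h6 hI ha hq
  rw [tr3_of_comm h1, pow_three'] at h2
  exact (mem_zpowers_iff_of_sq (h.qb_zz ha)).1 ((mul_mem_cancel_left (h.qb_sq h6 hI ha hq)).1 h2)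

theorem qb_cent {y t : G} (p : Pr a y) (ht : t ∈ QQ a (ζ a)) (h1 : Commute y t) : t ∈ closure (Es y a (ζ a)) := by
  have g := h.gd_zeta p.symm h6
  obtain ⟨e, he, hk⟩ := h.cent_tr p.symm g h1 (mem_c.1 (QQ_le _ _ ht)) (h.qb_four h6 hI ha ht) (h.qb_tr h6 hI ha ht)
  obtain ⟨φ, c⟩ := h.cov y p.b3
  have h2 := h.fpf_QQ h6 hI ha (mul_mem (inv_mem (E_le p _ he)) ht) (c.ker_comm hk p.comm.symm).symm
  refine (mul_mem_cancel_left (inv_mem he)).1 ?_
  rcases h2 with e | e <;> rw [e]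
  exacts [one_mem _, h.r_mem_E p.symm g]

/-- `Q` is the product of three groups of order 32. -/
theorem qb_gen (p : Pr a b) : QQ a (ζ a) =
    closure (Es b a (ζ a)) ⊔ closure (Es (a * b) a (ζ a)) ⊔ closure (Es (a⁻¹ * b) a (ζ a)) := by
  refine le_antisymm (p.gen ((AA_le (le_normalizer (mem_zpowers a)) ?_).trans (h.qb_normN ha)) (fun h3 => ?_) ?_)
    (sup_le (sup_le (E_le p _) (E_le p.mul_left.1 _)) (E_le p.inv_mul_left.1 _))
  · exact c_le_norm a (mem_c.2 p.comm)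
  · have h2 : IsPGroup 2 (QQ a (ζ a)) := pg_iff.2 fun q hq => ⟨2, h.qb_four h6 hI ha hq⟩
    obtain ⟨n, hn⟩ := h2.exists_card_eq
    rw [hn] at h3
    exact absurd (Nat.prime_three.dvd_of_dvd_pow h3) (by decide)
  · intro c hc h1 q hq
    have h2 := mem_c.1 hq.2
    rcases p.cases hc h1 with e | e | e | e
    · have h3 : Commute a q := by rcases e with rfl | rfl; exacts [h2, Commute.inv_left_iff.1 h2]
      refine mem_sup_left (mem_sup_left ?_)
      rcases h.fpf_QQ h6 hI ha hq.1 h3 with e | e <;> rw [e]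
      exacts [one_mem _, h.r_mem_E p.symm (h.gd_zeta p.symm h6)]
    · refine mem_sup_left (mem_sup_left (h.qb_cent h6 hI ha p hq.1 ?_))
      rcases e with rfl | rfl; exacts [h2, Commute.inv_left_iff.1 h2]
    · refine mem_sup_left (mem_sup_right (h.qb_cent h6 hI ha p.mul_left.1 hq.1 ?_))
      rcases e with rfl | rfl; exacts [h2, Commute.inv_left_iff.1 h2]
    · refine mem_sup_right (h.qb_cent h6 hI ha p.inv_mul_left.1 hq.1 ?_)
      rcases e with rfl | rfl; exacts [h2, Commute.inv_left_iff.1 h2]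

omit ha in
theorem qb_c12 (p : Pr a b) : closure (Es b a (ζ a)) ≤ 𝐂[closure (Es (a * b) a (ζ a))] :=
  closure_cent fun _ hs _ ht => h.E_E h6 hI p (.inl rfl) hs ht

omit ha in
theorem qb_c13 (p : Pr a b) : closure (Es b a (ζ a)) ≤ 𝐂[closure (Es (a⁻¹ * b) a (ζ a))] :=
  closure_cent fun _ hs _ ht => h.E_E h6 hI p (.inr rfl) hs ht

omit ha in
theorem qb_c23 (p : Pr a b) : closure (Es (a * b) a (ζ a)) ≤ 𝐂[closure (Es (a⁻¹ * b) a (ζ a))] :=
  closure_cent fun _ hs _ ht => h.E_E h6 hI p.mul_left.1 (.inl (by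
    rw [← mul_assoc, eq_inv_of_mul_eq_one_left (show a * a * a = 1 by rw [← p.a_cube, pow_three'])])) hs ht

omit hI ha in
theorem qb_inf {y : G} (p : Pr a y) {K : Subgroup G} (h1 : ζ a ∈ K) (h2 : K ≤ 𝐂[closure (Es y a (ζ a))]) :
    K ⊓ closure (Es y a (ζ a)) = zpowers (ζ a) :=
  le_antisymm (fun _ he => h.E_cent p.symm (h.gd_zeta p.symm h6) he.2 fun t ht =>
    mem_cent.1 (h2 he.1) t (subset_closure ht)) (zpowers_le.2 ⟨h1, h.r_mem_E p.symm (h.gd_zeta p.symm h6)⟩)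

omit hI in
theorem qb_ne : ζ a ≠ 1 := by
  obtain ⟨b, p⟩ := h.pair a ha
  exact fun e => (h.gd_zeta p.symm h6).nm (e ▸ one_mem _)

theorem es_QQ : ES2 (QQ a (ζ a)) (ζ a) := by
  obtain ⟨b, p⟩ := h.pair a ha
  have g := h.gd_zeta p.symm h6
  have zz := h.qb_zz ha
  refine ⟨E_le p _ (h.r_mem_E p.symm g), h.qb_ne h6 ha, zz, fun q hq => (mem_c.1 (QQ_le _ _ hq)).eq,
    fun s hs t ht => ?_, fun q hq hc => ?_, by_contra fun hn => ?_⟩
  · rcases (mem_zpowers_iff_of_sq zz).1 (h.qb_comm h6 hI ha s hs t ht) with e | e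
    · exact .inl (by rw [← mul_inv_eq_one, ← e]; group)
    · exact .inr (by rw [← e]; group)
  · have c12 := h.qb_c12 h6 hI p
    have c13 := h.qb_c13 h6 hI p
    have c23 := h.qb_c23 h6 hI p
    have hq' := hq
    rw [h.qb_gen h6 hI ha p] at hq'
    obtain ⟨_, h12, e3, h3, rfl⟩ := (mem_sup_norm (norm_of_cent (cent_comm (sup_le c13 c23)))).1 hq'
    obtain ⟨e1, h1, e2, h2, rfl⟩ := (mem_sup_norm (norm_of_cent (cent_comm c12))).1 h12
    have key : ∀ y, Pr a y → ∀ e ∈ closure (Es y a (ζ a)), ∀ w ∈ 𝐂[closure (Es y a (ζ a))],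
        e1 * e2 * e3 = e * w → e ∈ zpowers (ζ a) := fun y py e he w hw ew =>
      h.E_cent py.symm (h.gd_zeta py.symm h6) he fun t ht => by
        have k1 : Commute (e * w) t := ew ▸ hc t (E_le py _ (subset_closure ht))
        have k2 : Commute t w := mem_cent.1 hw t (subset_closure ht)
        simpa using k1.symm.mul_right k2.inv_right
    refine (mem_zpowers_iff_of_sq zz).1 (mul_mem (mul_mem ?_ ?_) ?_)
    · exact key b p e1 h1 (e2 * e3) (mul_mem (cent_comm c12 h2) (cent_comm c13 h3)) (mul_assoc _ _ _)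
    · refine key _ p.mul_left.1 e2 h2 (e1 * e3) (mul_mem (c12 h1) (cent_comm c23 h3)) ?_
      rw [← mul_assoc, mem_cent.1 (c12 h1) e2 h2]
    · refine key _ p.inv_mul_left.1 e3 h3 (e1 * e2) (mul_mem (c13 h1) (c23 h2)) ?_
      exact (mem_cent.1 (mul_mem (c13 h1) (c23 h2)) e3 h3).symm
  · push Not at hn
    have h1 : closure (Es b a (ζ a)) ≤ zpowers (ζ a) := fun e he =>
      h.E_cent p.symm g he fun t ht => hn t (E_le p _ (subset_closure ht)) e (E_le p _ he)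
    have h2 := card_le_of_le h1
    rw [h.card_E p.symm g, card_zpowers_of_sq (h.qb_ne h6 ha) zz] at h2
    omega

theorem card_QQ : Nat.card (QQ a (ζ a)) = 2 ^ 13 := by
  obtain ⟨b, p⟩ := h.pair a ha
  have c12 := h.qb_c12 h6 hI p
  have c3 := sup_le (h.qb_c13 h6 hI p) (h.qb_c23 h6 hI p)
  have hz := h.r_mem_E p.symm (h.gd_zeta p.symm h6)
  have h1 := GT.PG.card_sup_mul_card_inf (norm_of_cent c12)
  have h2 := GT.PG.card_sup_mul_card_inf (norm_of_cent c3)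
  have hE : ∀ y, Pr a y → Nat.card (closure (Es y a (ζ a))) = 32 := fun y py => h.card_E py.symm (h.gd_zeta py.symm h6)
  rw [h.qb_inf h6 p.mul_left.1 hz c12, card_zpowers_of_sq (h.qb_ne h6 ha) (h.qb_zz ha), hE _ p, hE _ p.mul_left.1] at h1
  rw [h.qb_inf h6 p.inv_mul_left.1 (mem_sup_left hz) c3, card_zpowers_of_sq (h.qb_ne h6 ha) (h.qb_zz ha),
    hE _ p.inv_mul_left.1, ← h.qb_gen h6 hI ha p] at h2
  omega

/-- An element of order 3 of `Q N(⟨a⟩)` is conjugate into `C(a)`. -/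
theorem qb_conj {c : G} (hc : c ∈ QQ a (ζ a) ⊔ 𝐍[zpowers a]) (h3 : orderOf c = 3) :
    ∃ k ∈ QQ a (ζ a) ⊔ 𝐍[zpowers a], Commute a (k * c * k⁻¹) := by
  have hN := h.qb_normN ha
  obtain ⟨P, hP, hS⟩ := Syl.exists_ge (L := QQ a (ζ a) ⊔ 𝐍[zpowers a]) (pg_zpowers ha)
    (le_normalizer.trans le_sup_right)
  have h1 : Syl 3 (zpowers a) (QQ a (ζ a) ⊔ zpowers a) := by
    refine syl3_of ha (mem_sup_right (mem_zpowers a)) fun g hg h1 k hk => ?_
    obtain ⟨q, hq, s, hs, rfl⟩ := (mem_sup_norm (le_normalizer.trans hN)).1 hg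
    obtain ⟨φ, c⟩ := h.cov a ha
    have h2 : Commute a s := by obtain ⟨k, rfl⟩ := hs; exact (Commute.refl a).zpow_right k
    refine c.ker_three (mul_mem (mem_sup_right ?_) (mem_sup_left hs)) hk
    exact (mem_zpowers_iff_of_sq c.zz).2 (h.fpf_QQ h6 hI ha hq (by simpa using h1.mul_right h2.inv_right))
  have h2 : QQ a (ζ a) ⊔ 𝐍[zpowers a] ≤ 𝐍[QQ a (ζ a) ⊔ zpowers a] :=
    sup_le (norm_of_le le_sup_left) (norm_sup hN le_rfl)
  have h4 : P ⊓ (QQ a (ζ a) ⊔ zpowers a) ≤ zpowers a :=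
    h1.ge_of_le (hS.pg.to_le inf_le_left) (le_inf hP le_sup_right) inf_le_right
  obtain ⟨k, hk, h5⟩ := hS.conj_le (pg_zpowers h3) (zpowers_le.2 hc)
  have h7 : k * c * k⁻¹ ∈ P := h5 (conj_mem_cj (mem_zpowers c))
  refine ⟨k, hk, comm_of_norm (k := 1) ha ?_ (h4 (mem_inf.2 ⟨?_, ?_⟩))⟩
  · rw [pow_one, ← (ord_conj k c).trans h3, pow_orderOf_eq_one]
  · exact mul_mem (mul_mem h7 (hP (mem_zpowers a))) (inv_mem h7)
  · exact conj_mem_of_norm (h2 (hS.le h7)) (mem_sup_right (mem_zpowers a))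

omit hI in
theorem qb_cy {y w : G} (p : Pr a y) (h1 : Commute y w) (h2 : Commute (ζ a) w) : w ∈ QQ a (ζ a) ⊔ 𝐍[zpowers a] := by
  obtain ⟨e, he, n, hn, rfl⟩ := h.cent_fac p.symm (h.gd_zeta p.symm h6) h1 h2
  have h3 := mem_c.1 (QQ_le _ _ (E_le p _ he))
  refine mul_mem (mem_sup_left (E_le p _ he)) (mem_sup_right (h.qb_fus h6 ha ?_ ?_))
  · simpa using h3.inv_right.mul_right h2
  · exact p.symm.comm_of_mem (right_mem_AA y a) (conj_mem_of_norm hn (right_mem_AA y a))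

theorem qb_se {g c : G} (hg : Commute (ζ a) g) (h2 : Commute a c) (h3 : orderOf c = 3)
    (h1 : Commute a (g * c * g⁻¹)) : g ∈ QQ a (ζ a) ⊔ 𝐍[zpowers a] := by
  by_cases hc : c ∈ zpowers a
  · refine mem_sup_right (h.qb_fus h6 ha hg ?_)
    rcases (mem_zpowers_three ha).1 hc with rfl | rfl | rfl
    · simp at h3
    · exact h1
    · simpa [mul_assoc] using h1.inv_right
  · have h4 : g⁻¹ * a * g⁻¹⁻¹ ∈ QQ a (ζ a) ⊔ 𝐍[zpowers a] := by
      refine h.qb_cy h6 ha ⟨ha, h3, h2, hc⟩ ?_ ?_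
      · simpa [mul_assoc] using (comm_conj h1 g⁻¹).symm
      · exact (hg.inv_right.mul_right (h.norm_zeta ha (le_normalizer (mem_zpowers a)))).mul_right hg.inv_right.inv_right
    obtain ⟨k, hk, h5⟩ := h.qb_conj h6 hI ha h4 ((ord_conj _ a).trans ha)
    have h7 : k * g⁻¹ ∈ 𝐍[zpowers a] := h.qb_fus h6 ha ((mem_c.1 (h.qb_H_le ha hk)).mul_right hg.inv_right)
      (by simpa [mul_assoc] using h5)
    exact inv_mem_iff.1 ((mul_mem_cancel_left hk).1 (mem_sup_right h7))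

theorem se {g c : G} (hg : Commute (ζ a) g) (hc : c ∈ QQ a (ζ a) ⊔ 𝐍[zpowers a]) (h3 : orderOf c = 3)
    (h1 : g * c * g⁻¹ ∈ QQ a (ζ a) ⊔ 𝐍[zpowers a]) : g ∈ QQ a (ζ a) ⊔ 𝐍[zpowers a] := by
  obtain ⟨k, hk, h4⟩ := h.qb_conj h6 hI ha hc h3
  obtain ⟨l, hl, h5⟩ := h.qb_conj h6 hI ha h1 ((ord_conj g c).trans h3)
  have h7 := h.qb_se h6 hI ha (g := l * g * k⁻¹)
    (((mem_c.1 (h.qb_H_le ha hl)).mul_right hg).mul_right (mem_c.1 (h.qb_H_le ha hk)).inv_right) h4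
    ((ord_conj k c).trans h3) (by simpa [mul_assoc] using h5)
  exact (mul_mem_cancel_left hl).1 ((mul_mem_cancel_right (inv_mem hk)).1 h7)

end Hyp

end Cfsg.Agent.J3L
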