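import Mathlib
import Cfsg.Agent.J3L.Base
import Cfsg.Agent.J4T.Hyp

/-!
The normal form of the Janko hypothesis from the centraliser of the element of order 3.
-/

set_option autoImplicit false
set_option linter.unusedSectionVars false

namespace Cfsg.Agent.J3L

open Cfsg Cfsg.Agent.Spor Cfsg.Agent.Spor.MB Cfsg.Agent.J4T Cfsg.Agent.Loc.Mss Subgroup
open scoped commutatorElement

variable {G : Type*} [Group G] [Finite G] {x z : G} {φ : 𝐜[x] →* PG} {Q : Subgroup G}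

namespace StA

theorem c_le (x : G) : 𝐜[x] ≤ 𝐍[zpowers x] := fun g hg =>
  cj_eq_iff.1 (by rw [cj_zpowers, ← (mem_c.1 hg).eq, mul_inv_cancel_right])

theorem n_le (x : G) : 𝐍[zpowers x] ≤ 𝐍[𝐜[x]] := fun g hg => mem_norm_of_cj_le (by
  rw [cj_c]
  intro y hy
  obtain ⟨k, hk⟩ : g⁻¹ * x * g ∈ zpowers x := conj_mem_of_norm' hg (mem_zpowers x)
  have h1 : g * x * g⁻¹ ∈ zpowers x := conj_mem_of_norm hg (mem_zpowers x)
  have h2 : x = (g * x * g⁻¹) ^ k := by rw [conj_zpow, show x ^ k = g⁻¹ * x * g from hk]; group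
  rw [mem_c] at hy ⊢
  exact h2 ▸ hy.zpow_left k)

theorem n_cases (h3 : orderOf x = 3) {n : G} (hn : n ∈ 𝐍[zpowers x]) : Commute x n ∨ n * x * n⁻¹ = x⁻¹ := by
  rcases (mem_zpowers_three h3).1 (conj_mem_of_norm hn (mem_zpowers x)) with e | e | e
  · exact absurd h3 (by rw [← ord_conj n x, e]; simp)
  · exact .inl (mul_inv_eq_iff_eq_mul.1 e).symm
  · exact .inr e

theorem not_inv (h3 : orderOf x = 3) {n : G} (h : Commute x n) : n * x * n⁻¹ ≠ x⁻¹ := fun e => by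
  rw [← h.eq, mul_inv_cancel_right] at e
  have : orderOf x ∣ 2 := orderOf_dvd_of_pow_eq_one (by rw [sq]; nth_rewrite 1 [e]; exact inv_mul_cancel x)
  rw [h3] at this
  omega

theorem exists_inv (hi : IsConj x x⁻¹) : ∃ g ∈ 𝐍[zpowers x], g * x * g⁻¹ = x⁻¹ := by
  obtain ⟨g, e⟩ := isConj_iff.1 hi
  exact ⟨g, cj_eq_iff.1 (by rw [cj_zpowers, e, zpowers_inv]), e⟩

theorem le_comm (c : Cov x z φ) : 𝐜[x] ≤ ⁅𝐜[x], 𝐜[x]⁆ := by
  rw [← map_subtype_commutator, c.perf, map_subtype_top]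

theorem mem_two_three {P : Subgroup G} (hP : IsPGroup 2 P) (h3 : orderOf x = 3) {s : G} (h1 : s ∈ P)
    (h2 : s ∈ zpowers x) : s = 1 := by
  obtain ⟨k, hk⟩ := pg_iff.1 hP s h1
  exact orderOf_eq_one_iff.1 (Nat.eq_one_of_dvd_coprimes (Nat.Coprime.pow_right k (by decide))
    (h3 ▸ orderOf_dvd_of_mem_zpowers h2) (orderOf_dvd_of_pow_eq_one hk))

theorem comm_of_mem (es : ES2 Q z) (h3 : orderOf x = 3) (nQ : x ∈ 𝐍[Q]) {q : G} (h1 : q ∈ Q)
    (h2 : q ∈ 𝐍[zpowers x]) : Commute x q := by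
  have := mem_two_three es.isPGroup h3 (s := q * x * q⁻¹ * x⁻¹)
    (by simpa only [mul_assoc] using mul_mem h1 (conj_mem_of_norm nQ (inv_mem h1)))
    (mul_mem (conj_mem_of_norm h2 (mem_zpowers x)) (inv_mem (mem_zpowers x)))
  exact (commutatorElement_eq_one_iff_commute.1 this).symm

/-- A normal subgroup of the centraliser of `x` that does not contain `x` lies in the kernel. -/
theorem ker_of (c : Cov x z φ) {T : Subgroup G} (hT : 𝐜[x] ≤ 𝐍[T]) (hx : x ∉ T) {n : G} (h1 : n ∈ T)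
    (h2 : Commute x n) : n ∈ zpowers x ⊔ zpowers z := by
  let ψ : 𝐜[x] →* Spor.M22 := φ.codRestrict _ fun g => c.mem ⟨g.2, rfl⟩
  have hψ : Function.Surjective ψ := fun m => let ⟨g, k⟩ := c.lift m.2; ⟨⟨g, k.1⟩, Subtype.ext k.2⟩
  haveI := Golay.simple_M22
  rcases ((normal_subgroupOf_of_le_normalizer hT).map ψ hψ).eq_bot_or_eq_top with e | e
  · have : ψ ⟨n, mem_c.2 h2⟩ ∈ (T.subgroupOf 𝐜[x]).map ψ := mem_map_of_mem ψ h1
    rw [e] at this
    exact (c.ker _).1 (congrArg Subtype.val (mem_bot.1 this))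
  · refine absurd ((le_comm c).trans (commutator_le.2 fun a ha b hb => ?_) (mem_c.2 (Commute.refl x))) hx
    obtain ⟨t, ht, e1⟩ : ψ ⟨a, ha⟩ ∈ (T.subgroupOf 𝐜[x]).map ψ := e ▸ mem_top _
    obtain ⟨s, hs, rfl⟩ := c.eq_mul (g := t) (h := a) ⟨t.2, congrArg Subtype.val e1⟩ ⟨ha, rfl⟩
    have e2 : ⁅(t : G) * s, b⁆ = t * (b * (t : G)⁻¹ * b⁻¹) := by
      rw [commutatorElement_def, mul_assoc (t : G) s b, (c.ker_comm hs (mem_c.1 hb)).eq]; group
    exact e2 ▸ mul_mem ht (conj_mem_of_norm (hT hb) (inv_mem ht))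

end StA

open StA

theorem Cov.st0 (c : Cov x z φ) (es : ES2 Q z) (hQ : Nat.card Q = 2 ^ 13) (nQ : 𝐍[zpowers x] ≤ 𝐍[Q])
    (nz : 𝐍[zpowers x] ≤ 𝐜[z]) (fpf : ∀ q ∈ Q, Commute x q → q = 1 ∨ q = z)
    (hH : 𝐜[z] ≤ Q ⊔ 𝐍[zpowers x]) (hi : IsConj x x⁻¹) : ∃ π, St0 z Q x π := by
  have h3 := c.ord
  have xN : zpowers x ≤ 𝐍[zpowers x] := le_normalizer
  have xQ : x ∈ 𝐍[Q] := nQ (xN (mem_zpowers x))
  have QH : Q ≤ 𝐜[z] := fun q hq => mem_c.2 (es.z_comm q hq)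
  have HQ : 𝐜[z] ≤ 𝐍[Q] := hH.trans (sup_le le_normalizer nQ)
  have fac : ∀ h ∈ 𝐜[z], ∃ q ∈ Q, ∃ n ∈ 𝐍[zpowers x], q * n = h := fun h hh => (mem_sup_norm nQ).1 (hH hh)
  have nN : 𝐜[z] ≤ 𝐍[Q ⊔ zpowers x] := hH.trans (sup_le (norm_of_le le_sup_left) (norm_sup nQ le_rfl))
  have nM : 𝐜[z] ≤ 𝐍[Q ⊔ 𝐜[x]] := hH.trans (sup_le (norm_of_le le_sup_left) (norm_sup nQ (n_le x)))
  have CQ : 𝐜[x] ≤ 𝐍[Q] := (c_le x).trans nQ
  have CH : 𝐜[x] ≤ 𝐜[z] := (c_le x).trans nz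
  have mM : ∀ n ∈ 𝐍[zpowers x], n ∈ Q ⊔ 𝐜[x] → Commute x n := fun n hn h => by
    obtain ⟨q, hq, d, hd, rfl⟩ := (mem_sup_norm CQ).1 h
    exact (comm_of_mem es h3 xQ hq ((mul_mem_cancel_right (c_le x hd)).1 hn)).mul_right (mem_c.1 hd)
  have mN : ∀ d, Commute x d → (d ∈ Q ⊔ zpowers x ↔ d ∈ zpowers x ⊔ zpowers z) := fun d hd => by
    refine ⟨fun h => ?_, fun h => (sup_le le_sup_right (zpowers_le.2 (mem_sup_left es.z_mem)) : _ ≤ _) h⟩
    obtain ⟨q, hq, _, ⟨k, rfl⟩, rfl⟩ := (mem_sup_norm (xN.trans nQ)).1 h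
    refine mul_mem (mem_sup_right ((mem_zpowers_iff_of_sq c.zz).2 (fpf q hq ?_))) (mem_sup_left ⟨k, rfl⟩)
    simpa using hd.mul_right ((Commute.refl x).zpow_right k).inv_right
  haveI := normal_subgroupOf_of_le_normalizer nN
  haveI := normal_subgroupOf_of_le_normalizer nM
  obtain ⟨g, hg, eg⟩ := exists_inv hi
  obtain ⟨π, hr, hk, -⟩ := HypC.exists_pi_of_index (N := (Q ⊔ zpowers x).subgroupOf 𝐜[z])
    (M := (Q ⊔ 𝐜[x]).subgroupOf 𝐜[z])
    (subgroupOf_mono _ (sup_le_sup_left (zpowers_le.2 (mem_c.2 (Commute.refl x))) _))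
    (index_eq_two_iff_exists_notMem_and.2 ⟨⟨g, nz hg⟩, fun h => not_inv h3 (mM g hg h) eg, fun b => by
      obtain ⟨q, hq, n, hn, e⟩ := fac b b.2
      rcases n_cases h3 hn with k | k
      · exact .inr (mem_subgroupOf.2 (e ▸ mul_mem (mem_sup_left hq) (mem_sup_right (mem_c.2 k))))
      · refine .inl (mem_subgroupOf.2 ?_)
        change (b : G) * g ∈ _
        rw [← e, mul_assoc]
        refine mul_mem (mem_sup_left hq) (mem_sup_right (mem_c.2 (Commute.symm (mul_inv_eq_iff_eq_mul.1 ?_))))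
        rw [show n * g * x * (n * g)⁻¹ = n * (g * x * g⁻¹) * n⁻¹ by group, eg,
          show n * x⁻¹ * n⁻¹ = (n * x * n⁻¹)⁻¹ by group, k, inv_inv]⟩)
    (fun h hh => by
      obtain ⟨q, hq, n, hn, e⟩ := fac h h.2
      have k1 : ∀ d, Commute x d → ∃ s ∈ zpowers x ⊔ zpowers z, n * d * n⁻¹ = s * d := fun d hd => by
        refine ⟨n * d * n⁻¹ * d⁻¹, (mN _ ((mem_c.1 (conj_mem_of_norm (n_le x hn) (mem_c.2 hd))).mul_right
          hd.inv_right)).1 ?_, by group⟩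
        have h1 : (h : G) * d * (h : G)⁻¹ * d⁻¹ ∈ Q ⊔ zpowers x :=
          hh ⟨d, CH (mem_c.2 hd)⟩ (mem_sup_right (mem_c.2 hd))
        rw [← e, show q * n * d * (q * n)⁻¹ * d⁻¹ = q * (n * d * n⁻¹ * d⁻¹) * (d * q⁻¹ * d⁻¹) by group] at h1
        exact (mul_mem_cancel_left (mem_sup_left hq)).1 ((mul_mem_cancel_right (mem_sup_left
          (conj_mem_of_norm (CQ (mem_c.2 hd)) (inv_mem hq)))).1 h1)
      have k2 : 𝐜[x] ≤ 𝐜[n] := (le_comm c).trans (commutator_le.2 fun a ha b hb => by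
        obtain ⟨s, hs, e1⟩ := k1 a (mem_c.1 ha)
        obtain ⟨t, ht, e2⟩ := k1 b (mem_c.1 hb)
        have c1 := c.ker_comm hs (mem_c.1 ha)
        have c2 := c.ker_comm hs ((mem_c.1 (c.ker_le ht)).mul_right (mem_c.1 hb))
        have c3 := c.ker_comm ht (mem_c.1 ha)
        have c4 := c.ker_comm ht (mem_c.1 hb)
        refine mem_c.2 (mul_inv_eq_iff_eq_mul.1 ?_)
        rw [conjugate_commutatorElement, e1, e2, commutatorElement_def, commutatorElement_def, c1.eq,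
          mul_assoc a s, c2.eq, c4.eq,
          show a * (b * t * s) * (a * s)⁻¹ * (b * t)⁻¹ = a * b * (t * a⁻¹) * t⁻¹ * b⁻¹ by group, c3.inv_right.eq]
        group)
      exact mem_subgroupOf.2 (e ▸ mul_mem (mem_sup_left hq)
        (mem_sup_right (mem_c.2 (mem_c.1 (k2 (mem_c.2 (Commute.refl x)))).symm))))
    (by
      let ι : 𝐜[x] →* ((Q ⊔ 𝐜[x]).subgroupOf 𝐜[z]) :=
        (inclusion CH).codRestrict _ fun d => mem_subgroupOf.2 (mem_sup_right d.2)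
      let ψ := (QuotientGroup.mk' (((Q ⊔ zpowers x).subgroupOf 𝐜[z]).subgroupOf
        ((Q ⊔ 𝐜[x]).subgroupOf 𝐜[z]))).comp ι
      have hs : Function.Surjective ψ := fun y => by
        obtain ⟨m, rfl⟩ := QuotientGroup.mk'_surjective _ y
        obtain ⟨d, hd, q, hq, e⟩ := (mem_sup_norm' CQ).1 ((sup_comm Q _).le (mem_subgroupOf.1 m.2))
        refine ⟨⟨d, hd⟩, QuotientGroup.eq.2 ?_⟩
        change d⁻¹ * ((m : 𝐜[z]) : G) ∈ Q ⊔ zpowers x
        rw [← e, inv_mul_cancel_left]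
        exact mem_sup_left hq
      have hk : ψ.ker = φ.ker := by
        ext d
        rw [MonoidHom.mem_ker, MonoidHom.mem_ker, c.ker, ← mN d (mem_c.1 d.2)]
        exact QuotientGroup.eq_one_iff _
      exact ⟨(QuotientGroup.quotientKerEquivOfSurjective ψ hs).symm.trans ((QuotientGroup.quotientMulEquivOfEq hk).trans
        ((QuotientGroup.quotientKerEquivRange φ).trans (MulEquiv.subgroupCongr c.range)))⟩)
  refine ⟨π, es, hQ, fun h hh q hq => conj_mem_of_norm (HQ (mem_c.2 (Commute.symm hh))) hq, fun h hh hc => ?_, h3,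
    c.za, hr, fun h => by rw [← MonoidHom.mem_ker, hk, mem_subgroupOf], fpf⟩
  have Hz : 𝐜[z] ≤ 𝐍[zpowers z] := c_le z
  have HT : 𝐜[z] ≤ 𝐍[cmod Q (zpowers z)] := norm_cmod HQ Hz
  have QT : Q ≤ cmod Q (zpowers z) := fun q hq => mem_cmod.2 ⟨Hz (QH hq), fun v hv => by
    rw [mem_zpowers_iff_of_sq c.zz, commutatorElement_def]
    rcases es.aes.conj_eq hv hq with e | e <;> rw [e] <;> simp⟩
  have xT : x ∉ cmod Q (zpowers z) := fun k => by
    obtain ⟨a, ha, b, hb, e⟩ := es.nonab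
    have : ∀ y ∈ Q, y = 1 ∨ y = z := fun y hy => fpf y hy (by
      rcases (mem_zpowers_iff_of_sq c.zz).1 ((mem_cmod.1 k).2 y hy) with e | e
      · exact (commutatorElement_eq_one_iff_commute.1 e).symm
      · refine absurd (comm_of_three (s := y⁻¹) (h3 ▸ pow_orderOf_eq_one x) c.zz c.za ?_) es.z_ne
        rw [← e, commutatorElement_def]; group)
    rcases this a ha with rfl | rfl
    · exact e (by simp)
    · exact e (es.z_comm b hb)
  obtain ⟨q, hq, n, hn, rfl⟩ := fac h (mem_c.2 (Commute.symm hh))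
  have nT : n ∈ cmod Q (zpowers z) := (mul_mem_cancel_left (QT hq)).1 (mem_cmod.2
    ⟨Hz (mem_c.2 (Commute.symm hh)), fun v hv => by
      rw [commutatorElement_eq_one_iff_mul_comm.2 (hc v hv).symm]; exact one_mem _⟩)
  refine mul_mem hq ?_
  rcases n_cases h3 hn with k | k
  · obtain ⟨s, hs, e⟩ := c.mem_ker.1 (ker_of c (CH.trans HT) xT nT k)
    have sT : s ∈ cmod Q (zpowers z) := e.elim (fun e => e ▸ nT) fun e =>
      (mul_mem_cancel_right (QT es.z_mem)).1 (e ▸ nT)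
    rcases (mem_zpowers_three h3).1 hs with rfl | rfl | rfl
    · exact e.elim (fun e => e ▸ one_mem _) fun e => by rw [e, one_mul]; exact es.z_mem
    · exact absurd sT xT
    · exact absurd (inv_mem_iff.1 sT) xT
  · refine absurd ?_ xT
    have h1 := mul_mem nT (conj_mem_of_norm (HT (CH (mem_c.2 (Commute.refl x)))) (inv_mem nT))
    rwa [show n * (x * n⁻¹ * x⁻¹) = n * x * n⁻¹ * x⁻¹ by group, k, ← mul_inv_rev,
      show x * x = x⁻¹ from eq_inv_of_mul_eq_one_left (by rw [← pow_three', ← h3, pow_orderOf_eq_one]),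
      inv_inv] at h1

theorem Cov.type (c : Cov x z φ) {π : 𝐜[z] →* PG} (s : St0 z Q x π) (nz : 𝐍[zpowers x] ≤ 𝐜[z])
    (hi : IsConj x x⁻¹) : IsOfJankoFourTypeWith z (zpowers x) := by
  have h3 := c.ord
  have QH : Q ≤ 𝐜[z] := fun q hq => mem_c.2 (s.es.z_comm q hq)
  have HQ : 𝐜[z] ≤ 𝐍[Q] := norm_of_forall_cj_le fun h hh => cj_le_iff.2 (s.nQ h (mem_c.1 hh).symm)
  have xH : zpowers x ≤ 𝐜[z] := le_normalizer.trans nz
  have CH : 𝐜[x] ≤ 𝐜[z] := (c_le x).trans nz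
  have hk : π.ker = (Q ⊔ zpowers x).subgroupOf 𝐜[z] := Subgroup.ext fun h => s.ker h
  have cx : 𝐂[zpowers x] = 𝐜[x] := Subgroup.ext fun g => by
    rw [mem_cent, mem_c]
    exact ⟨fun h => h x (mem_zpowers x), fun h _ ⟨k, e⟩ => e ▸ (h.zpow_left k).eq⟩
  have hE : twoCoreOfCentralizer z = Q := by
    haveI := normal_subgroupOf_of_le_normalizer HQ
    have h1 : Q.subgroupOf 𝐜[z] ≤ pCore 2 𝐜[z] := GT.le_pCore (s.es.isPGroup.comap_subtype)
    refine le_antisymm ?_ (fun q hq => ⟨⟨q, QH hq⟩, h1 hq, rfl⟩)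
    rintro _ ⟨o, ho, rfl⟩
    have pg := GT.isPGroup_pCore (G := 𝐜[z]) 2
    have nO : (pCore 2 𝐜[z]).Normal := inferInstance
    have l : ∀ m ∈ D22, ∃ h, π h = m := fun m hm => by rwa [← s.range] at hm
    have h2 : (((pCore 2 𝐜[z]).map π).subgroupOf Spor.M22).Normal := ⟨fun a ⟨u, hu, e⟩ m => by
      obtain ⟨h, eh⟩ := l m (HypA.le_D22 m.2)
      exact ⟨h * u * h⁻¹, nO.conj_mem u hu h, by rw [map_mul, map_mul, map_inv, eh, e]; rfl⟩⟩
    haveI := Golay.simple_M22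
    have h4 : ((pCore 2 𝐜[z]).map π).subgroupOf Spor.M22 = ⊥ := h2.eq_bot_or_eq_top.resolve_right fun e => by
      have : IsPGroup 2 (((pCore 2 𝐜[z]).map π).subgroupOf Spor.M22) := (pg.map π).comap_subtype
      obtain ⟨k, hk⟩ := IsPGroup.iff_card.1 this
      rw [e, card_top, Golay.card_M22] at hk
      exact absurd (Nat.Prime.dvd_of_dvd_pow Nat.prime_three (hk ▸ (by decide : 3 ∣ 443520))) (by decide)
    have oD : π o ∈ D22 := s.range ▸ ⟨o, rfl⟩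
    have h5 : π o = 1 := HypA.eq_one_of_comm oD fun m hm => by
      obtain ⟨h, rfl⟩ := l m (HypA.le_D22 hm)
      have : (⟨π o * π h * (π o)⁻¹ * (π h)⁻¹, mul_mem (HypA.conj_mem oD hm) (inv_mem hm)⟩ : Spor.M22) ∈
          ((pCore 2 𝐜[z]).map π).subgroupOf Spor.M22 :=
        ⟨o * (h * o⁻¹ * h⁻¹), mul_mem ho (nO.conj_mem _ (inv_mem ho) h), by simp [mul_assoc]⟩
      rw [h4] at this
      exact commutatorElement_eq_one_iff_mul_comm.1 (congrArg Subtype.val (mem_bot.1 this))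
    obtain ⟨q, hq, t, ht, e⟩ := (mem_sup_norm (xH.trans HQ)).1 ((s.ker o).1 h5)
    have h6 : t = 1 := mem_two_three (pg.map (𝐜[z]).subtype) h3
      ⟨(⟨q, QH hq⟩ : 𝐜[z])⁻¹ * o, mul_mem (inv_mem (h1 hq)) ho, by
        change q⁻¹ * (o : G) = t
        rw [← e, inv_mul_cancel_left]⟩ ht
    change (o : G) ∈ Q
    rwa [← e, h6, mul_one]
  haveI nN : ((Q ⊔ zpowers x).subgroupOf 𝐜[z]).Normal := hk ▸ π.normal_ker
  obtain ⟨e, -⟩ := HypA.exists_equiv
  obtain ⟨g, hg, eg⟩ := exists_inv hi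
  rw [IsOfJankoFourTypeWith, hE, cx, inf_eq_right.2 CH]
  refine ⟨s.es.orderOf_z, s.es.isExtraspecial, s.card, fun h hh => s.cQ h (mem_c.1 hh.1).symm fun q hq =>
    (hh.2 q hq).symm, ⟨Q ⊔ zpowers x, le_sup_left, sup_le QH xH,
      (normal_subgroupOf_iff_le_normalizer (sup_le QH xH)).1 nN, ?_, ⟨nN, ⟨(QuotientGroup.quotientMulEquivOfEq
      hk.symm).trans ((QuotientGroup.quotientKerEquivRange π).trans ((MulEquiv.subgroupCongr s.range).trans e))⟩⟩,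
      le_sup_right⟩, by rw [Nat.card_zpowers, h3], ?_, fun k => ?_, ?_⟩
  · rw [GT.CopAct.card_sup_of_inf_eq_bot (xH.trans HQ) (eq_bot_iff.2 fun t ht =>
      mem_two_three s.es.isPGroup h3 ht.1 ht.2), Nat.card_zpowers, h3, mul_comm]
  · exact le_antisymm (fun q hq => (mem_zpowers_iff_of_sq c.zz).2 (s.fpf q hq.1 (mem_c.1 hq.2)))
      (zpowers_le.2 ⟨s.es.z_mem, mem_c.2 c.za⟩)
  · exact not_inv h3 (mem_c.1 (k ▸ (⟨nz hg, hg⟩ : g ∈ 𝐜[z] ⊓ 𝐍[zpowers x]))) eg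
  · exact (zpowers_le.2 (mem_c.2 (Commute.refl x))).trans (le_comm c)

end Cfsg.Agent.J3L
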