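import Mathlib
import Cfsg.Agent.J3L.VApi
import Cfsg.Agent.J3L.LocE
import Cfsg.Agent.GT.CoprimeProd

/-!
The first case for the centre of order 3.
-/

set_option autoImplicit false
set_option linter.unusedSectionVars false

namespace Cfsg.Agent.J3L

open Cfsg Cfsg.Agent.GT Cfsg.Agent.Loc.Mss Subgroup
open scoped commutatorElement

variable {G : Type*} [Group G] [Finite G] {ζ : G → G} {a b : G}

namespace Three

/-- The group of order 32. -/
def OO (a b r : G) : Subgroup G := closure (Es a b r)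

omit [Finite G] in
theorem cj_OO_le (g a b r : G) : cj(g, OO a b r) ≤ OO (g * a * g⁻¹) (g * b * g⁻¹) (g * r * g⁻¹) := by
  rw [cj_le_iff_le_inv, OO, closure_le]
  exact fun t ht => mem_cj.2 (by simpa [OO] using subset_closure (Es_conj ht g))

omit [Finite G] in
theorem cj_OO (g a b r : G) : cj(g, OO a b r) = OO (g * a * g⁻¹) (g * b * g⁻¹) (g * r * g⁻¹) := by
  refine le_antisymm (cj_OO_le g a b r) ?_
  have := cj_OO_le g⁻¹ (g * a * g⁻¹) (g * b * g⁻¹) (g * r * g⁻¹)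
  rw [← le_cj_iff_inv_le] at this
  simpa [mul_assoc] using this

omit [Finite G] in
theorem OO_inv (a b r : G) : OO a b⁻¹ r = OO a b r :=
  le_antisymm (closure_mono fun _ ht => by simpa using Es_inv ht) (closure_mono fun _ ht => Es_inv ht)

omit [Finite G] in
theorem OO_le (a b r : G) : OO a b r ≤ 𝐜[a] ⊓ 𝐜[r] := (closure_le _).2 fun _ ht => ⟨mem_c.2 ht.1, mem_c.2 ht.2.1⟩

omit [Finite G] in
theorem norm_OO {a b r g : G} (h1 : Commute a g) (h2 : g * b * g⁻¹ = b ∨ g * b * g⁻¹ = b⁻¹) (h3 : Commute r g) :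
    g ∈ 𝐍[OO a b r] := cj_eq_iff.1 (by
  rw [cj_OO, ← h1.eq, ← h3.eq, mul_inv_cancel_right, mul_inv_cancel_right]
  rcases h2 with e | e <;> rw [e]
  exact OO_inv a b r)

/-- The first alternative. -/
def Al (a b r : G) : Prop := ∀ c ∈ AA a b, c ∉ zpowers a → ⁅VV (AA a b) c, OO a b r⁆ ≤ VV (AA a b) b ∧
  (c ∉ zpowers b → VV (AA a b) b ≤ ⁅VV (AA a b) c, OO a b r⁆)

/-- The second alternative. -/
def Be (a b r : G) : Prop := ∀ c ∈ AA a b, c ∉ zpowers a → c ∉ zpowers b → VV (AA a b) c ≤ 𝐂[OO a b r] ∧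
  VV (AA a b) c ≤ ⁅VV (AA a b) b, OO a b r⁆

omit [Finite G] in
theorem nm_conj {a c g : G} (h : g * c * g⁻¹ ∉ zpowers (g * a * g⁻¹)) : c ∉ zpowers a := fun k =>
  h (cj_zpowers g a ▸ conj_mem_cj k)

omit [Finite G] in
theorem Al.conj {a b r : G} (h : Al a b r) (g : G) : Al (g * a * g⁻¹) (g * b * g⁻¹) (g * r * g⁻¹) := by
  intro c hc
  rw [← cj_AA] at hc ⊢
  obtain ⟨c, hc, rfl⟩ := hc
  change g * c * g⁻¹ ∉ _ → ⁅VV _ (g * c * g⁻¹), _⁆ ≤ _ ∧ (g * c * g⁻¹ ∉ _ → _ ≤ ⁅VV _ (g * c * g⁻¹), _⁆)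
  rw [← cj_VV, ← cj_VV, ← cj_OO, ← cj_comm, cj_le_cj, cj_le_cj]
  exact fun h1 => ⟨(h c hc (nm_conj h1)).1, fun h2 => (h c hc (nm_conj h1)).2 (nm_conj h2)⟩

omit [Finite G] in
theorem Be.conj {a b r : G} (h : Be a b r) (g : G) : Be (g * a * g⁻¹) (g * b * g⁻¹) (g * r * g⁻¹) := by
  intro c hc
  rw [← cj_AA] at hc ⊢
  obtain ⟨c, hc, rfl⟩ := hc
  change g * c * g⁻¹ ∉ _ → g * c * g⁻¹ ∉ _ → VV _ (g * c * g⁻¹) ≤ _ ∧ VV _ (g * c * g⁻¹) ≤ _
  rw [← cj_VV, ← cj_VV, ← cj_OO, ← cj_comm, ← cj_cent, cj_le_cj, cj_le_cj]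
  exact fun h1 h2 => h c hc (nm_conj h1) (nm_conj h2)

theorem AA_eq (p : Pr a b) {c d : G} (hc : c ∈ AA a b) (hd : d ∈ AA a b) (q : Pr c d) : AA c d = AA a b :=
  eq_of_le_of_card_ge (AA_le hc hd) (by rw [p.card, q.card])

theorem pr_of (p : Pr a b) {c d : G} (hc : c ∈ AA a b) (hd : d ∈ AA a b) (h1 : c ≠ 1) (h2 : d ∉ zpowers c) : Pr c d :=
  ⟨p.ord hc h1, p.ord hd fun e => h2 (e ▸ one_mem _), p.comm_of_mem hc hd, h2⟩

omit [Finite G] in
theorem norm_A {g : G} (h1 : g * a * g⁻¹ ∈ AA a b) (h2 : g * b * g⁻¹ ∈ AA a b) [Finite G] : g ∈ 𝐍[AA a b] :=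
  mem_norm_of_cj_le (by rw [cj_AA]; exact AA_le h1 h2)

variable (h : Hyp ζ) (hI : CaseI G) (p : Pr a b)
include h hI p

theorem VV_le_VA {c : G} (hc : c ∈ AA a b) (h1 : c ≠ 1) : VV (AA a b) c ≤ VA (AA a b) := by
  obtain ⟨d, q, e⟩ := p.exists_partner hc h1
  refine le_trans (fun v hv => ?_) (UU_le_VA hc h1)
  rw [← e] at hv ⊢
  exact ((h.mem_VV q).1 hv).1

theorem RR_le_VA : RR (AA a b) ≤ VA (AA a b) := (h.RR_le_UU p).trans (UU_le_VA (left_mem_AA a b) p.a_ne)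

theorem VA_cent {U : Subgroup G} (hU : U ≤ VA (AA a b)) : VA (AA a b) ≤ 𝐂[U] := fun _ hv =>
  mem_cent.2 fun _ hu => h.VA_comm hI p (hU hu) hv

theorem A_norm_VA : AA a b ≤ 𝐍[VA (AA a b)] := fun _ hc => norm_VA (le_normalizer hc)

theorem A_norm_VV {c : G} (hc : c ∈ AA a b) : AA a b ≤ 𝐍[VV (AA a b) c] := fun _ hg =>
  norm_VV (le_normalizer hg) (p.comm_of_mem hc hg)

theorem VV_ne {c : G} (hc : c ∈ AA a b) (h1 : c ≠ 1) : VV (AA a b) c ≠ ⊥ := by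
  obtain ⟨d, q, e⟩ := p.exists_partner hc h1
  intro k
  have := h.card_VV q
  rw [e, k, card_bot] at this
  omega

/-- A complement of `V_c` in `V`. -/
theorem exists_K {c : G} (hc : c ∈ AA a b) (h1 : c ≠ 1) : ∃ K : Subgroup G, RR (AA a b) ≤ K ∧
    (∀ d ∈ AA a b, d ≠ 1 → c ∉ zpowers d → VV (AA a b) d ≤ K) ∧ ∀ v ∈ VV (AA a b) c, v ∈ K → v = 1 := by
  have hn := A_norm_VA h hI p hc
  have hm : ∀ s ∈ VA (AA a b), ∀ t ∈ VA (AA a b), Commute s t := fun s hs t ht => h.VA_comm hI p hs ht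
  have h3 : ∀ v ∈ VA (AA a b), Commute c v → tr3 c v = v := fun v hv k => by
    rw [tr3_of_comm k, pow_three', h.VA_sq hI p hv, one_mul]
  refine ⟨{ carrier := {v | v ∈ VA (AA a b) ∧ tr3 c v ∈ RR (AA a b)}
            mul_mem' := fun {s t} hs ht => ⟨mul_mem hs.1 ht.1, by rw [tr3_mul hm hn hs.1 ht.1]; exact mul_mem hs.2 ht.2⟩
            one_mem' := ⟨one_mem _, by simp [tr3]⟩
            inv_mem' := fun {s} hs => by rwa [inv_eq_of_mul_eq_one_right (h.VA_sq hI p hs.1)] }, fun ρ hρ => ?_,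
    fun d hd hd1 hcd v hv => ⟨VV_le_VA h hI p hd hd1 hv, ?_⟩, fun v hv k => ?_⟩
  · have h4 := RR_le_VA h hI p hρ
    refine ⟨h4, ?_⟩
    obtain ⟨h5, h6, -⟩ := (h.mem_RR p).1 hρ
    rwa [h3 ρ h4 (mem_cent.1 (mem_cent_AA.2 ⟨h5, h6⟩) c hc)]
  · have q := pr_of p hd hc hd1 hcd
    rw [← AA_eq p hd hc q] at hv
    rw [((h.mem_VV q).1 hv).2]
    exact one_mem _
  · obtain ⟨d, q, e⟩ := p.exists_partner hc h1
    have h4 := k.2
    rw [← e] at hv h4
    rw [h3 v k.1 ((h.mem_UU q).1 ((h.mem_VV q).1 hv).1).1] at h4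
    exact h.VV_fpf q hv ((h.mem_RR q).1 h4).2.1

theorem VV_inf {c d : G} (hc : c ∈ AA a b) (hd : d ∈ AA a b) (q : Pr c d) : ¬ VV (AA a b) c ≤ VV (AA a b) d := by
  obtain ⟨K, -, h1, h2⟩ := exists_K h hI p hc q.a_ne
  exact fun k => VV_ne h hI p hc q.a_ne (eq_bot_iff.2 fun v hv => h2 v hv (h1 d hd q.b_ne q.symm.nm (k hv)))

theorem VV_le_WW {c : G} (hc : c ∈ AA a b) (h1 : c ∉ zpowers a) : VV (AA a b) c ≤ WW (AA a b) a := by
  intro v hv
  rw [h.mem_WW hI p]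
  rcases p.cases hc (fun e => h1 (e ▸ one_mem _)) with (e | e) | (e | e) | (e | e) | (e | e) <;> rw [e] at hv h1 <;>
    try rw [VV_inv] at hv
  · exact absurd (mem_zpowers a) h1
  · exact absurd (inv_mem (mem_zpowers a)) h1
  all_goals first
    | exact ⟨v, hv, 1, one_mem _, 1, one_mem _, by simp⟩
    | exact ⟨1, one_mem _, v, hv, 1, one_mem _, by simp⟩
    | exact ⟨1, one_mem _, 1, one_mem _, v, hv, by simp⟩

/-- The subgroups of `W` that are invariant under `A` and `τ`. -/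
theorem cls {τ : G} (t1 : Commute a τ) (t2 : τ * b * τ⁻¹ = b⁻¹) {D : Subgroup G} (h1 : D ≤ WW (AA a b) a)
    (h2 : AA a b ≤ 𝐍[D]) (h3 : τ ∈ 𝐍[D]) : D = ⊥ ∨ D = VV (AA a b) b ∨
      D = VV (AA a b) (a * b) ⊔ VV (AA a b) (a⁻¹ * b) ∨ D = WW (AA a b) a := by
  have m1 := right_mem_AA a b
  have m2 := mul_mem (left_mem_AA a b) m1
  have m3 := mul_mem (inv_mem (left_mem_AA a b)) m1
  have hτ : τ ∈ 𝐍[AA a b] := norm_A (by rw [← t1.eq, mul_inv_cancel_right]; exact left_mem_AA a b) (t2 ▸ inv_mem m1)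
  have e1 : τ * (a * b) * τ⁻¹ = (a⁻¹ * b)⁻¹ := by
    rw [← conj_mul, t2, ← t1.eq, mul_inv_cancel_right, p.comm.inv_left.eq, mul_inv_rev, inv_inv]
  have e2 : τ * (a⁻¹ * b) * τ⁻¹ = (a * b)⁻¹ := by
    rw [← conj_mul, t2, ← t1.inv_left.eq, mul_inv_cancel_right, p.comm.eq, mul_inv_rev]
  have k23 : VV (AA a b) (a * b) ≤ D ↔ VV (AA a b) (a⁻¹ * b) ≤ D := ⟨fun k => by
    have := cj_le_of_norm k h3
    rwa [cj_VV, cj_of_norm hτ, e1, VV_inv] at this, fun k => by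
    have := cj_le_of_norm k h3
    rwa [cj_VV, cj_of_norm hτ, e2, VV_inv] at this⟩
  have hz : ∀ c ∈ AA a b, c ≠ 1 → ¬ VV (AA a b) c ≤ D → ∀ v ∈ VV (AA a b) c, v ∈ D → v = 1 :=
    fun c hc c1 k v hv hD => by_contra fun v1 => k (h.VV_le p h2 hc c1 hv v1 hD)
  have hw : ∀ w ∈ D, ∃ v1 ∈ VV (AA a b) b, ∃ v2 ∈ VV (AA a b) (a * b), ∃ v3 ∈ VV (AA a b) (a⁻¹ * b),
      w = v1 * v2 * v3 ∧ v1 ∈ D ∧ v2 ∈ D ∧ v3 ∈ D := fun w hw => by
    obtain ⟨v1, k1, v2, k2, v3, k3, rfl⟩ := (h.mem_WW hI p).1 (h1 hw)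
    exact ⟨v1, k1, v2, k2, v3, k3, rfl, (h.comp hI p h2 (one_mem _) (one_mem _) k1 k2 k3 (by simpa using hw)).2.2⟩
  have z1 := hz b m1 p.b_ne
  have z2 := hz _ m2 p.mul_left.1.b_ne
  have z3 := hz _ m3 p.inv_mul_left.1.b_ne
  by_cases c1 : VV (AA a b) b ≤ D <;> by_cases c2 : VV (AA a b) (a * b) ≤ D
  · refine .inr (.inr (.inr (le_antisymm h1 fun w hw => ?_)))
    obtain ⟨v1, k1, v2, k2, v3, k3, rfl⟩ := (h.mem_WW hI p).1 hw
    exact mul_mem (mul_mem (c1 k1) (c2 k2)) (k23.1 c2 k3)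
  · refine .inr (.inl (le_antisymm (fun w k => ?_) c1))
    obtain ⟨v1, k1, v2, k2, v3, k3, rfl, -, d2, d3⟩ := hw w k
    rwa [z2 c2 v2 k2 d2, z3 (mt k23.2 c2) v3 k3 d3, mul_one, mul_one]
  · refine .inr (.inr (.inl (le_antisymm (fun w k => ?_) (sup_le c2 (k23.1 c2)))))
    obtain ⟨v1, k1, v2, k2, v3, k3, rfl, d1, -⟩ := hw w k
    rw [z1 c1 v1 k1 d1, one_mul]
    exact mul_mem (mem_sup_left k2) (mem_sup_right k3)
  · refine .inl (eq_bot_iff.2 fun w k => ?_)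
    obtain ⟨v1, k1, v2, k2, v3, k3, rfl, d1, d2, d3⟩ := hw w k
    rw [z1 c1 v1 k1 d1, z2 c2 v2 k2 d2, z3 (mt k23.2 c2) v3 k3 d3, mul_one, mul_one]
    exact one_mem _

theorem pg_VA : IsPGroup 2 (VA (AA a b)) := pg_of_sq fun _ hv => h.VA_sq hI p hv

variable {r : G} (g : Gd ζ a b r)
include g

theorem O_norm_U : OO a b r ≤ 𝐍[UU (AA a b) a] := fun _ ht =>
  h.norm_UU_of p g.mem g.nm (mem_c.1 (OO_le a b r ht).1) (mem_c.1 (OO_le a b r ht).2)

theorem O_norm_V : OO a b r ≤ 𝐍[VA (AA a b)] := (O_norm_U h hI p g).trans (hI a b p).2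

theorem A_norm_O : AA a b ≤ 𝐍[OO a b r] := by
  obtain ⟨h1, h2, -⟩ := (h.mem_RR p).1 g.mem
  exact AA_le (norm_OO (Commute.refl a) (.inl (by rw [p.comm.eq, mul_inv_cancel_right])) h1.symm)
    (norm_OO p.comm (.inl (mul_inv_cancel_right b b)) h2.symm)

theorem pg_O : IsPGroup 2 (OO a b r) := IsPGroup.of_card (n := 5) (h.card_E p g)

theorem O_cent_r : OO a b r ≤ 𝐂[zpowers r] := fun _ ht => by
  rw [mem_cent]
  rintro _ ⟨k, rfl⟩
  exact ((mem_c.1 (OO_le a b r ht).2).zpow_left k).eq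

theorem comm_V0 : ⁅VV (AA a b) a, OO a b r⁆ ≤ zpowers r :=
  comm_closure_le (fun _ ht => cent_le_norm _ (O_cent_r h hI p g (subset_closure ht))) fun t ht v hv => by
    rcases h.E_comm p g (h.VV_sub p g hv) ht with e | e
    · rw [e.commutator_eq]; exact one_mem _
    · rw [commutatorElement_def, e, show r * (t * v) * v⁻¹ * t⁻¹ = r by group]; exact mem_zpowers r

theorem dich {τ : G} (t1 : Commute a τ) (t2 : τ * b * τ⁻¹ = b⁻¹) (t3 : Commute r τ) : Al a b r ∨ Be a b r := by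
  have m1 := right_mem_AA a b
  have m2 := mul_mem (left_mem_AA a b) m1
  have m3 := mul_mem (inv_mem (left_mem_AA a b)) m1
  have hW : ∀ n, Commute a n → n ∈ 𝐍[AA a b] → n ∈ 𝐍[WW (AA a b) a] := fun n k1 k2 =>
    h.norm_WW hI p k1 (norm_UU k2 k1)
  have nO : OO a b r ≤ 𝐍[WW (AA a b) a] := fun t ht =>
    h.norm_WW hI p (mem_c.1 (OO_le a b r ht).1) (O_norm_U h hI p g ht)
  have nA : AA a b ≤ 𝐍[WW (AA a b) a] := fun c hc => hW c (p.comm_of_mem (left_mem_AA a b) hc) (le_normalizer hc)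
  have nτ : zpowers τ ≤ 𝐍[WW (AA a b) a] := zpowers_le.2 (hW τ t1
    (norm_A (by rw [← t1.eq, mul_inv_cancel_right]; exact left_mem_AA a b) (t2 ▸ inv_mem m1)))
  have oτ : zpowers τ ≤ 𝐍[OO a b r] := zpowers_le.2 (norm_OO t1 (.inr t2) t3)
  have oA := A_norm_O h hI p g
  have pW : IsPGroup 2 (WW (AA a b) a) := (pg_VA h hI p).to_le (h.WW_le hI p)
  have hnc : ¬ OO a b r ≤ 𝐂[WW (AA a b) a] := fun k => by
    obtain ⟨t, ht, n, n1, n2, n3⟩ := h.E_move p g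
    have k1 := k (subset_closure ht)
    exact h.not_cent_WW hI p n3 (mul_mem k1 (conj_mem_of_norm
      (zpowers_le.1 (norm_cent (zpowers_le.2 (h.norm_WW hI p n1 n2)))) k1))
  have hM := cls h hI p t1 t2 (comm_le_left nO) (norm_comm nA oA) (zpowers_le.1 (norm_comm nτ oτ))
  have hC := cls h hI p t1 t2 (D := WW (AA a b) a ⊓ 𝐂[OO a b r]) inf_le_left (norm_inf nA (norm_cent oA))
    (zpowers_le.1 (norm_inf nτ (norm_cent oτ)))
  have M0 : ⁅WW (AA a b) a, OO a b r⁆ ≠ ⊥ := fun k => hnc (comm_eq_bot_iff'.1 k)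
  have M1 : ⁅WW (AA a b) a, OO a b r⁆ ≠ WW (AA a b) a := by
    obtain ⟨n, hn⟩ := PG.exists_iterCommutator_eq_bot_of_isPGroup pW (pg_O h hI p g) nO
    refine (PG.commutator_lt_of_iterCommutator hn nO fun k => ?_).ne
    have := h.card_WW hI p
    rw [k, card_bot] at this
    omega
  have C1 : WW (AA a b) a ⊓ 𝐂[OO a b r] ≠ WW (AA a b) a := fun k => hnc (cent_comm (inf_eq_left.1 k))
  have MC : ⁅WW (AA a b) a, OO a b r⁆ ⊓ (WW (AA a b) a ⊓ 𝐂[OO a b r]) ≠ ⊥ := by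
    rw [← inf_assoc, inf_eq_left.2 (comm_le_left nO)]
    exact PG.inf_centralizer_ne_bot_of_isPGroup (pW.to_le (comm_le_left nO)) (pg_O h hI p g)
      (norm_comm nO le_normalizer) M0
  have dj : VV (AA a b) b ⊓ (VV (AA a b) (a * b) ⊔ VV (AA a b) (a⁻¹ * b)) = ⊥ := by
    obtain ⟨K, -, k1, k2⟩ := exists_K h hI p m1 p.b_ne
    have q2 : Pr b (a * b) := p.comm.eq ▸ p.symm.mul_left.1
    have q3 : Pr b (a⁻¹ * b) := p.comm.inv_left.eq ▸ p.inv_left.symm.mul_left.1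
    exact eq_bot_iff.2 fun v hv => k2 v hv.1 (sup_le (k1 _ m2 q2.b_ne q2.symm.nm) (k1 _ m3 q3.b_ne q3.symm.nm) hv.2)
  rcases hM with e | e | e | e
  · exact absurd e M0
  · rcases hC with f | f | f | f
    · exact absurd (by rw [f, inf_bot_eq]) MC
    · refine .inl fun c hc c1 => ⟨(commutator_mono (VV_le_WW h hI p hc c1) le_rfl).trans e.le, fun c2 => ?_⟩
      have q := (pr_of p m1 hc p.b_ne c2).symm
      have k : ⁅VV (AA a b) c, OO a b r⁆ ≠ ⊥ := fun k =>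
        VV_inf h hI p hc m1 q ((le_inf (VV_le_WW h hI p hc c1) (comm_eq_bot_iff.1 k)).trans f.le)
      obtain ⟨v, hv, v1⟩ := (bot_or_exists_ne_one _).resolve_left k
      exact h.VV_le p (norm_comm (A_norm_VV h hI p hc) oA) m1 p.b_ne
        (((commutator_mono (VV_le_WW h hI p hc c1) le_rfl).trans e.le) hv) v1 hv
    · exact absurd (by rw [e, f, dj]) MC
    · exact absurd f C1
  · rcases hC with f | f | f | f
    · exact absurd (by rw [f, inf_bot_eq]) MC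
    · exact absurd (by rw [e, f, inf_comm, dj]) MC
    · refine .inr fun c hc c1 c2 => ?_
      have k : VV (AA a b) c ≤ VV (AA a b) (a * b) ⊔ VV (AA a b) (a⁻¹ * b) := by
        rcases p.cases hc (fun e => c1 (e ▸ one_mem _)) with (e | e) | (e | e) | (e | e) | (e | e) <;>
          rw [e] at c1 c2 ⊢ <;> try rw [VV_inv]
        exacts [absurd (mem_zpowers a) c1, absurd (inv_mem (mem_zpowers a)) c1, absurd (mem_zpowers b) c2,
          absurd (inv_mem (mem_zpowers b)) c2, le_sup_left, le_sup_left, le_sup_right, le_sup_right]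
      refine ⟨(k.trans f.ge).trans inf_le_right, k.trans (e.ge.trans ?_)⟩
      rw [← sup_cent_comm (A := VV (AA a b) b) (C := WW (AA a b) a ⊓ 𝐂[OO a b r]) (norm_of_cent ((inf_le_left.trans
        (h.WW_le hI p)).trans (VA_cent h hI p (VV_le_VA h hI p m1 p.b_ne)))) inf_le_right, f]
      refine commutator_mono (fun w hw => ?_) le_rfl
      obtain ⟨v1, k1, v2, k2, v3, k3, rfl⟩ := (h.mem_WW hI p).1 hw
      exact mul_mem (mul_mem (mem_sup_left k1) (mem_sup_right (mem_sup_left k2))) (mem_sup_right (mem_sup_right k3))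
    · exact absurd f C1
  · exact absurd e M1

omit g in
/-- A subgroup that acts trivially on a large section of `V` is a 2-group. -/
theorem two_group (h3 : C3 ζ) (hr : r ∈ RR (AA a b)) (r1 : r ≠ 1) {Γ F U : Subgroup G} (nV : Γ ≤ 𝐍[VA (AA a b)])
    (nr : Γ ≤ 𝐜[r]) (nA : AA a b ≤ 𝐍[Γ]) (hF : F ≤ VA (AA a b)) (cF : Nat.card F = 32) (hU : U ≤ VA (AA a b))
    (hc : ⁅F, Γ⁆ ≤ U) (hi : F ⊓ U ≤ zpowers r) : IsPGroup 2 Γ := by
  have hm : ∀ s ∈ VA (AA a b), ∀ t ∈ VA (AA a b), Commute s t := fun s hs t ht => h.VA_comm hI p hs ht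
  have rr : r * r = 1 := ((h.mem_RR p).1 hr).2.2
  have n3 : ¬ 3 ∣ Nat.card Γ := fun k => by
    obtain ⟨⟨c, hcΓ⟩, c3⟩ := exists_prime_orderOf_dvd_card' (G := Γ) 3 k
    rw [← orderOf_coe] at c3
    have hn := nV hcΓ
    let f : F →* G := MonoidHom.mk' (fun v => tr3 c v) fun s t => tr3_mul hm hn (hF s.2) (hF t.2)
    have hf : Function.Injective f := (injective_iff_map_eq_one f).2 fun v hv => by
      have k1 : ∀ d ∈ Γ, d * v * d⁻¹ * (v : G)⁻¹ ∈ U := fun d hd => by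
        have := inv_mem (hc (commutator_mem_commutator v.2 hd))
        rwa [commutatorElement_inv] at this
      have vv := h.VA_sq hI p (hF v.2)
      have k2 : (v : G) ∈ U := by
        have k3 := mul_mem (k1 c hcΓ) (k1 _ (inv_mem hcΓ))
        have k4 : tr3 c v = 1 := hv
        rw [inv_inv, inv_eq_of_mul_eq_one_right vv, mul_assoc (c * v * c⁻¹), ← mul_assoc (v : G),
          (hm _ (hF v.2) _ (conj_mem_of_norm' hn (hF v.2))).eq, mul_assoc (c⁻¹ * v * c), vv, mul_one] at k3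
        rw [tr3, mul_assoc] at k4
        rwa [eq_inv_of_mul_eq_one_left k4, inv_mem_iff]
      rcases (Spor.mem_zpowers_iff_of_sq rr).1 (hi ⟨v.2, k2⟩) with e | e
      · exact Subtype.ext e
      · have k4 : tr3 c v = 1 := hv
        rw [e, tr3_of_comm (mem_c.1 (nr hcΓ)).symm, pow_three', rr, one_mul] at k4
        exact absurd k4 r1
    have k5 := h.rank c3 (F := f.range) (by
      rintro _ ⟨v, rfl⟩
      exact mem_c.2 (comm_tr3 hm (c3 ▸ pow_orderOf_eq_one c) hn (hF v.2))) (by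
      rintro _ ⟨v, rfl⟩
      exact h.VA_sq hI p (tr3_mem hn (hF v.2)))
    rw [← Nat.card_congr (MonoidHom.ofInjective hf).toEquiv, cF, h3 c c3, zpowers_one_eq_bot, card_bot] at k5
    omega
  have hq : ∀ q : ℕ, q.Prime → q ∣ Nat.card Γ → q = 2 := fun q hq hd => by
    by_contra q2
    have q3 : q ≠ 3 := fun e => n3 (e ▸ hd)
    have := Fact.mk hq
    obtain ⟨P, P1, P2, P3, P4⟩ := CopAct.exists_invariant_sylowIn nA (CopAct.coprime_of_isPGroup_left p.pg n3)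
      (.inl (by have := p.pg.isNilpotent; infer_instance)) q
    have P5 : P ≤ ⊥ := p.gen P4 (fun k => n3 (k.trans (card_dvd_of_le P1))) fun c hc c1 x hx => by
      have k1 := h.exp (p.ord hc c1) (t := r) (mem_cent.1 (mem_cent_AA.2 ⟨((h.mem_RR p).1 hr).1,
        ((h.mem_RR p).1 hr).2.1⟩) c hc) rr (by rwa [h3 c (p.ord hc c1), zpowers_one_eq_bot, mem_bot]) (mem_c.1 hx.2)
        (mem_c.1 (nr (P1 hx.1)))
      obtain ⟨k, hk⟩ := pg_iff.1 P2 x hx.1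
      refine orderOf_eq_one_iff.1 (Nat.eq_one_of_dvd_coprimes (Nat.Coprime.pow_left k ?_)
        (orderOf_dvd_of_pow_eq_one hk) (orderOf_dvd_of_pow_eq_one k1))
      rw [show 144 = 2 ^ 4 * 3 ^ 2 from rfl]
      exact Nat.Coprime.mul_right (Nat.Coprime.pow_right _ ((Nat.coprime_primes hq Nat.prime_two).2 q2))
        (Nat.Coprime.pow_right _ ((Nat.coprime_primes hq Nat.prime_three).2 q3))
    rw [le_bot_iff.1 P5, relIndex_bot_left] at P3
    exact P3 hd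
  exact IsPGroup.of_card (Nat.eq_prime_pow_of_unique_prime_dvd Nat.card_pos.ne' fun {q} k1 k2 => hq q k1 k2)

theorem side_al (hA : Al a b r) {c d : G} (hc : c ∈ AA a b) (hd : d ∈ AA a b) (c1 : c ∉ zpowers a)
    (d1 : d ∉ zpowers a) : ⁅zpowers r ⊔ VV (AA a b) a ⊔ VV (AA a b) c, OO a b r⁆ ≤
      zpowers r ⊔ (VV (AA a b) b ⊔ VV (AA a b) d) ∧ OO a b r ≤ 𝐍[zpowers r ⊔ (VV (AA a b) b ⊔ VV (AA a b) d)] := by
  have k0 : zpowers r ≤ VA (AA a b) := zpowers_le.2 (RR_le_VA h hI p g.mem)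
  have ka := VV_le_VA h hI p (left_mem_AA a b) p.a_ne
  have kb := VV_le_VA h hI p (right_mem_AA a b) p.b_ne
  have kc := VV_le_VA h hI p hc fun e => c1 (e ▸ one_mem _)
  have kd := VV_le_VA h hI p hd fun e => d1 (e ▸ one_mem _)
  have n1 := norm_of_cent (VA_cent h hI p (sup_le k0 (sup_le kb kd)))
  have n2 := norm_of_cent (VA_cent h hI p (sup_le kb kd))
  refine ⟨sup_comm_le ((sup_le k0 ka).trans n1) (kc.trans n1) (sup_comm_le (k0.trans n1) (ka.trans n1) ?_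
    ((comm_V0 h hI p g).trans le_sup_left)) ((hA c hc c1).1.trans (le_sup_of_le_right le_sup_left)),
    norm_sup (norm_of_cent (O_cent_r h hI p g)) (norm_of_comm_le le_rfl (sup_comm_le (kb.trans n2) (kd.trans n2)
      ((hA b (right_mem_AA a b) p.nm).1.trans le_sup_left) ((hA d hd d1).1.trans le_sup_left)))⟩
  rw [comm_eq_bot_iff'.2 (O_cent_r h hI p g)]
  exact bot_le

theorem side_be (hB : Be a b r) {c : G} (hc : c ∈ AA a b) (c1 : c ∉ zpowers a) (c2 : c ∉ zpowers b) :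
    ⁅zpowers r ⊔ VV (AA a b) a ⊔ VV (AA a b) c, OO a b r⁆ ≤ zpowers r := by
  have k0 : zpowers r ≤ VA (AA a b) := zpowers_le.2 (RR_le_VA h hI p g.mem)
  have ka := VV_le_VA h hI p (left_mem_AA a b) p.a_ne
  have kc := VV_le_VA h hI p hc fun e => c1 (e ▸ one_mem _)
  have n1 := norm_of_cent (VA_cent h hI p k0)
  refine sup_comm_le ((sup_le k0 ka).trans n1) (kc.trans n1) (sup_comm_le (k0.trans n1) (ka.trans n1) ?_
    (comm_V0 h hI p g)) ?_
  · rw [comm_eq_bot_iff'.2 (O_cent_r h hI p g)]; exact bot_le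
  · rw [comm_eq_bot_iff.2 (hB c hc c1 c2).1]; exact bot_le

theorem final (h3 : C3 ζ) {c d : G} (q : Pr c d) (e : AA c d = AA a b) (g' : Gd ζ c d r) (ca : Pr a c) (da : Pr a d)
    (cb : Pr b c) (db : Pr b d) (hd : (Al a b r ∧ Al c d r) ∨ (Be a b r ∧ Be c d r)) : False := by
  have ma := left_mem_AA a b
  have mb := right_mem_AA a b
  have mc : c ∈ AA a b := e ▸ left_mem_AA c d
  have md : d ∈ AA a b := e ▸ right_mem_AA c d
  have r1 : r ≠ 1 := fun k => g.nm (k ▸ one_mem _)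
  have k0 : zpowers r ≤ VA (AA a b) := zpowers_le.2 (RR_le_VA h hI p g.mem)
  have ka := VV_le_VA h hI p ma p.a_ne
  have kb := VV_le_VA h hI p mb p.b_ne
  have kc := VV_le_VA h hI p mc q.a_ne
  have kd := VV_le_VA h hI p md q.b_ne
  have nV : OO a b r ⊔ OO c d r ≤ 𝐍[VA (AA a b)] := sup_le (O_norm_V h hI p g) (e ▸ O_norm_V h hI q g')
  have two := fun U => two_group h hI p h3 g.mem r1 (U := U) nV
    (sup_le ((OO_le a b r).trans inf_le_right) ((OO_le c d r).trans inf_le_right))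
    (norm_sup (A_norm_O h hI p g) (e ▸ A_norm_O h hI q g')) (sup_le (sup_le k0 ka) kc)
    (h.card_three hI p g.mem r1 ma mc ca)
  have fin : IsPGroup 2 ↥(OO a b r ⊔ OO c d r) → VV (AA a b) b ≤ ⁅VV (AA a b) d, OO a b r ⊔ OO c d r⁆ →
      VV (AA a b) d ≤ ⁅VV (AA a b) b, OO a b r ⊔ OO c d r⁆ → False := fun k k1 k2 => by
    obtain ⟨n, hn⟩ := PG.exists_iterCommutator_eq_bot_of_isPGroup (pg_VA h hI p) k nV
    have := le_of_le_sup_comm (V := VV (AA a b) b ⊔ VV (AA a b) d) (U := ⊥) (eq_bot_iff.2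
      ((PG.iterCommutator_mono (sup_le kb kd) le_rfl n).trans hn.le)) (norm_normal _ _) (norm_normal _ _)
      (le_sup_of_le_right (sup_le (k1.trans (commutator_mono le_sup_right le_rfl))
        (k2.trans (commutator_mono le_sup_left le_rfl))))
    exact VV_ne h hI p mb p.b_ne (eq_bot_iff.2 (le_sup_left.trans this))
  rcases hd with ⟨A1, A2⟩ | ⟨B1, B2⟩
  · obtain ⟨s1, s2⟩ := side_al h hI p g A1 mc md ca.nm da.nm
    obtain ⟨s3, s4⟩ := side_al h hI q g' A2 (e ▸ ma) (e ▸ mb) ca.symm.nm cb.symm.nm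
    rw [e, sup_comm (VV _ d)] at s3 s4
    rw [sup_right_comm] at s3
    refine fin (two _ (sup_le k0 (sup_le kb kd)) (comm_sup_le s2 s4 s1 s3) fun w hw => ?_)
      (((A1 d md da.nm).2 db.nm).trans (commutator_mono le_rfl le_sup_left)) ?_
    · obtain ⟨Ka, a1, a2, a3⟩ := exists_K h hI p ma p.a_ne
      obtain ⟨Kc, c1, c2, c3⟩ := exists_K h hI p mc q.a_ne
      have ra : zpowers r ≤ Ka := (zpowers_le.2 g.mem).trans a1
      have rc : zpowers r ≤ Kc := (zpowers_le.2 g.mem).trans c1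
      have wa : w ∈ Ka := sup_le ra (sup_le (a2 b mb p.b_ne p.symm.nm) (a2 d md q.b_ne da.symm.nm)) hw.2
      have wc : w ∈ Kc := sup_le rc (sup_le (c2 b mb p.b_ne cb.nm) (c2 d md q.b_ne q.symm.nm)) hw.2
      obtain ⟨u, hu, vc, hvc, rfl⟩ := (mem_sup_norm (kc.trans (norm_of_cent (VA_cent h hI p (sup_le k0 ka))))).1 hw.1
      obtain ⟨ρ, hρ, va, hva, rfl⟩ := (mem_sup_norm (ka.trans (norm_of_cent (VA_cent h hI p k0)))).1 hu
      rw [a3 va hva ((Ka.mul_mem_cancel_left (ra hρ)).1 ((Ka.mul_mem_cancel_right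
        (a2 c mc q.a_ne ca.symm.nm hvc)).1 wa)), mul_one] at wc ⊢
      rwa [c3 vc hvc ((Kc.mul_mem_cancel_left (rc hρ)).1 wc), mul_one]
    · have := (A2 b (e ▸ mb) cb.symm.nm).2 db.symm.nm
      rw [e] at this
      exact this.trans (commutator_mono le_rfl le_sup_right)
  · have s1 := side_be h hI p g B1 mc ca.nm cb.nm
    have s3 := side_be h hI q g' B2 (e ▸ ma) ca.symm.nm da.symm.nm
    rw [e, sup_right_comm] at s3
    refine fin (two _ k0 (comm_sup_le (norm_of_cent (O_cent_r h hI p g)) (norm_of_cent (O_cent_r h hI q g')) s1 s3)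
      inf_le_right) ?_ ((B1 d md da.nm db.nm).2.trans (commutator_mono le_rfl le_sup_left))
    have := (B2 b (e ▸ mb) cb.symm.nm db.symm.nm).2
    rw [e] at this
    exact this.trans (commutator_mono le_rfl le_sup_right)

omit g in
theorem main (h3 : C3 ζ) (hr : r ∈ RR (AA a b)) (r1 : r ≠ 1) {τ : G} (t1 : Commute a τ) (t2 : τ * b * τ⁻¹ = b⁻¹)
    (t3 : Commute r τ) : False := by
  have gd : ∀ c d, Pr c d → AA c d = AA a b → Gd ζ c d r := fun c d q e =>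
    ⟨e ▸ hr, by rwa [h3 c q.a3, zpowers_one_eq_bot, mem_bot], .inl (h3 c q.a3)⟩
  have ma := left_mem_AA a b
  have mb := right_mem_AA a b
  have q2 : Pr b (a * b) := p.comm.eq ▸ p.symm.mul_left.1
  have q3 : Pr b (a⁻¹ * b) := p.comm.inv_left.eq ▸ p.inv_left.symm.mul_left.1
  obtain ⟨ν, n1, n2, n3⟩ : ∃ ν : G, ν * a * ν⁻¹ = a * b ∧ ν * r * ν⁻¹ = r ∧ ν ∈ 𝐍[AA a b] := by
    obtain ⟨x, x1, x2⟩ := h.trans a b _ _ p q2.symm
    obtain ⟨s, -, s1, s2, -⟩ := h.exists_s p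
    have nx : x ∈ 𝐍[AA a b] := norm_A (x1 ▸ mul_mem ma mb) (x2.symm ▸ mb)
    have ns : s ∈ 𝐍[AA a b] := norm_A (by rwa [← s1.eq, mul_inv_cancel_right]) (s2 ▸ mul_mem ma mb)
    obtain ⟨k, hk⟩ := h.trans_R p (h3 a p.a3) s1 s2 hr r1 (conj_mem_of_norm' (norm_RR nx) hr)
      (fun e => r1 (by simpa [mul_eq_one_iff_eq_inv] using e))
    refine ⟨x * s ^ k, ?_, ?_, mul_mem nx (pow_mem ns k)⟩
    · rw [← x1, mul_assoc x, ← (s1.pow_right k).eq]; group
    · rw [show x * s ^ k * r * (x * s ^ k)⁻¹ = x * (s ^ k * r * (s ^ k)⁻¹) * x⁻¹ by group, hk]; group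
  have q := p.conj ν
  have e : AA (ν * a * ν⁻¹) (ν * b * ν⁻¹) = AA a b := by rw [← cj_AA, cj_of_norm n3]
  have s1 := comm_conj t1 ν
  have s3 := comm_conj t3 ν
  have s2 : ν * τ * ν⁻¹ * (ν * b * ν⁻¹) * (ν * τ * ν⁻¹)⁻¹ = (ν * b * ν⁻¹)⁻¹ := by
    rw [show ν * τ * ν⁻¹ * (ν * b * ν⁻¹) * (ν * τ * ν⁻¹)⁻¹ = ν * (τ * b * τ⁻¹) * ν⁻¹ by group, t2]; group
  have hd : (Al a b r ∧ Al (ν * a * ν⁻¹) (ν * b * ν⁻¹) r) ∨ (Be a b r ∧ Be (ν * a * ν⁻¹) (ν * b * ν⁻¹) r) := by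
    rcases dich h hI p (gd a b p rfl) t1 t2 t3 with k | k
    · exact .inl ⟨k, by simpa only [n2] using k.conj ν⟩
    · exact .inr ⟨k, by simpa only [n2] using k.conj ν⟩
  have md : ν * b * ν⁻¹ ∈ AA a b := conj_mem_of_norm n3 mb
  rw [n1] at q e s1 hd
  rw [n2] at s3
  generalize ν * b * ν⁻¹ = d at q e s2 hd md
  generalize ν * τ * ν⁻¹ = σ at s1 s2 s3
  have s4 : σ * (a * b) * σ⁻¹ = a * b := by rw [← s1.eq, mul_inv_cancel_right]
  have s5 : σ * d⁻¹ * σ⁻¹ = d := by rw [← conj_inv, s2, inv_inv]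
  have t4 : τ * a * τ⁻¹ = a := by rw [← t1.eq, mul_inv_cancel_right]
  have aa : a * a = a⁻¹ := eq_inv_of_mul_eq_one_left (by rw [← pow_three', p.a_cube])
  have bb : b * b = b⁻¹ := eq_inv_of_mul_eq_one_left (by rw [← pow_three', p.b_cube])
  have da : d ∉ zpowers a := fun k => by
    have k1 : σ * a * σ⁻¹ = a⁻¹ := by
      rcases (mem_zpowers_three p.a3).1 k with f | f | f
      · exact absurd f q.b_ne
      · rwa [f] at s2
      · rwa [f, inv_inv] at s5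
    have k2 : σ * b * σ⁻¹ = a⁻¹ * b := by
      rw [← conj_mul, k1] at s4
      rw [eq_inv_mul_of_mul_eq s4, inv_inv, ← mul_assoc, aa]
    have k3 : σ * τ * a * (σ * τ)⁻¹ = a⁻¹ := by
      rw [show σ * τ * a * (σ * τ)⁻¹ = σ * (τ * a * τ⁻¹) * σ⁻¹ by group, t4, k1]
    have k4 : σ * τ * b * (σ * τ)⁻¹ = (a⁻¹ * b)⁻¹ := by
      rw [show σ * τ * b * (σ * τ)⁻¹ = σ * (τ * b * τ⁻¹) * σ⁻¹ by group, t2, ← conj_inv, k2]
    have k5 := s3.mul_right t3
    generalize σ * τ = μ at k3 k4 k5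
    have := h.fix_R p (g := μ * μ) (ρ := r) (by
      refine (mul_inv_eq_iff_eq_mul.1 ?_).symm
      rw [show μ * μ * a * (μ * μ)⁻¹ = μ * (μ * a * μ⁻¹) * μ⁻¹ by group, k3, ← conj_inv, k3, inv_inv]) (.inl (by
      rw [show μ * μ * b * (μ * μ)⁻¹ = μ * (μ * b * μ⁻¹) * μ⁻¹ by group, k4, ← conj_inv, ← conj_mul, ← conj_inv, k3, k4,
        inv_inv, mul_inv_rev, inv_inv, mul_assoc, ← p.comm.inv_left.eq, ← mul_assoc, ← mul_inv_rev, aa, inv_inv]))
      hr (k5.mul_right k5).symm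
    exact (gd a b p rfl).nm this
  have db : d ∉ zpowers b := fun k => by
    have k1 : σ * b * σ⁻¹ = b⁻¹ := by
      rcases (mem_zpowers_three p.b3).1 k with f | f | f
      · exact absurd f q.b_ne
      · rwa [f] at s2
      · rwa [f, inv_inv] at s5
    have k2 : σ * a * σ⁻¹ = a * b⁻¹ := by
      rw [← conj_mul, k1] at s4
      rw [eq_mul_inv_of_mul_eq s4, inv_inv, mul_assoc, bb]
    have := h.fix_R p.symm (g := τ * σ) (ρ := r) (by
      refine (mul_inv_eq_iff_eq_mul.1 ?_).symm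
      rw [show τ * σ * b * (τ * σ)⁻¹ = τ * (σ * b * σ⁻¹) * τ⁻¹ by group, k1, ← conj_inv, t2, inv_inv]) (.inl (by
      rw [show τ * σ * a * (τ * σ)⁻¹ = τ * (σ * a * σ⁻¹) * τ⁻¹ by group, k2, ← conj_mul, ← conj_inv, t2, t4, inv_inv,
        p.comm.eq])) (AA_comm a b ▸ hr) (t3.mul_right s3).symm
    exact (gd b a p.symm (AA_comm b a)).nm this
  exact final h hI p (gd a b p rfl) h3 q e (gd _ _ q e) p.mul_left.1 (pr_of p ma md p.a_ne da) q2
    (pr_of p mb md p.b_ne db) hd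

end Three

theorem Hyp.three (h : Hyp ζ) (h3 : C3 ζ) (p : Pr a b) : ¬ CaseI G := fun hI => by
  obtain ⟨r, hr, r1⟩ := (RR (AA a b)).bot_or_exists_ne_one.resolve_left fun k => by
    have := h.card_RR p
    rw [k, card_bot] at this
    omega
  obtain ⟨τ, t1, t3, ⟨s, hs, t2⟩, -⟩ := h.exists_tau p (h3 a p.a3) hr r1
  obtain ⟨q, e⟩ := p.of_mem (c := s * b) (mul_mem (mem_sup_left hs) (right_mem_AA a b))
    fun k => p.nm ((mul_mem_cancel_left hs).1 k)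
  refine Three.main h hI q h3 (e ▸ hr) r1 t1 ?_ t3
  have k1 : Commute s τ := by obtain ⟨i, rfl⟩ := hs; exact t1.zpow_left i
  have k2 : Commute s b := by obtain ⟨i, rfl⟩ := hs; exact p.comm.zpow_left i
  have k3 : s * s = s⁻¹ := eq_inv_of_mul_eq_one_left (by rw [← pow_three', p.cube (mem_sup_left hs)])
  rw [← conj_mul, t2, ← k1.eq, mul_inv_cancel_right, ← mul_assoc, k3, k2.eq, mul_inv_rev]

end Cfsg.Agent.J3L
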