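import Mathlib
import Cfsg.Agent.J3L.Base
import Cfsg.Agent.Inv.TwoAut
import Cfsg.Agent.GT.CoprimeNilp
import Cfsg.Agent.GT.FourGroup
import Cfsg.Agent.S0112
import Cfsg.Agent.S0113

/-!
A nearly self-centralising four-group and an outer element of order 3.
-/

set_option autoImplicit false

namespace Cfsg.Agent.J3L.Two3

open Cfsg Cfsg.Agent.Loc.Mss Subgroup

variable {H : Type*} [Group H]

theorem eq_one_of_two {x : H} {m n : ℕ} (h : m.Coprime n) (h1 : x ^ m = 1) (h2 : x ^ n = 1) :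
    x = 1 := by
  rw [← orderOf_eq_one_iff, ← Nat.dvd_one, ← h]
  exact Nat.dvd_gcd (orderOf_dvd_of_pow_eq_one h1) (orderOf_dvd_of_pow_eq_one h2)

theorem relIndex_mul_card {A B : Subgroup H} (h : A ≤ B) : A.relIndex B * Nat.card A = Nat.card B := by
  rw [mul_comm, GT.card_mul_relIndex h]

variable [Finite H]

/-- A 2-group of order at least 16 with a self-centralising four-group has no automorphism of odd
order. -/
theorem aut2 (hH : IsPGroup 2 H) {F : Subgroup H} (h4 : Nat.card F = 4) (hsq : ∀ f ∈ F, f * f = 1)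
    (hC : 𝐂[F] = F) (h16 : 16 ∣ Nat.card H) : IsPGroup 2 (MulAut H) := by
  obtain ⟨n, hn⟩ := IsPGroup.iff_card.1 hH
  have hn4 : 4 ≤ n := (Nat.pow_dvd_pow_iff_le_right (by decide : 1 < 2)).1 (hn ▸ h16)
  obtain ⟨C, hc, hi⟩ := S0113.result n (by omega) hn (S0112.result n hn F h4 hC)
  obtain ⟨x, rfl⟩ := (Subgroup.isCyclic_iff_exists_zpowers_eq_top C).1 hc
  refine Inv.Fz.isPGroup_mulAut_of_zpowers hH (x := x) hi.dvd fun ψ _ => by_contra fun hy => ?_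
  have h1 : ψ x * ψ x ∈ zpowers x := (mul_mem_iff_of_index_two hi).2 Iff.rfl
  have h2 : ∀ c ∈ zpowers x, Commute c (ψ x * ψ x) := by
    rintro _ ⟨i, rfl⟩
    obtain ⟨j, hj⟩ := h1
    rw [← hj]; exact Commute.zpow_zpow_self x i j
  have h3 : ψ x * ψ x ∈ F := hC ▸ mem_cent.2 fun f _ => by
    by_cases e : f ∈ zpowers x
    · exact h2 f e
    · have h5 := h2 _ ((mul_mem_iff_of_index_two hi).2 (iff_of_false e hy))
      have h6 : Commute (ψ x)⁻¹ (ψ x * ψ x) := ((Commute.refl _).mul_right (Commute.refl _)).inv_left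
      simpa using (h5.mul_left h6).eq
  have h5 : orderOf (ψ x) ∣ 4 := orderOf_dvd_of_pow_eq_one (by
    rw [← hsq _ h3]; simp [pow_succ, mul_assoc])
  have h6 := (zpowers x).card_mul_index
  rw [hi, Nat.card_zpowers, ← ψ.orderOf_eq x] at h6
  have := Nat.le_of_dvd (by decide) h5
  have := Nat.le_of_dvd Nat.card_pos h16
  omega

theorem mem_four {R : Subgroup H} (h4 : Nat.card R = 4) (hsq : ∀ f ∈ R, f * f = 1) {r t x : H}
    (hr : r ∈ R) (ht : t ∈ R) (r1 : r ≠ 1) (t1 : t ≠ 1) (rt : r ≠ t) (hx : x ∈ R) :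
    x = 1 ∨ x = r ∨ x = t ∨ x = r * t := by
  have o : ∀ f ∈ R, f ≠ 1 → orderOf f = 2 := fun f hf h1 =>
    orderOf_eq_prime (by rw [sq, hsq f hf]) h1
  have hc := comm_of_sq hsq hr ht
  have e : zpowers r ⊔ zpowers t = R := eq_of_le_of_card_ge
    (sup_le (zpowers_le.2 hr) (zpowers_le.2 ht))
    (by rw [GT.card_four_group (o r hr r1) (o t ht t1) rt hc, h4])
  exact GT.mem_four_group_cases (by rw [sq, hsq r hr]) (by rw [sq, hsq t ht]) hc (e ▸ hx)

/-- The automorphisms of a four-group fixing an involution. -/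
theorem mul_mem_cent {R : Subgroup H} (h4 : Nat.card R = 4) (hsq : ∀ f ∈ R, f * f = 1) {r x y : H}
    (hr : r ∈ R) (r1 : r ≠ 1) (hx : x ∈ 𝐍[R]) (hy : y ∈ 𝐍[R]) (xr : Commute r x) (yr : Commute r y)
    (hx' : x ∉ 𝐂[R]) (hy' : y ∉ 𝐂[R]) : x * y ∈ 𝐂[R] := by
  obtain ⟨t, ht, htr⟩ : ∃ t ∈ R, t ∉ zpowers r := by
    by_contra hc
    push Not at hc
    have := card_le_of_le (show R ≤ zpowers r from hc)
    rw [h4, Nat.card_zpowers, orderOf_eq_prime (p := 2) (by rw [sq, hsq r hr]) r1] at this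
    omega
  have t1 : t ≠ 1 := fun e => htr (e ▸ one_mem _)
  have rt : r ≠ t := fun e => htr (e ▸ mem_zpowers r)
  have cent : ∀ g, Commute r g → Commute t g → g ∈ 𝐂[R] := fun g h1 h2 => mem_cent.2 fun f hf => by
    rcases mem_four h4 hsq hr ht r1 t1 rt hf with e | e | e | e <;> rw [e]
    · simp
    · exact h1
    · exact h2
    · exact h1.mul_left h2
  have key : ∀ g ∈ 𝐍[R], Commute r g → g ∉ 𝐂[R] → g * t * g⁻¹ = r * t := fun g hg h1 h2 => by
    rcases mem_four h4 hsq hr ht r1 t1 rt (conj_mem_of_norm hg ht) with e | e | e | e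
    · exact absurd (by simpa using e) t1
    · rw [mul_inv_eq_iff_eq_mul, h1.eq, mul_right_inj] at e; exact absurd e.symm rt
    · exact absurd (cent g h1 (mul_inv_eq_iff_eq_mul.1 e).symm) h2
    · exact e
  refine cent _ (xr.mul_right yr) (mul_inv_eq_iff_eq_mul.1 ?_).symm
  calc x * y * t * (x * y)⁻¹ = x * (y * t * y⁻¹) * x⁻¹ := by group
    _ = x * r * x⁻¹ * (x * t * x⁻¹) := by rw [key y hy yr hy']; group
    _ = t := by rw [key x hx xr hx', ← xr.eq, mul_inv_cancel_right, ← mul_assoc, hsq r hr, one_mul]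

theorem exists_core (Y P : Subgroup H) : ∃ Q ≤ P, Q ≤ Y ∧ Y ≤ 𝐍[Q] ∧
    Q.relIndex Y ∣ (P.relIndex Y).factorial := by
  classical
  refine ⟨((P.subgroupOf Y).normalCore).map Y.subtype, ?_, map_subtype_le _, ?_, ?_⟩
  · rintro _ ⟨x, hx, rfl⟩; exact normalCore_le (P.subgroupOf Y) hx
  · refine norm_of_forall_cj_le fun g hg => cj_le_iff.2 ?_
    rintro _ ⟨x, hx, rfl⟩
    exact ⟨⟨g, hg⟩ * x * ⟨g, hg⟩⁻¹, Normal.conj_mem inferInstance _ hx _, rfl⟩
  · have := Fintype.ofFinite (Y ⧸ P.subgroupOf Y)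
    rw [relIndex, subgroupOf, comap_map_eq_self_of_injective Y.subtype_injective, normalCore_eq_ker,
      index_ker, relIndex, index_eq_card, ← Nat.card_perm]
    exact card_subgroup_dvd_card _

theorem abs {X F : Subgroup H} [hX : X.Normal] {a s : H} (ha3 : orderOf a = 3) (haX : a ∈ X)
    (hFX : F ≤ X) (h4 : Nat.card F = 4) (hsq : ∀ f ∈ F, f * f = 1) (haF : a ∈ 𝐂[F])
    (cF : ∀ g ∈ X, g ∈ 𝐂[F] → g ∈ F ⊔ zpowers a)
    (ca : ∀ g ∈ X, Commute a g → ∀ k : ℕ, g ^ 2 ^ k = 1 → g ∈ F)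
    (s3 : ∀ v ∈ F, v ≠ 1 → ∀ g ∈ X, Commute a g → Commute v g → g ∈ F ⊔ zpowers a)
    (hs : s ∉ X) (hs3 : s ^ 3 = 1) (hsF : s ∈ 𝐂[F]) (h16 : 16 ∣ Nat.card X)
    (exp : ∀ b : H, b ≠ 1 → ∀ k : ℕ, b ^ 3 ^ k = 1 → ∀ v ∈ F, v ≠ 1 → Commute b v → ∀ g ∈ X,
      Commute b g → Commute v g → g ^ 288 = 1) : False := by
  have hF2 : IsPGroup 2 F := pg_of_sq hsq
  have hFF : F ≤ 𝐂[F] := fun f hf => mem_cent.2 fun g hg => comm_of_sq hsq hg hf
  have haZ : zpowers a ≤ 𝐂[F] := zpowers_le.2 haF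
  have three : ∀ g ∈ F ⊔ zpowers a, ∀ k : ℕ, g ^ 3 ^ k = 1 → g ∈ zpowers a := fun g hg k hk => by
    obtain ⟨f, hf, c, hc, rfl⟩ := (mem_sup_norm (norm_of_cent haZ)).1 hg
    rw [Commute.mul_pow (mem_cent.1 (haZ hc) f hf), mul_eq_one_iff_eq_inv] at hk
    have h1 : (f ^ 3 ^ k) ^ 3 = 1 := by
      rw [hk, inv_pow, ← pow_mul, mul_comm, pow_mul,
        orderOf_dvd_iff_pow_eq_one.1 ((orderOf_dvd_of_mem_zpowers hc).trans ha3.dvd), one_pow,
        inv_one]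
    rw [eq_one_of_two (m := 2) (n := 3 ^ k * 3) (x := f)
      ((Nat.Coprime.pow_right k (by decide)).mul_right (by decide)) (by rw [sq, hsq f hf])
      (by rw [pow_mul, h1]), one_mul]
    exact hc
  have caF : F ⊔ zpowers a ≤ 𝐂[zpowers a] :=
    sup_le (cent_comm haZ) (fun x hx => mem_cent.2 fun y hy => by
      obtain ⟨i, rfl⟩ := hx; obtain ⟨j, rfl⟩ := hy; exact Commute.zpow_zpow_self a j i)
  obtain ⟨P, hFP, hP⟩ := Syl.exists_ge hF2 hFX
  have hCP : ∀ g ∈ P, g ∈ 𝐂[F] → g ∈ F := fun g hg hc => by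
    obtain ⟨k, hk⟩ := pg_iff.1 hP.pg g hg
    exact ca g (hP.le hg) (mem_cent.1 (caF (cF g (hP.le hg) hc)) a (mem_zpowers a)) k hk
  have hP16 : 16 ∣ Nat.card P := by
    rw [← relIndex_mul_card hP.le] at h16
    exact (Nat.Coprime.pow_left 4 ((Nat.Prime.coprime_iff_not_dvd Nat.prime_two).2 hP.nd)).dvd_of_dvd_mul_left h16
  have : Nontrivial P := Finite.one_lt_card_iff_nontrivial.1 (by
    have := Nat.le_of_dvd Nat.card_pos hP16; omega)
  obtain ⟨⟨⟨v, hvP⟩, hv⟩, h1⟩ := ne_bot_iff_exists_ne_one.1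
    ((nontrivial_iff_ne_bot _).1 hP.pg.center_nontrivial)
  have v1 : v ≠ 1 := fun e => h1 (Subtype.ext (Subtype.ext e))
  have hPv : P ≤ 𝐜[v] := fun g hg =>
    mem_c.2 (congrArg Subtype.val (mem_center_iff.1 hv ⟨g, hg⟩)).symm
  have hvF : v ∈ F := hCP v hvP (mem_cent.2 fun f hf => (mem_c.1 (hPv (hFP hf))).symm)
  have hJ : Syl 2 P (X ⊓ 𝐜[v]) := hP.mono (le_inf hP.le hPv) inf_le_left
  have hsv : Commute v s := mem_cent.1 hsF v hvF
  obtain ⟨j, hj, k, hk, e⟩ := hJ.frattini (n := s) (cj_eq_iff.1 (by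
    rw [cj_inf, cj_normal, cj_c, ← hsv.eq, mul_inv_cancel_right]))
  obtain ⟨n, m, hm, hnm⟩ := Nat.exists_eq_pow_mul_and_not_dvd (orderOf_pos k).ne' 3 (by decide)
  have hb3 : (k ^ m) ^ 3 ^ n = 1 := by rw [← pow_mul, mul_comm, ← hnm, pow_orderOf_eq_one]
  have hbX : k ^ m ∉ X := fun hb => hs (by
    have e1 : (QuotientGroup.mk' X) s = (QuotientGroup.mk' X) k := by
      rw [e, map_mul, show (QuotientGroup.mk' X) j = 1 from (QuotientGroup.eq_one_iff j).2 hj.1,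
        one_mul]
    refine (QuotientGroup.eq_one_iff s).1 (eq_one_of_two (x := QuotientGroup.mk' X s)
      ((Nat.Prime.coprime_iff_not_dvd Nat.prime_three).2 hm) (by rw [← map_pow, hs3, map_one]) ?_)
    rw [e1, ← map_pow]; exact (QuotientGroup.eq_one_iff _).2 hb)
  set b := k ^ m
  have hbP : b ∈ 𝐂[P] := Inv.Fz.not_oddAut_iff.1 (fun ho => ho.not_isPGroup
    (aut2 hP.pg (F := F.subgroupOf P) (by rw [← h4]; exact Nat.card_congr (subgroupOfEquivOfLe hFP).toEquiv)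
      (fun f hf => Subtype.ext (hsq f hf)) (by
        rw [cent_subgroupOf hFP]
        exact le_antisymm (fun (g : P) hg => hCP g g.2 hg) fun (g : P) hg => hFF hg) hP16)) b (pow_mem hk m)
    (Odd.of_dvd_nat (Odd.pow (by decide)) (orderOf_dvd_of_pow_eq_one hb3))
  have hbF : b ∈ 𝐂[F] := cent_anti hFP hbP
  have hab : Commute a b := comm_of_norm ha3 hb3 (three _ (cF _ (hX.conj_mem a haX b)
    (mul_mem (mul_mem hbF haF) (inv_mem hbF))) 1 (by
      rw [pow_one, conj_pow, ← ha3, pow_orderOf_eq_one]; simp))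
  set Y := X ⊓ 𝐜[v] ⊓ 𝐜[b]
  have haY : a ∈ Y := ⟨⟨haX, mem_c.2 (mem_cent.1 haF v hvF)⟩, mem_c.2 hab.symm⟩
  have hPY : Syl 2 P Y := hJ.mono (le_inf hJ.le fun g hg => mem_c.2 (mem_cent.1 hbP g hg).symm)
    inf_le_left
  have h3Y : Syl 3 (zpowers a) Y := syl3_of ha3 haY fun g hg hc k hk =>
    three g (s3 v hvF v1 g hg.1.1 hc (mem_c.1 hg.1.2)) k hk
  have hidx : P.relIndex Y ∣ 3 := by
    have e1 := relIndex_mul_card hPY.le
    have e2 := relIndex_mul_card h3Y.le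
    rw [Nat.card_zpowers, ha3] at e2
    refine Nat.Coprime.dvd_of_dvd_mul_left ?_ ((Dvd.intro _ e1).trans e2.symm.dvd)
    refine Nat.Coprime.symm (Nat.coprime_of_dvd fun q hq h1 h2 => ?_)
    have := Fact.mk hq
    obtain ⟨g, hg⟩ := exists_prime_orderOf_dvd_card' q (h2.trans (Dvd.intro _ e1))
    have h5 := exp b (fun e => hbX (e ▸ one_mem _)) n hb3 v hvF v1
      (mem_cent.1 hbF v hvF).symm g g.2.1.1 (mem_c.1 g.2.2) (mem_c.1 g.2.1.2)
    have h6 : q ∣ 2 ^ 5 * 3 ^ 2 := by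
      rw [← hg, ← orderOf_coe]; exact orderOf_dvd_of_pow_eq_one h5
    rcases (Nat.Prime.dvd_mul hq).1 h6 with h7 | h7
    · exact hPY.nd ((Nat.prime_dvd_prime_iff_eq hq Nat.prime_two).1 (hq.dvd_of_dvd_pow h7) ▸ h2)
    · exact h3Y.nd ((Nat.prime_dvd_prime_iff_eq hq Nat.prime_three).1 (hq.dvd_of_dvd_pow h7) ▸ h1)
  obtain ⟨Q, hQP, hQY, hYQ, hQ⟩ := exists_core Y P
  have hD2 : IsPGroup 2 ↥(Q ⊔ F) := hP.pg.to_le (sup_le hQP hFP)
  have hQF : Q ≤ F := fun g hg => by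
    obtain ⟨d, hd⟩ := IsPGroup.iff_card.1 hD2
    have h5 := GT.CopAct.le_centralizer_of_isNilpotent_of_self_centralizing (A := zpowers a)
      hD2.isNilpotent (norm_sup (zpowers_le.2 (hYQ haY)) (norm_of_cent haZ))
      (by rw [Nat.card_zpowers, ha3, hd]; exact Nat.Coprime.pow_right d (by decide))
      fun x hx => caF (cF x (hP.le (sup_le hQP hFP hx.1))
        (cent_anti (le_inf le_sup_right (cent_comm haZ)) hx.2))
    obtain ⟨k, hk⟩ := pg_iff.1 hP.pg g (hQP hg)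
    exact ca g (hP.le (hQP hg)) (mem_cent.1 (h5 (mem_zpowers a)) g (mem_sup_left hg)).symm k hk
  have h5 : Nat.card Y ∣ 6 * 4 := by
    rw [← relIndex_mul_card hQY]
    exact mul_dvd_mul (hQ.trans (Nat.factorial_dvd_factorial (Nat.le_of_dvd (by decide) hidx)))
      (h4 ▸ card_dvd_of_le hQF)
  exact absurd ((hP16.trans (card_dvd_of_le hPY.le)).trans h5) (by decide)

end Cfsg.Agent.J3L.Two3
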