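import Mathlib
import Cfsg.Agent.J3L.LocA
import Cfsg.Agent.J3L.Two3A
import Cfsg.Agent.FG.ClassCount

/-!
The second case for the centre of order 3.
-/

set_option autoImplicit false

namespace Cfsg.Agent.J3L

open Cfsg Cfsg.Agent.Spor Cfsg.Agent.Spor.MB Cfsg.Agent.J4T Cfsg.Agent.Loc.Mss Subgroup
open Cfsg.Agent.J3L.Two3

variable {G : Type*} [Group G] [Finite G] {ζ : G → G} {a b : G}

theorem Two3.norm_AA {g c d : G} (e : AA c d = AA a b) (h1 : g * a * g⁻¹ = c)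
    (h2 : g * b * g⁻¹ = d) : g ∈ 𝐍[AA a b] := cj_eq_iff.1 (by rw [cj_AA, h1, h2, e])

namespace Hyp

variable (h : Hyp ζ) (p : Pr a b)
include h p

theorem t3_Rsq {t : G} (ht : t ∈ RR (AA a b)) : t * t = 1 := ((h.mem_RR p).1 ht).2.2

theorem t3_Usq {t : G} (ht : t ∈ UU (AA a b) a) : t * t = 1 := ((h.mem_UU p).1 ht).2.2

theorem t3_UC : UU (AA a b) a ≤ 𝐂[RR (AA a b)] := fun _ ht => ((h.mem_UU p).1 ht).2.1

theorem t3_AC : AA a b ≤ 𝐂[RR (AA a b)] :=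
  cent_comm fun _ ht => mem_cent_AA.2 ⟨((h.mem_RR p).1 ht).1, ((h.mem_RR p).1 ht).2.1⟩

theorem t3_card (h3 : C3 ζ) : Nat.card (RR (AA a b)) = 4 ∧ Nat.card (UU (AA a b) a) = 16 := by
  have h1 := h.card_RR p
  rw [h3 a p.a3, zpowers_one_eq_bot, card_bot] at h1
  exact ⟨h1, by rw [h.card_UU p, h1]⟩

theorem t3_trans (h3 : C3 ζ) {c : G} (hc : c ∈ AA a b) (h1 : c ≠ 1) :
    ∃ g ∈ 𝐍[AA a b] ⊓ 𝐂[RR (AA a b)], g * a * g⁻¹ = c := by
  obtain ⟨d, q, e⟩ := p.exists_partner hc h1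
  obtain ⟨g, g1, g2⟩ := h.trans a b c d p q
  have hg := norm_AA e g1 g2
  have h4 := (h.t3_card p h3).1
  obtain ⟨⟨r, hr⟩, r1⟩ := ne_bot_iff_exists_ne_one.1 (show RR (AA a b) ≠ ⊥ from fun e => by
    rw [e, card_bot] at h4; omega)
  have r1 : r ≠ 1 := fun e => r1 (Subtype.ext e)
  obtain ⟨s, -, s1, s2, -⟩ := h.exists_s p
  have hs : s ∈ 𝐍[AA a b] := norm_AA p.mul_left.2 (by rw [← s1.eq, mul_inv_cancel_right]) s2
  obtain ⟨k, hk⟩ := h.trans_R p (h3 a p.a3) s1 s2 hr r1 (conj_mem_of_norm' (norm_RR hg) hr)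
    (fun e => r1 (by rw [← mul_right_inj g⁻¹, ← mul_left_inj g, e]; group))
  have ha : g * s ^ k * a * (g * s ^ k)⁻¹ = c := by
    rw [mul_assoc g, ← (s1.pow_right k).eq, ← g1]; group
  have hn : g * s ^ k ∈ 𝐍[AA a b] := mul_mem hg (pow_mem hs k)
  by_cases hC : g * s ^ k ∈ 𝐂[RR (AA a b)]
  · exact ⟨_, ⟨hn, hC⟩, ha⟩
  obtain ⟨τ, t1, t2, ⟨u, hu, t3⟩, t4⟩ := h.exists_tau p (h3 a p.a3) hr r1
  have hτ : τ ∈ 𝐍[AA a b] := mem_norm_of_cj_le (by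
    rw [cj_AA, ← t1.eq, mul_inv_cancel_right, t3]
    exact AA_le (left_mem_AA a b) (mul_mem (mem_sup_left hu) (inv_mem (right_mem_AA a b))))
  refine ⟨g * s ^ k * τ, ⟨mul_mem hn hτ, mul_mem_cent h4 (fun _ => h.t3_Rsq p) hr r1 (norm_RR hn)
    (norm_RR hτ) ?_ t2 hC t4⟩, ?_⟩
  · refine (mul_inv_eq_iff_eq_mul.1 ?_).symm
    calc g * s ^ k * r * (g * s ^ k)⁻¹ = g * (s ^ k * r * (s ^ k)⁻¹) * g⁻¹ := by group
      _ = r := by rw [hk]; group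
  · rw [mul_assoc _ τ, ← t1.eq, ← ha]; group

theorem t3_inv {t c : G} (ht : t ∈ 𝐍[AA a b]) (hC : t ∈ 𝐂[RR (AA a b)]) (h2 : t * t = 1)
    (hR : t ∉ RR (AA a b)) (hc : c ∈ AA a b) : t * c * t⁻¹ = c⁻¹ := by
  by_contra hne
  have h1 := conj_mem_of_norm ht hc
  have ti : t⁻¹ = t := inv_eq_of_mul_eq_one_right h2
  obtain ⟨d, q, e⟩ := p.exists_partner (mul_mem hc h1) fun e => hne (eq_inv_of_mul_eq_one_right e)
  have hw : Commute (c * (t * c * t⁻¹)) t := by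
    change _ * t = t * _
    conv_rhs => rw [(p.comm_of_mem hc h1).eq]
    calc c * (t * c * t⁻¹) * t = t * t * c * t * c := by rw [h2]; group
      _ = _ := by rw [ti]; group
  set w := c * (t * c * t⁻¹)
  have hd : d ∈ AA a b := e ▸ right_mem_AA w d
  have hU : t ∈ UU (AA w d) w := (h.mem_UU q).2 ⟨hw, e ▸ hC, h2⟩
  have h5 : t * d * t⁻¹ * d⁻¹ = 1 := eq_one_of_two (m := 2) (n := 3) (by decide)
    (by rw [sq]; refine h.t3_Usq q ?_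
        rw [mul_assoc, mul_assoc, ← mul_assoc d]
        exact mul_mem hU (conj_mem_of_norm
          (norm_UU (norm_of_le le_rfl (right_mem_AA w d)) q.comm) (inv_mem hU)))
    (p.cube (mul_mem (conj_mem_of_norm ht hd) (inv_mem hd)))
  rw [mul_inv_eq_one, mul_inv_eq_iff_eq_mul] at h5
  exact hR (e ▸ (h.mem_RR q).2 ⟨hw, h5.symm, h2⟩)

theorem t3_64 (h3 : C3 ζ) : 64 ∣ Nat.card 𝐂[RR (AA a b)] := by
  obtain ⟨h4, h16⟩ := h.t3_card p h3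
  have hRC := (h.RR_le_UU p).trans (h.t3_UC p)
  set N := 𝐍[AA a b] ⊓ 𝐂[RR (AA a b)] with hN
  have h32 : 32 ∣ Nat.card N := by
    have e : {y | ∃ g ∈ N, g * a * g⁻¹ = y} = (AA a b : Set G) \ {1} := by
      ext y
      refine ⟨?_, fun hy => h.t3_trans p h3 hy.1 hy.2⟩
      rintro ⟨g, hg, rfl⟩
      exact ⟨conj_mem_of_norm hg.1 (left_mem_AA a b), by simpa using p.a_ne⟩
    have e1 := FG.ncard_conj_orbit_subgroup N a
    rw [e, Set.ncard_diff_singleton_of_mem (by exact one_mem _), ← Nat.card_coe_set_eq,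
      show Nat.card (AA a b : Set G) = 9 from p.card] at e1
    rw [← GT.PG.relIndex_mul_card_inf 𝐜[a] N, ← e1]
    refine mul_dvd_mul_left 8 (h4.symm.dvd.trans (card_dvd_of_le fun t ht => ?_))
    exact ⟨mem_c.2 ((h.mem_RR p).1 ht).1, cent_le_norm _ (cent_comm (h.t3_AC p) ht), hRC ht⟩
  obtain ⟨T, hT⟩ := Syl.exists 2 N
  obtain ⟨S, hTS, hS⟩ := Syl.exists_ge hT.pg (hT.le.trans inf_le_right)
  have hT32 : 32 ∣ Nat.card T := by
    rw [← relIndex_mul_card hT.le] at h32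
    exact (Nat.Coprime.pow_left 5
      ((Nat.Prime.coprime_iff_not_dvd Nat.prime_two).2 hT.nd)).dvd_of_dvd_mul_left h32
  by_contra h64
  have hST : T = S := eq_of_le_of_card_ge hTS (by
    obtain ⟨n, hn⟩ := IsPGroup.iff_card.1 hS.pg
    have h5 : n ≤ 5 := by
      by_contra h5
      exact h64 (((pow_dvd_pow 2 (by omega : 6 ≤ n)).trans hn.symm.dvd).trans (card_dvd_of_le hS.le))
    exact hn.le.trans ((Nat.pow_le_pow_right (by decide) h5).trans (Nat.le_of_dvd Nat.card_pos hT32)))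
  obtain ⟨g, hg, hle⟩ := hS.conj_le (pg_of_sq fun _ => h.t3_Usq p) (h.t3_UC p)
  set W := cj(g, UU (AA a b) a) with hW
  have hWN : W ≤ N := hle.trans (hST.ge.trans hT.le)
  have hsq : ∀ t ∈ W, t * t = 1 := by
    rintro _ ⟨t, ht, rfl⟩
    rw [← map_mul, h.t3_Usq p ht, map_one]
  have hc : Nat.card W = 16 := by rw [hW, card_cj, h16]
  obtain ⟨t, ht, htR⟩ : ∃ t ∈ W, t ∉ RR (AA a b) := by
    by_contra hc'
    push Not at hc'
    have := card_le_of_le (show W ≤ RR (AA a b) from hc')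
    omega
  have hle' : W ≤ RR (AA a b) ⊔ zpowers t := fun u hu => by
    by_cases e : u ∈ RR (AA a b)
    · exact mem_sup_left e
    have key : ∀ c ∈ AA a b, Commute c (u * t) := fun c hc => by
      refine (mul_inv_eq_iff_eq_mul.1 ?_).symm
      calc u * t * c * (u * t)⁻¹ = u * (t * c * t⁻¹) * u⁻¹ := by group
        _ = (u * c * u⁻¹)⁻¹ := by rw [h.t3_inv p (hWN ht).1 (hWN ht).2 (hsq t ht) htR hc]; group
        _ = c := by rw [h.t3_inv p (hWN hu).1 (hWN hu).2 (hsq u hu) e hc, inv_inv]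
    have := mul_mem (mem_sup_left ((h.mem_RR p).2 ⟨key a (left_mem_AA a b), key b (right_mem_AA a b),
      hsq _ (mul_mem hu ht)⟩) : u * t ∈ RR (AA a b) ⊔ zpowers t) (mem_sup_right (inv_mem (mem_zpowers t)))
    rwa [mul_inv_cancel_right] at this
  have h5 := (card_dvd_of_le (hle'.trans (sup_comm _ _).le)).trans
    (GT.card_sup_dvd_of_le_normalizer (zpowers_le.2 (cent_le_norm _ (hWN ht).2)))
  rw [hc, h4, Nat.card_zpowers, orderOf_eq_prime (p := 2) (x := t) (by rw [sq, hsq t ht])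
    fun e => htR (e ▸ one_mem _)] at h5
  exact absurd h5 (by decide)

theorem t3_comm {c g : G} (hc : c ∈ AA a b) (hg : c * g * c⁻¹ * g⁻¹ ∈ RR (AA a b))
    (hC : g ∈ 𝐂[RR (AA a b)]) : Commute c g := by
  have h1 := comm_of_three (s := g) (p.cube hc) (h.t3_Rsq p hg) (mem_cent.1 (h.t3_AC p hc) _ hg).symm
    (by rw [← mem_cent.1 hC _ hg]; group)
  rwa [mul_inv_eq_one, mul_inv_eq_iff_eq_mul] at h1

theorem t3_ca {g : G} (hC : g ∈ 𝐂[RR (AA a b)]) (ha : Commute a g) {k : ℕ}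
    (hk : g ^ 2 ^ k ∈ RR (AA a b)) : g ∈ UU (AA a b) a := by
  obtain ⟨u, hu, s, hs, rfl⟩ := h.cent_aR p ha hC
  have hn : u * s ∈ 𝐍[UU (AA a b) a] := mul_mem (norm_of_le le_rfl hu)
    (norm_UU (norm_of_le le_rfl hs) (p.comm_of_mem (left_mem_AA a b) hs))
  have h1 : IsPGroup 2 ↥(UU (AA a b) a ⊔ zpowers (u * s)) := pg_sup' (pg_of_sq fun _ => h.t3_Usq p)
    (pg_iff.2 (by
      rintro _ ⟨i, rfl⟩
      refine ⟨k + 1, ?_⟩
      have : (u * s) ^ 2 ^ (k + 1) = 1 := by rw [pow_succ, pow_mul, sq, h.t3_Rsq p hk]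
      rw [← zpow_natCast, ← zpow_mul, mul_comm, zpow_mul, zpow_natCast, this, one_zpow]))
    (zpowers_le.2 hn)
  obtain ⟨l, hl⟩ := pg_iff.1 h1 s (by
    have := mul_mem (mem_sup_left (inv_mem hu) : u⁻¹ ∈ UU (AA a b) a ⊔ zpowers (u * s))
      (mem_sup_right (mem_zpowers (u * s)))
    rwa [inv_mul_cancel_left] at this)
  rw [eq_one_of_two (Nat.Coprime.pow_left l (by decide)) hl (p.cube hs), mul_one]
  exact hu

theorem t3_s3 {g v : G} (hv : v ∈ UU (AA a b) a) (hR : v ∉ RR (AA a b)) (hC : g ∈ 𝐂[RR (AA a b)])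
    (ha : Commute a g) (hk : g * v * g⁻¹ * v⁻¹ ∈ RR (AA a b)) : g ∈ UU (AA a b) a ⊔ zpowers a := by
  obtain ⟨u, hu, s, hs, rfl⟩ := h.cent_aR p ha hC
  refine mul_mem (mem_sup_left hu) (mem_sup_right (by_contra fun hn => hR ?_))
  obtain ⟨q, e⟩ := p.of_mem hs hn
  have h1 : s * v * s⁻¹ ∈ UU (AA a b) a := conj_mem_of_norm (norm_UU (norm_of_le le_rfl hs) q.comm) hv
  have h2 : u * s * v * (u * s)⁻¹ = s * v * s⁻¹ := by
    calc _ = u * (s * v * s⁻¹) * u⁻¹ := by group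
      _ = _ := by rw [(comm_of_sq (fun _ => h.t3_Usq p) hu h1).eq, mul_inv_cancel_right]
  rw [h2] at hk
  exact e ▸ (h.mem_RR q).2 ⟨((h.mem_UU p).1 hv).1, h.t3_comm p hs hk (h.t3_UC p hv), h.t3_Usq p hv⟩

theorem t3_lift {c g : G} (hc : c ∈ 𝐍[RR (AA a b)]) (h3 : c ^ 3 = 1) (hC : g ∈ 𝐂[RR (AA a b)])
    (hg : c * g * c⁻¹ * g⁻¹ ∈ RR (AA a b)) : ∃ ρ ∈ RR (AA a b), Commute c (ρ * g) := by
  set σ := c * g * c⁻¹ * g⁻¹ with hσ
  have h1 : c * g * c⁻¹ = σ * g := by rw [hσ]; group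
  have m1 := conj_mem_of_norm hc hg
  have m2 := conj_mem_of_norm hc m1
  have h2 : c * (c * σ * c⁻¹) * c⁻¹ * (c * σ * c⁻¹) * σ = 1 := by
    have : c * (c * σ * c⁻¹) * c⁻¹ * (c * σ * c⁻¹) * σ = c ^ 3 * g * (c ^ 3)⁻¹ * g⁻¹ := by
      rw [hσ]; simp only [pow_succ, pow_zero]; group
    rw [this, h3]; group
  refine ⟨c * σ * c⁻¹, m1, mul_inv_eq_iff_eq_mul.1 ?_⟩
  calc c * (c * σ * c⁻¹ * g) * c⁻¹ = c * (c * σ * c⁻¹) * c⁻¹ * (c * g * c⁻¹) := by group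
    _ = c * (c * σ * c⁻¹) * c⁻¹ * σ * g := by rw [h1]; group
    _ = _ := by
      congr 1
      rw [mul_assoc, (comm_of_sq (fun _ => h.t3_Rsq p) m1 hg).eq, ← mul_assoc,
        mul_eq_one_iff_eq_inv] at h2
      rw [h2]; exact inv_eq_of_mul_eq_one_right (h.t3_Rsq p m1)

theorem t3_exp (h3 : C3 ζ) {c v g : G} (hc : c ∈ 𝐍[RR (AA a b)]) (c1 : c ≠ 1) {k : ℕ}
    (hk : c ^ 3 ^ k = 1) (hv : v ∈ UU (AA a b) a) (hR : v ∉ RR (AA a b)) (hC : g ∈ 𝐂[RR (AA a b)])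
    (h1 : c * v * c⁻¹ * v⁻¹ ∈ RR (AA a b)) (h2 : c * g * c⁻¹ * g⁻¹ ∈ RR (AA a b))
    (h4 : g * v * g⁻¹ * v⁻¹ ∈ RR (AA a b)) : g ^ 288 = 1 := by
  have c3 := h.cube hk
  have o3 : orderOf c = 3 := orderOf_eq_prime c3 c1
  have hRU := h.RR_le_UU p
  obtain ⟨ρ, hρ, e1⟩ := h.t3_lift p hc c3 (h.t3_UC p hv) h1
  obtain ⟨σ, hσ, e2⟩ := h.t3_lift p hc c3 hC h2
  have hσg : Commute σ g := mem_cent.1 hC σ hσ
  have e3 : (σ * g) ^ 2 = g ^ 2 := by rw [hσg.mul_pow, sq σ, h.t3_Rsq p hσ, one_mul]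
  have e4 : Commute v (g ^ 2) := by
    refine (mul_inv_eq_iff_eq_mul.1 ?_).symm
    set η := g * v * g⁻¹ * v⁻¹ with hη
    have h5 : g * v * g⁻¹ = η * v := by rw [hη]; group
    calc g ^ 2 * v * (g ^ 2)⁻¹ = g * (g * v * g⁻¹) * g⁻¹ := by rw [sq]; group
      _ = g * (η * v) * g⁻¹ := by rw [h5]
      _ = g * η * g⁻¹ * (g * v * g⁻¹) := by group
      _ = η * η * v := by rw [h5, ← mem_cent.1 hC η h4]; group
      _ = v := by rw [h.t3_Rsq p h4, one_mul]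
  have := h.exp o3 e1 (h.t3_Usq p (mul_mem (hRU hρ) hv)) (fun hm => hR (by
      rw [h3 c o3, zpowers_one_eq_bot, mem_bot, mul_eq_one_iff_inv_eq] at hm
      exact hm ▸ inv_mem hρ)) (e3 ▸ e2.pow_right 2)
    (Commute.mul_left (Commute.pow_right (mem_cent.1 hC ρ hρ) 2) e4)
  rwa [← pow_mul] at this

theorem t3_main (h3 : C3 ζ) : ¬ CaseII G := fun h2 => by
  obtain ⟨h4, h16⟩ := h.t3_card p h3
  have hRU := h.RR_le_UU p
  have hUC := h.t3_UC p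
  set R := RR (AA a b) with hR
  set U := UU (AA a b) a with hU
  have hCN : 𝐂[R] ≤ 𝐍[R] := cent_le_norm R
  set π := QuotientGroup.mk' (R.subgroupOf 𝐍[R]) with hπ
  have one : ∀ x : 𝐍[R], π x = 1 ↔ (x : G) ∈ R := fun x => QuotientGroup.eq_one_iff x
  have cm : ∀ x y : 𝐍[R], Commute (π x) (π y) ↔ (x : G) * y * (x : G)⁻¹ * (y : G)⁻¹ ∈ R := fun x y => by
    rw [← commutatorElement_eq_one_iff_commute, ← map_commutatorElement, one]; rfl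
  have mem : ∀ K : Subgroup G, R ≤ K → ∀ x : 𝐍[R], π x ∈ (K.subgroupOf 𝐍[R]).map π ↔ (x : G) ∈ K :=
    fun K hK x => ⟨fun ⟨y, hy, e⟩ => by
      have : ((y⁻¹ * x : 𝐍[R]) : G) ∈ K := hK ((one _).1 (by rw [map_mul, map_inv, e, inv_mul_cancel]))
      exact (mul_mem_cancel_left (inv_mem hy)).1 this, fun hx => ⟨x, hx, rfl⟩⟩
  have card : ∀ K : Subgroup G, R ≤ K → K ≤ 𝐍[R] →
      Nat.card ((K.subgroupOf 𝐍[R]).map π) * 4 = Nat.card K := fun K h1 h5 => by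
    have := GT.card_map_mk'_mul_card_inf (K.subgroupOf 𝐍[R]) (R.subgroupOf 𝐍[R])
    rwa [inf_eq_right.2 (show R.subgroupOf 𝐍[R] ≤ K.subgroupOf 𝐍[R] from comap_mono h1), Nat.card_congr (subgroupOfEquivOfLe h5).toEquiv,
      Nat.card_congr (subgroupOfEquivOfLe (h1.trans h5)).toEquiv, h4] at this
  have haC : a ∈ 𝐂[R] := h.t3_AC p (left_mem_AA a b)
  have sup : ∀ x : 𝐍[R], (x : G) ∈ U ⊔ zpowers a →
      π x ∈ (U.subgroupOf 𝐍[R]).map π ⊔ zpowers (π ⟨a, hCN haC⟩) := fun x hx => by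
    obtain ⟨u, hu, _, ⟨i, rfl⟩, e⟩ := (mem_sup_norm (zpowers_le.2
      (norm_UU (norm_of_le le_rfl (left_mem_AA a b)) (Commute.refl a)))).1 hx
    rw [show x = ⟨u, hCN (hUC hu)⟩ * ⟨a, hCN haC⟩ ^ i from Subtype.ext e.symm, map_mul, map_zpow]
    exact mul_mem (mem_sup_left ⟨_, hu, rfl⟩) (mem_sup_right (zpow_mem (mem_zpowers _) i))
  obtain ⟨s, s3, s1, s2, s4⟩ := h.exists_s p
  have hs : s ∈ 𝐍[R] := norm_RR (norm_AA p.mul_left.2 (by rw [← s1.eq, mul_inv_cancel_right]) s2)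
  haveI : (𝐂[R].subgroupOf 𝐍[R]).Normal := (normal_subgroupOf_iff_le_normalizer hCN).2 (norm_cent le_rfl)
  haveI : ((𝐂[R].subgroupOf 𝐍[R]).map π).Normal := Normal.map inferInstance π (QuotientGroup.mk'_surjective _)
  have hRC : R ≤ 𝐂[R] := hRU.trans hUC
  refine Two3.abs (X := (𝐂[R].subgroupOf 𝐍[R]).map π) (F := (U.subgroupOf 𝐍[R]).map π)
    (a := π ⟨a, hCN haC⟩) (s := π ⟨s, hs⟩) (orderOf_eq_prime ?_ fun e => ?_) ⟨_, haC, rfl⟩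
    (map_mono (comap_mono hUC)) ?_ ?_ ?_ ?_ ?_ ?_ (fun e => ?_) ?_ ?_ ?_ ?_
  · rw [← map_pow, show (⟨a, hCN haC⟩ : 𝐍[R]) ^ 3 = 1 from Subtype.ext p.a_cube, map_one]
  · exact p.a_ne (eq_one_of_two (m := 2) (n := 3) (by decide)
      (by rw [sq]; exact h.t3_Rsq p ((one _).1 e)) p.a_cube)
  · have := card U hRU (hUC.trans hCN); omega
  · rintro _ ⟨x, hx, rfl⟩
    rw [← map_mul, show x * x = 1 from Subtype.ext (h.t3_Usq p hx), map_one]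
  · refine mem_cent.2 ?_
    rintro _ ⟨x, hx, rfl⟩
    exact Commute.map (show Commute x ⟨a, hCN haC⟩ from Subtype.ext ((h.mem_UU p).1 hx).1.symm) π
  · rintro _ ⟨g, hg, rfl⟩ hc
    exact sup g (h2 a b p g hg fun u hu =>
      (cm g ⟨u, hCN (hUC hu)⟩).1 (mem_cent.1 hc _ ⟨_, hu, rfl⟩).symm)
  · rintro _ ⟨g, hg, rfl⟩ hc k hk
    exact ⟨g, h.t3_ca p hg (h.t3_comm p (left_mem_AA a b) ((cm _ _).1 hc) hg) (k := k)
      ((one (g ^ 2 ^ k)).1 (by rw [map_pow, hk])), rfl⟩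
  · rintro _ ⟨v, hv, rfl⟩ v1 _ ⟨g, hg, rfl⟩ hc hc'
    exact sup g (h.t3_s3 p hv (fun e => v1 ((one v).2 e)) hg
      (h.t3_comm p (left_mem_AA a b) ((cm _ _).1 hc) hg) ((cm _ _).1 hc'.symm))
  · have h5 : R ≤ ⊥ := fun ρ hρ => by
      have := h.fix_R p s1 (Or.inl s2) hρ (mem_cent.1 ((mem _ hRC _).1 e) ρ hρ).symm
      rwa [h3 a p.a3, zpowers_one_eq_bot] at this
    rw [le_bot_iff.1 h5, card_bot] at h4
    omega
  · rw [← map_pow, show (⟨s, hs⟩ : 𝐍[R]) ^ 3 = 1 from Subtype.ext (s3 ▸ pow_orderOf_eq_one s), map_one]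
  · refine mem_cent.2 ?_
    rintro _ ⟨x, hx, rfl⟩
    refine ((cm ⟨s, hs⟩ x).2 ?_).symm
    obtain ⟨ρ, hρ, v, hv, e⟩ := h.UU_fac p hx
    have : s * (ρ * v) * s⁻¹ * (ρ * v)⁻¹ = s * ρ * s⁻¹ * ρ⁻¹ := by
      calc _ = s * ρ * s⁻¹ * (s * v) * s⁻¹ * v⁻¹ * ρ⁻¹ := by group
        _ = _ := by rw [← mem_cent.1 s4 v hv]; group
    rw [show (x : G) = ρ * v from e, this]
    exact mul_mem (conj_mem_of_norm hs hρ) (inv_mem hρ)
  · have h5 := h.t3_64 p h3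
    rw [← card _ hRC hCN] at h5
    exact Nat.dvd_of_mul_dvd_mul_right (by decide : 0 < 4) h5
  · rintro c c1 k hk _ ⟨v, hv, rfl⟩ v1 e1 _ ⟨g, hg, rfl⟩ e2 e3
    obtain ⟨c, rfl⟩ := QuotientGroup.mk'_surjective _ c
    rw [← hπ] at *
    have e4 : π (c ^ (3 ^ k + 1)) = π c := by rw [map_pow, pow_succ, hk, one_mul]
    rw [← e4] at c1 e1 e2
    obtain ⟨m, hm⟩ : Even (3 ^ k + 1) := Odd.add_one (Odd.pow (by decide))
    have e5 : ((c ^ (3 ^ k + 1) : 𝐍[R]) : G) ^ 3 ^ k = 1 := by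
      have := h.t3_Rsq p ((one (c ^ 3 ^ k)).1 (by rw [map_pow, hk]))
      rw [coe_pow, ← pow_mul, mul_comm, pow_mul, hm, ← two_mul, pow_mul, sq, ← coe_pow, this, one_pow]
    have := h.t3_exp p h3 (c ^ (3 ^ k + 1)).2 (fun e => c1 ((one _).2 (e ▸ one_mem _))) e5 hv
      (fun e => v1 ((one v).2 e)) hg ((cm _ _).1 e1) ((cm _ _).1 e2) ((cm _ _).1 e3.symm)
    rw [← map_pow, show g ^ 288 = 1 from Subtype.ext this, map_one]

end Hyp

theorem Hyp.two3 (h : Hyp ζ) (h3 : C3 ζ) (p : Pr a b) : ¬ CaseII G := h.t3_main p h3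

end Cfsg.Agent.J3L
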